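import Cfsg.Agent.Lib.PGroup.Basic
import Cfsg.Agent.Lib.PGroup.Commutator

/-!
# Elementary facts for groups of order `p ^ 5`
-/

set_option autoImplicit false
set_option linter.unusedSectionVars false
set_option linter.style.haveILetI false

namespace Cfsg.Agent.OrderFive52

open scoped commutatorElement

/-- No abelian subgroup of order at least `p ^ 4`. -/
def NAB (p : ℕ) (G : Type*) [Group G] : Prop :=
  ∀ A : Subgroup G, (∀ x ∈ A, ∀ y ∈ A, x * y = y * x) → Nat.card A < p ^ 4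

variable {G : Type*} [Group G] {p : ℕ} [hp : Fact p.Prime]

theorem pow_cast_eq {q : G} (hq : q ^ p = 1) {i j : ℕ} (h : (i : ZMod p) = j) : q ^ i = q ^ j := by
  rw [pow_eq_pow_mod i hq, pow_eq_pow_mod j hq, (ZMod.natCast_eq_natCast_iff' i j p).mp h]

theorem cast_eq_of_pow_eq {q : G} (hq : q ^ p = 1) (h1 : q ≠ 1) {i j : ℕ} (h : q ^ i = q ^ j) :
    (i : ZMod p) = j := by
  rw [ZMod.natCast_eq_natCast_iff']
  have h2 := pow_eq_pow_iff_modEq.mp h
  rwa [orderOf_eq_prime hq h1] at h2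

theorem exists_pow_of_mem_zpowers {q u : G} (hq : q ^ p = 1) (hu : u ∈ Subgroup.zpowers q) :
    ∃ n : ℕ, u = q ^ n := by
  have hfin : IsOfFinOrder q := isOfFinOrder_iff_pow_eq_one.mpr ⟨p, hp.out.pos, hq⟩
  obtain ⟨n, hn⟩ := hfin.mem_powers_iff_mem_zpowers.mpr hu
  exact ⟨n, hn.symm⟩

theorem card_zpowers_le {q : G} (hq : q ^ p = 1) : Nat.card (Subgroup.zpowers q) ≤ p := by
  rw [Nat.card_zpowers]
  exact Nat.le_of_dvd hp.out.pos (orderOf_dvd_of_pow_eq_one hq)

/-- The elements of `H ⊔ ⟨u⟩` when `H` is normal and `u ^ p ∈ H`. -/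
theorem mem_sup_zpowers [Finite G] {H : Subgroup G} [hH : H.Normal] {u g : G} (hu : u ^ p ∈ H)
    (hg : g ∈ H ⊔ Subgroup.zpowers u) : ∃ h ∈ H, ∃ k < p, g = h * u ^ k := by
  obtain ⟨h, hh, w, hw, rfl⟩ := Subgroup.mem_sup_of_normal_left.mp hg
  obtain ⟨n, rfl⟩ := (isOfFinOrder_of_finite u).mem_powers_iff_mem_zpowers.mpr hw
  refine ⟨h * (u ^ p) ^ (n / p), H.mul_mem hh (H.pow_mem hu _), n % p, Nat.mod_lt _ hp.out.pos, ?_⟩
  show h * u ^ n = _
  rw [mul_assoc, ← pow_mul, ← pow_add, Nat.div_add_mod]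

theorem card_sup_zpowers_le [Finite G] {H : Subgroup G} [hH : H.Normal] {u : G} (hu : u ^ p ∈ H) :
    Nat.card (H ⊔ Subgroup.zpowers u : Subgroup G) ≤ Nat.card H * p := by
  classical
  have key : ∀ g : (H ⊔ Subgroup.zpowers u : Subgroup G), ∃ q : H × Fin p, (g : G) = q.1 * u ^ (q.2 : ℕ) := by
    intro g
    obtain ⟨h, hh, k, hk, e⟩ := mem_sup_zpowers hu g.2
    exact ⟨(⟨h, hh⟩, ⟨k, hk⟩), e⟩
  choose f hf using key
  have hinj : Function.Injective f := fun a b hab => Subtype.ext (by rw [hf a, hf b, hab])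
  refine (Nat.card_le_card_of_injective f hinj).trans ?_
  rw [Nat.card_prod, Nat.card_eq_fintype_card (α := Fin p), Fintype.card_fin]

theorem mul_card_le_sup [Finite G] (hG : IsPGroup p G) {H : Subgroup G} {u : G} (hu : u ∉ H) :
    p * Nat.card H ≤ Nat.card (H ⊔ Subgroup.zpowers u : Subgroup G) := by
  have hlt : H < H ⊔ Subgroup.zpowers u := lt_of_le_of_ne le_sup_left fun e =>
    hu (e ▸ Subgroup.mem_sup_right (Subgroup.mem_zpowers u))
  obtain ⟨a, ha⟩ := PGroup.exists_card_eq_pow hG H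
  obtain ⟨b, hb⟩ := PGroup.exists_card_eq_pow hG (H ⊔ Subgroup.zpowers u)
  have : Nat.card H < Nat.card (H ⊔ Subgroup.zpowers u : Subgroup G) := by
    by_contra h
    exact hlt.ne (Subgroup.eq_of_le_of_card_ge hlt.le (not_lt.mp h))
  rw [ha, hb] at this ⊢
  rw [← pow_succ']
  exact Nat.pow_le_pow_right hp.out.pos ((Nat.pow_lt_pow_iff_right hp.out.one_lt).mp this)

/-- Every element of the group, when `H` has index `p` and `u ∉ H`. -/
theorem exists_mul_pow [Finite G] (hG : IsPGroup p G) {H : Subgroup G} (hH : H.index = p) {u : G}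
    (hu : u ∉ H) (g : G) : ∃ h ∈ H, ∃ k < p, g = h * u ^ k := by
  haveI := PGroup.normal_of_index_eq_prime hG hH
  have hpow : u ^ p ∈ H := hH ▸ Subgroup.pow_index_mem H u
  refine mem_sup_zpowers hpow ?_
  have hc := mul_card_le_sup hG hu
  rw [Subgroup.eq_top_of_card_eq (H ⊔ Subgroup.zpowers u) (le_antisymm (Subgroup.card_le_card_group _)
    (le_trans (le_of_eq (by rw [← H.card_mul_index, hH, mul_comm])) hc))]
  exact Subgroup.mem_top g

theorem comm_mem_center_cube [Finite G] (h : Nat.card G = p ^ 3) (u w : G) :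
    ⁅u, w⁆ ∈ Subgroup.center G := by
  have hG : IsPGroup p G := IsPGroup.of_card h
  haveI : Nontrivial G := Finite.one_lt_card_iff_nontrivial.1 (by
    rw [h]; exact Nat.one_lt_pow (by norm_num) hp.out.one_lt)
  set Z := Subgroup.center G
  have hZ : Nat.card (G ⧸ Z) ≤ p ^ 2 := by
    have h1 := Subgroup.card_eq_card_quotient_mul_card_subgroup Z
    have h2 : p ≤ Nat.card Z := Nat.le_of_dvd Nat.card_pos (PGroup.dvd_card_center hG)
    have h3 : Nat.card (G ⧸ Z) * p ≤ p ^ 2 * p := by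
      rw [← pow_succ, ← h, h1]; exact Nat.mul_le_mul_left _ h2
    exact Nat.le_of_mul_le_mul_right h3 hp.out.pos
  obtain ⟨k, hk⟩ := IsPGroup.iff_card.mp (hG.to_quotient Z)
  have hab : ∀ a b : G ⧸ Z, a * b = b * a := by
    rw [hk] at hZ
    have hk2 : k ≤ 2 := (Nat.pow_le_pow_iff_right hp.out.one_lt).mp hZ
    interval_cases k
    · haveI : Subsingleton (G ⧸ Z) := (Nat.card_eq_one_iff_unique.mp (by simpa using hk)).1
      exact fun a b => Subsingleton.elim _ _
    · exact fun a b => PGroup.commute_of_card_prime (by simpa using hk) a b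
    · haveI := IsPGroup.isMulCommutative_of_card_eq_prime_sq hk
      exact fun a b => mul_comm' a b
  rw [← QuotientGroup.eq_one_iff, ← QuotientGroup.mk'_apply, map_commutatorElement,
    commutatorElement_eq_one_iff_mul_comm]
  exact hab _ _

theorem cmul_left {u v w : G} (h : ⁅v, w⁆ ∈ Subgroup.center G) : ⁅u * v, w⁆ = ⁅u, w⁆ * ⁅v, w⁆ := by
  have e : ⁅u * v, w⁆ = u * ⁅v, w⁆ * (w * u⁻¹ * w⁻¹) := by simp only [commutatorElement_def]; group
  rw [e, Subgroup.mem_center_iff.mp h u, mul_assoc, ← Subgroup.mem_center_iff.mp h (u * (w * u⁻¹ * w⁻¹))]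
  simp only [commutatorElement_def]; group

theorem cmul_right {u v w : G} (h : ⁅u, w⁆ ∈ Subgroup.center G) : ⁅u, v * w⁆ = ⁅u, v⁆ * ⁅u, w⁆ := by
  have e : ⁅u, v * w⁆ = ⁅u, v⁆ * (v * ⁅u, w⁆ * v⁻¹) := by simp only [commutatorElement_def]; group
  rw [e, Subgroup.mem_center_iff.mp h v, mul_inv_cancel_right]

theorem cpow_left {u w : G} (h : ⁅u, w⁆ ∈ Subgroup.center G) (n : ℕ) : ⁅u ^ n, w⁆ = ⁅u, w⁆ ^ n := by
  induction n with
  | zero => simp
  | succ n ih => rw [pow_succ, cmul_left h, ih, pow_succ]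

theorem cpow_right {u w : G} (h : ⁅u, w⁆ ∈ Subgroup.center G) (n : ℕ) : ⁅u, w ^ n⁆ = ⁅u, w⁆ ^ n := by
  induction n with
  | zero => simp
  | succ n ih => rw [pow_succ, cmul_right h, ih, pow_succ]

theorem cpow {u w : G} (h : ⁅u, w⁆ ∈ Subgroup.center G) (m n : ℕ) :
    ⁅u ^ m, w ^ n⁆ = ⁅u, w⁆ ^ (m * n) := by
  have h1 : ⁅u ^ m, w⁆ ∈ Subgroup.center G := by rw [cpow_left h]; exact Subgroup.pow_mem _ h m
  rw [cpow_right h1, cpow_left h, pow_mul]

theorem mem_center_quot {N : Subgroup G} [N.Normal] {e : G} (h : ∀ g : G, ⁅g, e⁆ ∈ N) :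
    (e : G ⧸ N) ∈ Subgroup.center (G ⧸ N) := by
  refine Subgroup.mem_center_iff.mpr fun q => ?_
  induction q using QuotientGroup.induction_on with
  | H g =>
    rw [← commutatorElement_eq_one_iff_mul_comm, ← QuotientGroup.mk'_apply, ← QuotientGroup.mk'_apply,
      ← map_commutatorElement, QuotientGroup.mk'_apply, QuotientGroup.eq_one_iff]
    exact h g

/-- Commutators are trivial modulo `N` as soon as generators commute modulo `N`. -/
theorem comm_mem_of_closure {N : Subgroup G} [N.Normal] {s : Set G} (h : ∀ u ∈ s, ∀ w ∈ s, ⁅u, w⁆ ∈ N)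
    {u w : G} (hu : u ∈ Subgroup.closure s) (hw : w ∈ Subgroup.closure s) : ⁅u, w⁆ ∈ N := by
  have h1 : ∀ t ∈ s, ∀ u ∈ Subgroup.closure s, ⁅u, t⁆ ∈ N := by
    intro t ht u hu
    have h2 : s ⊆ ((Subgroup.centralizer {(t : G ⧸ N)}).comap (QuotientGroup.mk' N) : Set G) := fun a ha => by
      rw [SetLike.mem_coe, Subgroup.mem_comap, Subgroup.mem_centralizer_singleton_iff,
        ← commutatorElement_eq_one_iff_mul_comm, ← QuotientGroup.mk'_apply, ← map_commutatorElement,
        QuotientGroup.mk'_apply, QuotientGroup.eq_one_iff]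
      exact h a ha t ht
    have h3 := (Subgroup.closure_le _).mpr h2 hu
    rwa [Subgroup.mem_comap, Subgroup.mem_centralizer_singleton_iff, ← commutatorElement_eq_one_iff_mul_comm,
        ← QuotientGroup.mk'_apply, ← map_commutatorElement, QuotientGroup.mk'_apply,
        QuotientGroup.eq_one_iff] at h3
  have h2 : s ⊆ ((Subgroup.centralizer {(u : G ⧸ N)}).comap (QuotientGroup.mk' N) : Set G) := fun a ha => by
    rw [SetLike.mem_coe, Subgroup.mem_comap, Subgroup.mem_centralizer_singleton_iff, eq_comm,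
      ← commutatorElement_eq_one_iff_mul_comm, ← QuotientGroup.mk'_apply, ← map_commutatorElement,
      QuotientGroup.mk'_apply, QuotientGroup.eq_one_iff]
    exact h1 a ha u hu
  have h3 := (Subgroup.closure_le _).mpr h2 hw
  rwa [Subgroup.mem_comap, Subgroup.mem_centralizer_singleton_iff, eq_comm,
    ← commutatorElement_eq_one_iff_mul_comm, ← QuotientGroup.mk'_apply, ← map_commutatorElement,
    QuotientGroup.mk'_apply, QuotientGroup.eq_one_iff] at h3

theorem mem_quot_one_iff {N : Subgroup G} [N.Normal] {g : G} : QuotientGroup.mk' N g = 1 ↔ g ∈ N := by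
  rw [QuotientGroup.mk'_apply, QuotientGroup.eq_one_iff]

end Cfsg.Agent.OrderFive52
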