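import Cfsg.Agent.OrderFive52.Basic
import Cfsg.Agent.Lib.Fusion.Alperin
import Cfsg.Agent.Fusion91.SmallEssential

/-!
# Extending automorphisms one step up the normaliser tower
-/

set_option autoImplicit false
set_option linter.unusedSectionVars false
set_option linter.style.haveILetI false

namespace Cfsg.Agent.OrderFive52

open Cfsg Cfsg.Agent.Fusion
open Cfsg.FusionSystem (normalizerIn centralizerIn)

variable {Ω : Type*} [Group Ω] {S : Subgroup Ω} [Finite S] {F : Cfsg.FusionSystem S} {p : ℕ} [hp : Fact p.Prime]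

/-- A map of the system on `N_S(P)` stabilising `P` is an automorphism of `N_S(P)`. -/
theorem isIso_normalizer {P : Subgroup Ω} {f : Ω → Ω} (hf : IsMap F (normalizerIn S P) f) (hP : P ≤ S)
    (him : f '' (P : Set Ω) = (P : Set Ω)) : IsIso F (normalizerIn S P) (normalizerIn S P) f := by
  have hm : ∀ g ∈ normalizerIn S P, f g ∈ normalizerIn S P := fun g hg =>
    map_mem_normalizer hf (le_normalizerIn hP) him hg hg.2
  refine ⟨hf, Set.ext fun y => ⟨?_, fun hy =>
    surjOn_of_card_le (normalizerIn_le S P) hf.injOn hm le_rfl y hy⟩⟩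
  rintro ⟨g, hg, rfl⟩
  exact hm g hg

/-- An automorphism of a receptive `P` normalising `Aut_S(P)` extends to `N_S(P)`. -/
theorem extend_normalizer (hS : IsPGroup p S) (hF : F.IsSaturated p) {P : Subgroup Ω}
    (hn : F.IsFullyNormalized P) {α : MulAut P} (hα : α ∈ F.autGroup P)
    (hnorm : ∀ γ ∈ autInducedBy S P, α * γ * α⁻¹ ∈ autInducedBy S P) :
    ∃ β ∈ F.autGroup (normalizerIn S P), Set.EqOn (autFun β) (autFun α) (P : Set Ω) := by
  have hPS := hn.1
  have hiso := (mem_autGroup hPS).mp hα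
  have hM : IsExtendable S P (autFun α) (normalizerIn S P) := by
    refine ⟨normalizerIn_le S P, fun g hg => ⟨hg.2, ?_⟩⟩
    have h1 := hnorm (conjAutHom S P ⟨g, hg⟩) (by rw [← range_conjAutHom]; exact ⟨_, rfl⟩)
    obtain ⟨h, hh, hhx⟩ := mem_autInducedBy.mp h1
    refine ⟨h, hh, fun r hr => ?_⟩
    have := hhx (α ⟨r, hr⟩)
    rw [MulAut.mul_apply, MulAut.mul_apply, MulAut.inv_apply_self] at this
    rw [autFun_of_mem _ (conj_mem_of_mem_normalizer hg.2 hr), autFun_of_mem _ hr]
    exact this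
  obtain ⟨f, hf, he⟩ := receptive_extend (receptive_of_fullyNormalized hS hF hn) hiso hM
  have hfN : IsMap F (normalizerIn S P) f := hf.mono le_sup_right
  obtain ⟨β, hβ, hβe⟩ := (isIso_normalizer hfN hPS ((Set.image_congr he).trans hiso.2)).exists_aut
  exact ⟨β, hβ, fun x hx => (hβe (le_normalizerIn hPS hx)).trans (he hx)⟩

/-- When `P` is not essential and has index `p` in `N_S(P)`, every automorphism extends. -/
theorem extend_of_not_essential (hS : IsPGroup p S) (hF : F.IsSaturated p) {P : Subgroup Ω}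
    (hn : F.IsFullyNormalized P) (hPS : P < S) (hcard : Nat.card (normalizerIn S P) = p * Nat.card P)
    (hne : ¬ F.IsEssential p P) {α : MulAut P} (hα : α ∈ F.autGroup P) :
    ∃ β ∈ F.autGroup (normalizerIn S P), Set.EqOn (autFun β) (autFun α) (P : Set Ω) := by
  rcases extGen_dichotomy hS hF hPS hn with ⟨-, heq⟩ | ⟨hess, -⟩
  swap
  · exact absurd hess hne
  rw [← heq] at hα
  have hPN : P ≤ normalizerIn S P := le_normalizerIn hPS.le
  suffices h : ∀ γ ∈ extGen F P,
      (∃ β ∈ F.autGroup (normalizerIn S P), Set.EqOn (autFun β) (autFun γ) (P : Set Ω)) ∧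
      ∃ β ∈ F.autGroup (normalizerIn S P), Set.EqOn (autFun β) (autFun γ⁻¹) (P : Set Ω) from (h α hα).1
  have hbase : ∀ γ, IsExtendableAut F P γ →
      ∃ β ∈ F.autGroup (normalizerIn S P), Set.EqOn (autFun β) (autFun γ) (P : Set Ω) := by
    rintro γ ⟨Q, f, hPQ, hf, he⟩
    haveI := finite_of_le hf.dom_le
    haveI := finite_of_le hPS.le
    have hlt : P < normalizerIn Q P := lt_normalizerIn (hS.to_le hf.dom_le) hPQ
    have hle : normalizerIn Q P ≤ normalizerIn S P := inf_le_inf_right _ hf.dom_le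
    haveI := finite_of_le (normalizerIn_le S P)
    haveI := finite_of_le ((normalizerIn_le Q P).trans hf.dom_le)
    have heq : normalizerIn Q P = normalizerIn S P := by
      refine Subgroup.eq_of_le_of_card_ge hle ?_
      obtain ⟨i, hi⟩ := IsPGroup.iff_card.mp (hS.to_le hPS.le)
      obtain ⟨j, hj⟩ := IsPGroup.iff_card.mp (hS.to_le (hle.trans (normalizerIn_le S P)))
      have hlt' : Nat.card P < Nat.card (normalizerIn Q P) := by
        by_contra h
        exact hlt.ne (Subgroup.eq_of_le_of_card_ge hlt.le (not_lt.mp h))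
      rw [hcard, hi, hj]
      rw [hi, hj] at hlt'
      rw [← pow_succ']
      exact Nat.pow_le_pow_right hp.out.pos ((Nat.pow_lt_pow_iff_right hp.out.one_lt).mp hlt')
    have hfN : IsMap F (normalizerIn S P) f := hf.mono (heq.ge.trans (normalizerIn_le Q P))
    have him : f '' (P : Set Ω) = (P : Set Ω) := (Set.image_congr he).trans (autFun_image γ)
    obtain ⟨β, hβ, hβe⟩ := (isIso_normalizer hfN hPS.le him).exists_aut
    exact ⟨β, hβ, fun x hx => (hβe (hPN hx)).trans (he hx)⟩
  intro γ hγ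
  induction hγ using Subgroup.closure_induction with
  | mem x hx => exact ⟨hbase x hx, hbase _ hx.inv⟩
  | one =>
    refine ⟨⟨1, one_mem _, fun x hx => ?_⟩, ⟨1, one_mem _, fun x hx => ?_⟩⟩
    · exact (autFun_one (hPN hx)).trans (autFun_one hx).symm
    · rw [inv_one]; exact (autFun_one (hPN hx)).trans (autFun_one hx).symm
  | mul x y _ _ hxC hyC =>
    have hmul : ∀ {x y : MulAut P}, (∃ β ∈ F.autGroup (normalizerIn S P), Set.EqOn (autFun β) (autFun x) (P : Set Ω)) →
        (∃ β ∈ F.autGroup (normalizerIn S P), Set.EqOn (autFun β) (autFun y) (P : Set Ω)) →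
        ∃ β ∈ F.autGroup (normalizerIn S P), Set.EqOn (autFun β) (autFun (x * y)) (P : Set Ω) := by
      rintro x y ⟨a, ha, hax⟩ ⟨b, hb, hby⟩
      refine ⟨a * b, mul_mem ha hb, fun u hu => ?_⟩
      have hu' : autFun y u ∈ P := by rw [autFun_of_mem _ hu]; exact (y _).2
      rw [autFun_mul a b (hPN hu), Function.comp_apply, hby hu, hax hu', autFun_mul x y hu]
      rfl
    rw [mul_inv_rev]
    exact ⟨hmul hxC.1 hyC.1, hmul hyC.2 hxC.2⟩
  | inv x _ hx => rw [inv_inv]; exact ⟨hx.2, hx.1⟩

theorem fullyNormalized_of_normal {P : Subgroup Ω} (hP : P ≤ S) (hn : S ≤ Subgroup.normalizer (P : Set Ω)) :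
    F.IsFullyNormalized P := by
  refine ⟨hP, fun Q _ => ?_⟩
  rw [show normalizerIn S P = S from inf_eq_left.mpr hn]
  exact Subgroup.card_le_of_le (normalizerIn_le S Q)

/-- `N_S(P)` inside the group `S`. -/
theorem normalizer_subgroupOf {P : Subgroup Ω} (hP : P ≤ S) :
    Subgroup.normalizer ((P.subgroupOf S : Subgroup S) : Set S) = (normalizerIn S P).subgroupOf S := by
  ext g
  rw [Subgroup.mem_normalizer_iff, Subgroup.mem_subgroupOf]
  constructor
  · intro h
    refine ⟨g.2, Subgroup.mem_normalizer_iff.mpr fun x => ⟨fun hx => ?_, fun hx => ?_⟩⟩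
    · exact Subgroup.mem_subgroupOf.mp ((h ⟨x, hP hx⟩).mp (Subgroup.mem_subgroupOf.mpr hx))
    · have hxS : x ∈ S := by
        have := S.mul_mem (S.mul_mem (S.inv_mem g.2) (hP hx)) g.2
        simpa [mul_assoc] using this
      exact Subgroup.mem_subgroupOf.mp ((h ⟨x, hxS⟩).mpr (Subgroup.mem_subgroupOf.mpr hx))
  · intro h x
    simp only [Subgroup.mem_subgroupOf, Subgroup.coe_mul, Subgroup.coe_inv]
    exact Subgroup.mem_normalizer_iff.mp h.2 x

theorem card_subgroupOf_eq {P : Subgroup Ω} (hP : P ≤ S) : Nat.card (P.subgroupOf S) = Nat.card P :=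
  Nat.card_congr (Subgroup.subgroupOfEquivOfLe hP).toEquiv

/-- An automorphism of `P` as a map `f` between subgroups of the group `S`. -/
theorem mem_subgroupOf_map {P Q : Subgroup Ω} {f : Ω → Ω} (h : IsIso F P Q f) {x : S} (hx : x ∈ P.subgroupOf S) :
    (⟨f x, h.cod_le (h.mem (Subgroup.mem_subgroupOf.mp hx))⟩ : S) ∈ Q.subgroupOf S :=
  Subgroup.mem_subgroupOf.mpr (h.mem (Subgroup.mem_subgroupOf.mp hx))

/-- `p`-power bound: a subgroup of `S` with normaliser bigger than index `p` has normaliser `S`. -/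
theorem normalizerIn_eq_of_card {P : Subgroup Ω} {k : ℕ} (hS : IsPGroup p S) (hcard : Nat.card S = p ^ (k + 1))
    (h : p ^ k < Nat.card (normalizerIn S P)) : normalizerIn S P = S := by
  haveI := finite_of_le (normalizerIn_le S P)
  refine Subgroup.eq_of_le_of_card_ge (normalizerIn_le S P) ?_
  obtain ⟨j, hj⟩ := IsPGroup.iff_card.mp (hS.to_le (normalizerIn_le S P))
  rw [hj] at h ⊢
  rw [hcard]
  exact Nat.pow_le_pow_right hp.out.pos ((Nat.pow_lt_pow_iff_right hp.out.one_lt).mp h)

end Cfsg.Agent.OrderFive52
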