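import Cfsg.Agent.OrderFive52.Pearl

/-!
# The normaliser tower of a pearl
-/

set_option autoImplicit false
set_option linter.unusedSectionVars false
set_option linter.style.haveILetI false

namespace Cfsg.Agent.OrderFive52

open Subgroup FG38 SectRank81
open scoped commutatorElement

variable {G : Type*} [Group G] {p : ℕ} [hp : Fact p.Prime] [Finite G]

namespace Pearl

variable {y : G} (h : Pearl p y)
include h

theorem y_not_two : y ∉ filt G 2 := h.cfg.x_not_mem

theorem pow_four : y ^ p ∈ filt G 4 := h.cfg.center_eq.le h.cfg.x_pow_mem_center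

theorem cent_eq : Subgroup.centralizer ({y} : Set G) = filt G 4 ⊔ Subgroup.zpowers y := by
  refine (Subgroup.eq_of_le_of_card_ge (sup_le (fun u hu => ?_) ?_) ?_).symm
  · exact Subgroup.center_le_centralizer _ (h.four_center hu)
  · exact Subgroup.zpowers_le.mpr (Subgroup.mem_centralizer_singleton_iff.mpr rfl)
  · have := mul_card_le_sup h.isPGroup (H := filt G 4) (u := y)
      (fun hy => h.y_not_two (filt_antitone (by norm_num) hy))
    rw [h.cfg.cent]
    rw [h.card_four] at this
    rwa [sq]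

theorem card_N1 : Nat.card (filt G 3 ⊔ Subgroup.zpowers y : Subgroup G) = p ^ 3 := by
  refine le_antisymm ((card_sup_zpowers_le (filt_antitone (by norm_num) h.pow_four)).trans
    (by rw [h.card_three, ← pow_succ])) ?_
  have := mul_card_le_sup h.isPGroup (H := filt G 3) (u := y)
    (fun hy => h.y_not_two (filt_antitone (by norm_num) hy))
  rwa [h.card_three, ← pow_succ'] at this

theorem card_N2 : Nat.card (filt G 2 ⊔ Subgroup.zpowers y : Subgroup G) = p ^ 4 := by
  refine le_antisymm ((card_sup_zpowers_le (filt_antitone (by norm_num) h.pow_four)).trans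
    (by rw [h.card_two, ← pow_succ])) ?_
  have := mul_card_le_sup h.isPGroup (H := filt G 2) (u := y) h.y_not_two
  rwa [h.card_two, ← pow_succ'] at this

theorem N1_le_N2 : filt G 3 ⊔ Subgroup.zpowers y ≤ filt G 2 ⊔ Subgroup.zpowers y :=
  sup_le_sup_right (filt_antitone (by norm_num)) _

theorem comm_two_mem {u : G} (hu : u ∈ filt G 2) (g : G) : ⁅g, u⁆ ∈ filt G 3 := by
  rw [← commutatorElement_inv]; exact inv_mem (h.comm_top hu g)

theorem N1_le_normalizer : filt G 3 ⊔ Subgroup.zpowers y ≤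
    Subgroup.normalizer (Subgroup.centralizer ({y} : Set G) : Set G) := by
  refine sup_le (fun u hu => ?_) (Subgroup.zpowers_le.mpr ?_)
  · have key : ∀ u ∈ filt G 3, ∀ r ∈ Subgroup.centralizer ({y} : Set G),
        u * r * u⁻¹ ∈ Subgroup.centralizer ({y} : Set G) := fun u hu r hr => by
      rw [show u * r * u⁻¹ = ⁅u, r⁆ * r by rw [commutatorElement_def, inv_mul_cancel_right]]
      exact mul_mem (Subgroup.center_le_centralizer _ (h.four_center (h.comm_top hu r))) hr
    refine Subgroup.mem_normalizer_iff.mpr fun r => ⟨key u hu r, fun hr => ?_⟩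
    simpa [mul_assoc] using key u⁻¹ (inv_mem hu) _ hr
  · exact Subgroup.le_normalizer (Subgroup.mem_centralizer_singleton_iff.mpr rfl)

theorem normalizer_N1 :
    Subgroup.normalizer ((filt G 3 ⊔ Subgroup.zpowers y : Subgroup G) : Set G) = filt G 2 ⊔ Subgroup.zpowers y := by
  set N1 := filt G 3 ⊔ Subgroup.zpowers y
  have hle : filt G 2 ⊔ Subgroup.zpowers y ≤ Subgroup.normalizer (N1 : Set G) := by
    refine sup_le (fun u hu => ?_) ((le_sup_right : _ ≤ N1).trans Subgroup.le_normalizer)
    have key : ∀ u ∈ filt G 2, ∀ r ∈ N1, u * r * u⁻¹ ∈ N1 := fun u hu r hr => by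
      rw [show u * r * u⁻¹ = ⁅u, r⁆ * r by rw [commutatorElement_def, inv_mul_cancel_right]]
      exact mul_mem (Subgroup.mem_sup_left (h.comm_top hu r)) hr
    refine Subgroup.mem_normalizer_iff.mpr fun r => ⟨key u hu r, fun hr => ?_⟩
    simpa [mul_assoc] using key u⁻¹ (inv_mem hu) _ hr
  refine (Subgroup.eq_of_le_of_card_ge hle ?_).symm
  obtain ⟨k, hk⟩ := PGroup.exists_card_eq_pow h.isPGroup (Subgroup.normalizer (N1 : Set G))
  rw [h.card_N2, hk]
  refine Nat.pow_le_pow_right hp.out.pos ?_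
  by_contra hlt
  have htop : Subgroup.normalizer (N1 : Set G) = ⊤ := Subgroup.eq_top_of_card_eq _ (le_antisymm
    (Subgroup.card_le_card_group _) (by rw [hk, h.cfg.card]; exact Nat.pow_le_pow_right hp.out.pos (by omega)))
  have h2 : filt G 2 ≤ N1 := fun a ha => by
    obtain ⟨g, hg⟩ := h.cfg.exists_conj ha
    have hgN : g ∈ Subgroup.normalizer (N1 : Set G) := htop ▸ Subgroup.mem_top g
    have h1 : a * y ∈ N1 := by
      rw [hg]; exact (Subgroup.mem_normalizer_iff.mp hgN y).mp (Subgroup.mem_sup_right (Subgroup.mem_zpowers y))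
    simpa using mul_mem h1 (inv_mem (Subgroup.mem_sup_right (Subgroup.mem_zpowers y) : y ∈ N1))
  have heq := Subgroup.eq_of_le_of_card_ge h2 (by rw [h.card_two, h.card_N1])
  exact h.y_not_two (heq ▸ Subgroup.mem_sup_right (Subgroup.mem_zpowers y))

/-- Elements of `N₁` outside `γ₃` are conjugate into `C(y)`. -/
theorem conj_into {n : G} (hn : n ∈ filt G 3 ⊔ Subgroup.zpowers y) (hn3 : n ∉ filt G 3) :
    ∃ g : G, g * n * g⁻¹ ∈ Subgroup.centralizer ({y} : Set G) := by
  obtain ⟨t, ht, k, hk, rfl⟩ := mem_sup_zpowers (filt_antitone (by norm_num) h.pow_four) hn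
  have hk0 : ¬ p ∣ k := fun hd => by
    rw [Nat.eq_zero_of_dvd_of_lt hd hk, pow_zero, mul_one] at hn3
    exact hn3 ht
  obtain ⟨g, hg⟩ := (h.cfg.cfg_pow hk0).exists_conj (filt_antitone (by norm_num : 2 ≤ 3) ht)
  refine ⟨g⁻¹, ?_⟩
  rw [hg, inv_inv, show g⁻¹ * (g * y ^ k * g⁻¹) * g = y ^ k by group]
  exact Subgroup.pow_mem _ (Subgroup.mem_centralizer_singleton_iff.mpr rfl) k

/-- No normal subgroup of order `p ^ 3` contains a self-centralising subgroup of order `p ^ 2`. -/
theorem no_normal_cube {M A : Subgroup G} [M.Normal] (hM : Nat.card M = p ^ 3) (hAM : A ≤ M)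
    (hA : Nat.card A = p ^ 2) (hC : Subgroup.centralizer (A : Set G) ≤ A) : False := by
  have hq : Nat.card (G ⧸ M) = p ^ 2 := by
    have := Subgroup.card_eq_card_quotient_mul_card_subgroup M
    rw [hM, h.cfg.card, show p ^ 5 = p ^ 2 * p ^ 3 by ring] at this
    exact (Nat.eq_of_mul_eq_mul_right (pow_pos hp.out.pos 3) this).symm
  haveI := IsPGroup.isMulCommutative_of_card_eq_prime_sq hq
  have hle : filt G 2 ≤ M := by
    rw [filt_two, commutator_def]
    exact Subgroup.commutator_le.mpr fun a _ b _ => by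
      rw [← mem_quot_one_iff, map_commutatorElement, commutatorElement_eq_one_iff_mul_comm]
      exact mul_comm' _ _
  have heq : M = filt G 2 := (Subgroup.eq_of_le_of_card_ge hle (by rw [hM, h.card_two])).symm
  have hMA : M ≤ A := fun m hm => hC (Subgroup.mem_centralizer_iff.mpr fun a ha =>
    commutatorElement_eq_one_iff_mul_comm.mp (h.two_comm (heq ▸ hAM ha) (heq ▸ hm)))
  have := Subgroup.card_le_of_le hMA
  rw [hM, hA] at this
  exact absurd this (not_le.mpr (Nat.pow_lt_pow_right hp.out.one_lt (by norm_num)))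

/-- A characteristic series of `N₂` with steps of order at most `p`. -/
theorem exists_series {v : G} (D : PearlData p y v) :
    ∃ L : ℕ → Subgroup (filt G 2 ⊔ Subgroup.zpowers y : Subgroup G), (∀ i, (L i).Characteristic) ∧ L 0 = ⊥ ∧
      L 4 = ⊤ ∧ ∀ i < 4, (L i).relIndex (L (i + 1)) ≤ p := by
  set N2 := filt G 2 ⊔ Subgroup.zpowers y with hN2
  have hyp : y ^ p ∈ filt G 2 := filt_antitone (by norm_num) h.pow_four
  set C := commutator ↥N2 with hC
  set B := ⁅C, (⊤ : Subgroup N2)⁆ with hB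
  set K := Subgroup.centralizer (C : Set N2) with hK
  have h32 : filt G 3 ≤ filt G 2 := filt_antitone (by norm_num)
  have h3N : filt G 3 ≤ N2 := h32.trans le_sup_left
  have hdec : ∀ n : N2, ∃ u ∈ filt G 2, ∃ k < p, (n : G) = u * y ^ k := fun n => mem_sup_zpowers hyp n.2
  have hC3 : C.map N2.subtype = filt G 3 := by
    refine le_antisymm ?_ ?_
    · rw [hC, commutator_def, Subgroup.map_commutator, Subgroup.commutator_le]
      rintro _ ⟨a, -, rfl⟩ _ ⟨b, -, rfl⟩
      obtain ⟨u, hu, k, -, ea⟩ := hdec a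
      obtain ⟨w, hw, l, -, eb⟩ := hdec b
      show ⁅(a : G), (b : G)⁆ ∈ filt G 3
      rw [ea, eb]
      have c1 : ∀ t ∈ filt G 2, ∀ g : G, Commute (t : G ⧸ filt G 3) (g : G ⧸ filt G 3) := fun t ht g => by
        rw [commute_iff_eq, ← commutatorElement_eq_one_iff_mul_comm, ← QuotientGroup.mk'_apply,
          ← QuotientGroup.mk'_apply, ← map_commutatorElement, mem_quot_one_iff]
        exact h.comm_top ht g
      rw [← mem_quot_one_iff, map_commutatorElement, commutatorElement_eq_one_iff_mul_comm, map_mul, map_mul,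
        map_pow, map_pow]
      exact (((c1 u hu w).mul_right ((c1 u hu y).pow_right l)).mul_left
        (((c1 w hw y).symm.pow_left k).mul_right ((Commute.refl _).pow_pow k l))).eq
    · have hs3 : ⁅⁅v, y⁆, y⁆ ∈ filt G 3 := h.comm_top D.s2 y
      have hm : ∀ a ∈ N2, ∀ b ∈ N2, ⁅a, b⁆ ∈ C.map N2.subtype := fun a ha b hb =>
        ⟨_, PGroup.commutatorElement_mem_commutator ⟨a, ha⟩ ⟨b, hb⟩, map_commutatorElement N2.subtype _ _⟩
      have hyN : y ∈ N2 := Subgroup.mem_sup_right (Subgroup.mem_zpowers y)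
      have h4 : filt G 4 ≤ C.map N2.subtype := by
        have hq4 : ⁅⁅⁅v, y⁆, y⁆, y⁆ ∈ filt G 4 := h.comm_top hs3 y
        have e := Subgroup.eq_of_le_of_card_ge (Subgroup.zpowers_le.mpr hq4) (by
          rw [h.card_four, Nat.card_zpowers, orderOf_eq_prime (h.four_pow hq4) D.q1])
        rw [← e]
        exact Subgroup.zpowers_le.mpr (hm _ (h3N hs3) y hyN)
      have hi : ((filt G 4).subgroupOf (filt G 3)).index = p := index_of_card (k := 1) h.card_three (by
        rw [Nat.card_congr (Subgroup.subgroupOfEquivOfLe (filt_antitone (by norm_num))).toEquiv, h.card_four,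
          pow_one])
      intro t ht
      obtain ⟨w, hw, k, -, e⟩ :=
        exists_mul_pow (h.isPGroup.to_subgroup _) hi (u := ⟨_, hs3⟩) D.s3' ⟨t, ht⟩
      have e' : t = w * ⁅⁅v, y⁆, y⁆ ^ k := congrArg Subtype.val e
      rw [e']
      exact mul_mem (h4 hw) (pow_mem (hm _ (Subgroup.mem_sup_left D.s2) y hyN) k)
  have hB4 : B.map N2.subtype = filt G 4 := by
    rw [hB, Subgroup.map_commutator, hC3, ← MonoidHom.range_eq_map, Subgroup.range_subtype]
    refine le_antisymm (Subgroup.commutator_le.mpr fun a ha b _ => h.comm_top ha b) ?_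
    have hs3 : ⁅⁅v, y⁆, y⁆ ∈ filt G 3 := h.comm_top D.s2 y
    have hq4 : ⁅⁅⁅v, y⁆, y⁆, y⁆ ∈ filt G 4 := h.comm_top hs3 y
    have e := Subgroup.eq_of_le_of_card_ge (Subgroup.zpowers_le.mpr hq4) (by
      rw [h.card_four, Nat.card_zpowers, orderOf_eq_prime (h.four_pow hq4) D.q1])
    rw [← e]
    exact Subgroup.zpowers_le.mpr
      (Subgroup.commutator_mem_commutator hs3 (Subgroup.mem_sup_right (Subgroup.mem_zpowers y)))
  have hK2 : K.map N2.subtype = filt G 2 := by
    refine le_antisymm ?_ fun u hu => ⟨⟨u, Subgroup.mem_sup_left hu⟩, ?_, rfl⟩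
    · rintro _ ⟨n, hn, rfl⟩
      obtain ⟨u, hu, k, hk, e⟩ := hdec n
      have hs3 : ⁅⁅v, y⁆, y⁆ ∈ filt G 3 := h.comm_top D.s2 y
      obtain ⟨c, hc, hce⟩ := hC3.ge hs3
      have h1 : Commute (⁅⁅v, y⁆, y⁆) (u * y ^ k) := by
        rw [← e, ← hce]
        exact congrArg Subtype.val (Subgroup.mem_centralizer_iff.mp hn c hc)
      have h2 : Commute (⁅⁅v, y⁆, y⁆) u := commutatorElement_eq_one_iff_mul_comm.mp (h.two_comm (h32 hs3) hu)
      have h3 : Commute (⁅⁅v, y⁆, y⁆) (y ^ k) := by simpa using h2.inv_right.mul_right h1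
      by_cases hk0 : k = 0
      · show (n : G) ∈ filt G 2
        rw [e, hk0, pow_zero, mul_one]; exact hu
      · exfalso
        obtain ⟨l, hl⟩ := exists_pow_eq_self_of_coprime (x := y) (n := k) (by
          obtain ⟨j, hj⟩ := h.isPGroup.exists_orderOf_eq_pow y
          rw [hj]
          exact Nat.Coprime.pow_right j ((hp.out.coprime_iff_not_dvd.2 fun hd =>
            hk0 (Nat.eq_zero_of_dvd_of_lt hd hk)).symm))
        have h4 := h3.pow_right l
        rw [hl] at h4
        exact D.q1 (commutatorElement_eq_one_iff_mul_comm.mpr h4.eq)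
    · refine Subgroup.mem_centralizer_iff.mpr fun c hc => Subtype.ext ?_
      exact commutatorElement_eq_one_iff_mul_comm.mp (h.two_comm (h32 (hC3.le ⟨c, hc, rfl⟩)) hu)
  have hcard : ∀ L : Subgroup N2, Nat.card L = Nat.card (L.map N2.subtype) := fun L =>
    (Subgroup.card_map_of_injective N2.subtype_injective).symm
  have hBC : B ≤ C := by rw [hB, hC]; exact Subgroup.commutator_le_left _ _
  have hCK : C ≤ K := fun c hc => by
    have : (c : G) ∈ filt G 2 := h32 (hC3.le ⟨c, hc, rfl⟩)
    obtain ⟨k, hk, hke⟩ := hK2.ge this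
    exact (Subtype.ext hke : k = c) ▸ hk
  refine ⟨fun i => if i = 0 then ⊥ else if i = 1 then B else if i = 2 then C else if i = 3 then K else ⊤,
    fun i => ?_, rfl, rfl, fun i hi => ?_⟩
  · simp only [hB, hK, hC]
    split_ifs <;> infer_instance
  · have hrel : ∀ A A' : Subgroup N2, A ≤ A' → Nat.card A' ≤ Nat.card A * p → A.relIndex A' ≤ p := by
      intro A A' hAA' hc
      have h1 := (A.subgroupOf A').card_mul_index
      rw [Nat.card_congr (Subgroup.subgroupOfEquivOfLe hAA').toEquiv] at h1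
      exact Nat.le_of_mul_le_mul_left (h1 ▸ hc : Nat.card A * (A.subgroupOf A').index ≤ Nat.card A * p) Nat.card_pos
    interval_cases i <;> simp only [Nat.reduceAdd, if_pos, if_neg, OfNat.ofNat_ne_zero, one_ne_zero, not_false_eq_true, Nat.succ_ne_self, Nat.reduceEqDiff]
    · exact hrel _ _ bot_le (by rw [Subgroup.card_bot, one_mul, hcard B, hB4, h.card_four])
    · exact hrel _ _ hBC (by rw [hcard B, hB4, hcard C, hC3, h.card_four, h.card_three, sq])
    · exact hrel _ _ hCK (by rw [hcard C, hC3, hcard K, hK2, h.card_two, h.card_three, ← pow_succ])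
    · exact hrel _ _ le_top (by rw [hcard K, hK2, h.card_two, Subgroup.card_top, ← pow_succ, h.card_N2])

end Pearl

end Cfsg.Agent.OrderFive52
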