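import Cfsg.Agent.OrderFive52.Basic

/-!
# Groups of order `p ^ 5` with a self-centralising elementary subgroup of order `p ^ 3`, not normal
-/

set_option autoImplicit false
set_option linter.unusedSectionVars false
set_option linter.style.haveILetI false

namespace Cfsg.Agent.OrderFive52

open scoped commutatorElement

variable {G : Type*} [Group G] {p : ℕ} [hp : Fact p.Prime] [Finite G]

/-- The input: `x` acts on `R` as a transvection with centre `a` and axis `⟨a, f⟩`. -/
structure Three0 (p : ℕ) (R N : Subgroup G) (a f y x : G) : Prop where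
  card : Nat.card G = p ^ 5
  nab : NAB p G
  cN : Nat.card N = p ^ 4
  cR : Nat.card R = p ^ 3
  le : R ≤ N
  norm : Subgroup.normalizer (R : Set G) = N
  comm : ∀ r ∈ R, ∀ s ∈ R, r * s = s * r
  exp : ∀ r ∈ R, r ^ p = 1
  gen : ∀ r ∈ R, ∃ i j k : ℕ, r = a ^ i * f ^ j * y ^ k
  ha : a ∈ R
  hf : f ∈ R
  hy : y ∈ R
  hxN : x ∈ N
  hxR : x ∉ R
  xa : x * a = a * x
  xf : x * f = f * x
  xy : ⁅x, y⁆ ∈ Subgroup.zpowers a
  xy1 : ⁅x, y⁆ ≠ 1

/-- The structure derived from it: `z = ⁅v, y⁆` for some `v ∉ N`. -/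
structure Three (p : ℕ) (R N : Subgroup G) (a f y v z : G) : Prop where
  card : Nat.card G = p ^ 5
  nab : NAB p G
  cN : Nat.card N = p ^ 4
  cR : Nat.card R = p ^ 3
  le : R ≤ N
  norm : Subgroup.normalizer (R : Set G) = N
  exp : ∀ r ∈ R, r ^ p = 1
  gen : ∀ r ∈ R, ∃ i j k : ℕ, r = a ^ i * f ^ j * y ^ k
  ha : a ∈ R
  hf : f ∈ R
  hy : y ∈ R
  commR : ∀ r ∈ R, ∀ s ∈ R, r * s = s * r
  idx : N.index = p
  vN : v ∉ N
  zdef : ⁅v, y⁆ = z
  zN : z ∈ N
  zR : z ∉ R
  aZ : a ∈ Subgroup.center G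
  fN : ∀ n ∈ N, n * f = f * n
  commN : ∀ n ∈ N, ∀ m ∈ N, ⁅n, m⁆ ∈ Subgroup.zpowers a
  zy1 : ⁅z, y⁆ ≠ 1
  fA : f ∉ Subgroup.zpowers a
  vf : ⁅v, f⁆ ∈ Subgroup.zpowers a
  vz : ⁅v, z⁆ ∈ Subgroup.zpowers a ⊔ Subgroup.zpowers f

theorem Three0.isPGroup {R N : Subgroup G} {a f y x : G} (h : Three0 p R N a f y x) : IsPGroup p G :=
  IsPGroup.of_card h.card

theorem index_of_card {H : Subgroup G} {k : ℕ} (hG : Nat.card G = p ^ (k + 1)) (hH : Nat.card H = p ^ k) :
    H.index = p := by
  have := H.card_mul_index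
  rw [hH, hG, pow_succ] at this
  exact Nat.eq_of_mul_eq_mul_left (pow_pos hp.out.pos k) this

theorem Three0.exists_three {R N : Subgroup G} {a f y x : G} (h : Three0 p R N a f y x) :
    ∃ v z, Three p R N a f y v z := by
  have hG := h.isPGroup
  set A := Subgroup.zpowers a
  have hap : a ^ p = 1 := h.exp a h.ha
  have hNi : N.index = p := index_of_card h.card h.cN
  haveI hNn : N.Normal := PGroup.normal_of_index_eq_prime hG hNi
  set R' := R.subgroupOf N
  have hR'i : R'.index = p := by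
    refine index_of_card h.cN ?_
    rw [Nat.card_congr (Subgroup.subgroupOfEquivOfLe h.le).toEquiv, h.cR]
  have hdecN : ∀ n ∈ N, ∃ r ∈ R, ∃ k < p, n = r * x ^ k := fun n hn => by
    obtain ⟨r, hr, k, hk, e⟩ := exists_mul_pow (hG.to_subgroup N) hR'i (u := ⟨x, h.hxN⟩) h.hxR ⟨n, hn⟩
    exact ⟨r, hr, k, hk, congrArg Subtype.val e⟩
  -- elements of `N` commute with `a` and `f`
  have hcent : ∀ e ∈ R, x * e = e * x → ∀ n ∈ N, n * e = e * n := by
    intro e he hxe n hn
    obtain ⟨r, hr, k, -, rfl⟩ := hdecN n hn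
    exact ((show Commute r e from h.comm r hr e he).mul_left ((show Commute x e from hxe).pow_left k)).eq
  have haN := hcent a h.ha h.xa
  have hfN := hcent f h.hf h.xf
  -- commutators of `N`
  have hAc : ∀ n ∈ N, ∀ m ∈ N, ⁅n, m⁆ ∈ A := by
    intro n hn m hm
    let A' : Subgroup N := Subgroup.zpowers ⟨a, h.le h.ha⟩
    haveI : A'.Normal := ⟨fun u hu g => by
      obtain ⟨i, rfl⟩ := hu
      have hc : Commute g (⟨a, h.le h.ha⟩ ^ i) :=
        (show Commute g ⟨a, h.le h.ha⟩ from Subtype.ext (haN g g.2)).zpow_right i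
      show g * ⟨a, h.le h.ha⟩ ^ i * g⁻¹ ∈ A'
      rw [hc.eq, mul_inv_cancel_right]
      exact Subgroup.zpow_mem _ (Subgroup.mem_zpowers _) i⟩
    let s : Set N := {q | (q : G) ∈ R ∨ (q : G) = x}
    have hmem : ∀ q : N, q ∈ Subgroup.closure s := by
      rintro ⟨q, hq⟩
      obtain ⟨r, hr, k, -, e⟩ := hdecN q hq
      have e' : (⟨q, hq⟩ : N) = ⟨r, h.le hr⟩ * ⟨x, h.hxN⟩ ^ k := Subtype.ext (by simpa using e)
      rw [e']
      exact mul_mem (Subgroup.subset_closure (Or.inl hr)) (pow_mem (by exact Subgroup.subset_closure (Or.inr rfl)) k)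
    have hs : ∀ u ∈ s, ∀ w ∈ s, ⁅u, w⁆ ∈ A' := by
      have hxr : ∀ r ∈ R, ⁅x, r⁆ ∈ A := by
        intro r hr
        obtain ⟨i, j, k, rfl⟩ := h.gen r hr
        obtain ⟨t, ht⟩ := exists_pow_of_mem_zpowers hap h.xy
        have e1 : x * y * x⁻¹ = a ^ t * y := by rw [← ht, commutatorElement_def, inv_mul_cancel_right]
        have e2 : x * (a ^ i * f ^ j * y ^ k) * x⁻¹ = a ^ i * f ^ j * (a ^ t * y) ^ k := by
          rw [← e1, conj_pow]
          have c1 : Commute x (a ^ i * f ^ j) :=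
            ((show Commute x a from h.xa).pow_right i).mul_right ((show Commute x f from h.xf).pow_right j)
          rw [← mul_assoc x, c1.eq]
          group
        have hat : Commute (a ^ t) y := (show Commute a y from h.comm a h.ha y h.hy).pow_left t
        rw [commutatorElement_def, e2, hat.mul_pow]
        have hc : Commute (a ^ i * f ^ j) ((a ^ t) ^ k) :=
          h.comm _ (mul_mem (pow_mem h.ha i) (pow_mem h.hf j)) _ (pow_mem (pow_mem h.ha t) k)
        rw [← mul_assoc, hc.eq, mul_assoc ((a ^ t) ^ k), mul_inv_cancel_right]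
        exact Subgroup.pow_mem _ (Subgroup.pow_mem _ (Subgroup.mem_zpowers a) t) k
      have hA' : ∀ q : N, (q : G) ∈ A → q ∈ A' := by
        rintro q ⟨i, hi⟩
        exact ⟨i, Subtype.ext (by simpa using hi)⟩
      rintro u (hu | hu) w (hw | hw) <;> refine hA' _ ?_ <;> push_cast [commutatorElement_def]
      · rw [h.comm _ hu _ hw, mul_inv_cancel_right, mul_inv_cancel]
        exact one_mem _
      · rw [hw, ← commutatorElement_def, ← commutatorElement_inv]
        exact inv_mem (hxr _ hu)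
      · rw [hu, ← commutatorElement_def]
        exact hxr _ hw
      · rw [hu, hw, mul_inv_cancel_right, mul_inv_cancel]
        exact one_mem _
    obtain ⟨i, hi⟩ := comm_mem_of_closure hs (hmem ⟨n, hn⟩) (hmem ⟨m, hm⟩)
    exact ⟨i, by simpa [commutatorElement_def] using congrArg Subtype.val hi⟩
  have hA : A = ⁅N, N⁆ := by
    refine le_antisymm ?_ (Subgroup.commutator_le.mpr hAc)
    have ha1 : a ≠ 1 := fun e => h.xy1 (by simpa [e] using h.xy)
    obtain ⟨t, ht⟩ := exists_pow_of_mem_zpowers hap h.xy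
    have hle : Subgroup.zpowers ⁅x, y⁆ ≤ A := Subgroup.zpowers_le.mpr h.xy
    haveI : Finite A := inferInstance
    have := Subgroup.eq_of_le_of_card_ge hle (by
      rw [Nat.card_zpowers, Nat.card_zpowers, orderOf_eq_prime hap ha1,
        orderOf_eq_prime (by rw [ht, ← pow_mul, mul_comm, pow_mul, hap, one_pow]) h.xy1])
    rw [← this]
    exact Subgroup.zpowers_le.mpr (Subgroup.commutator_mem_commutator h.hxN (h.le h.hy))
  have hAn : A.Normal := by rw [hA]; infer_instance
  have ha1 : a ≠ 1 := fun e => h.xy1 (by simpa [e] using h.xy)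
  have haZ : a ∈ Subgroup.center G :=
    PGroup.le_center_of_card_eq_prime hG (N := A) (by rw [Nat.card_zpowers, orderOf_eq_prime hap ha1])
      (Subgroup.mem_zpowers a)
  have hyne : ∀ k : ℕ, (∀ n ∈ N, n * y ^ k = y ^ k * n) → (k : ZMod p) = 0 := by
    intro k hk
    by_contra h0
    obtain ⟨t, ht⟩ := exists_pow_of_mem_zpowers hap h.xy
    apply h.xy1
    have e1 : (y ^ k) ^ ((k : ZMod p)⁻¹).val = y := by
      rw [← pow_mul, pow_cast_eq (h.exp y h.hy) (j := 1)
        (by push_cast; rw [ZMod.natCast_zmod_val, mul_inv_cancel₀ h0]), pow_one]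
    rw [commutatorElement_eq_one_iff_mul_comm, ← e1]
    exact ((show Commute x (y ^ k) from hk x h.hxN).pow_right _).eq
  -- the centre of `N`
  set W := A ⊔ Subgroup.zpowers f with hWdef
  have hWR : W ≤ R := sup_le (Subgroup.zpowers_le.mpr h.ha) (Subgroup.zpowers_le.mpr h.hf)
  have hWiff : ∀ n ∈ N, (∀ m ∈ N, n * m = m * n) → n ∈ W := by
    intro n hn hc
    obtain ⟨r, hr, k, hk, rfl⟩ := hdecN n hn
    have hk0 : (k : ZMod p) = 0 := by
      by_contra h0
      apply h.xy1
      have hck : Commute (x ^ k) y := by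
        have h1 : r * x ^ k * y = y * (r * x ^ k) := hc y (h.le h.hy)
        rw [← mul_assoc y, ← h.comm r hr y h.hy, mul_assoc, mul_assoc] at h1
        exact mul_left_cancel h1
      have hxp : x ^ p ∈ R := by
        haveI : R'.Normal := PGroup.normal_of_index_eq_prime (hG.to_subgroup N) hR'i
        have h3 := Subgroup.pow_index_mem R' (⟨x, h.hxN⟩ : N)
        rwa [hR'i] at h3
      obtain ⟨m, hm⟩ : ∃ m, k * ((k : ZMod p)⁻¹).val = 1 + p * m := by
        have h2 : ((k * ((k : ZMod p)⁻¹).val : ℕ) : ZMod p) = ((1 : ℕ) : ZMod p) := by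
          push_cast; rw [ZMod.natCast_zmod_val, mul_inv_cancel₀ h0]
        rw [ZMod.natCast_eq_natCast_iff'] at h2
        have hd := Nat.mod_add_div (k * ((k : ZMod p)⁻¹).val) p
        rw [h2, Nat.one_mod_eq_one.mpr hp.out.ne_one] at hd
        exact ⟨_, hd.symm⟩
      have e := hck.pow_left ((k : ZMod p)⁻¹).val
      rw [← pow_mul, hm, pow_add, pow_one, pow_mul] at e
      rw [commutatorElement_eq_one_iff_mul_comm]
      have hxpy : Commute ((x ^ p) ^ m) y := (show Commute (x ^ p) y from h.comm _ hxp y h.hy).pow_left m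
      have h5 := e.eq
      rw [mul_assoc, hxpy.eq, ← mul_assoc, ← mul_assoc] at h5
      exact mul_right_cancel h5
    have hk' : k = 0 := Nat.eq_zero_of_dvd_of_lt ((ZMod.natCast_eq_zero_iff k p).mp hk0) hk
    subst hk'
    rw [pow_zero, mul_one] at hc ⊢
    obtain ⟨i, j, l, rfl⟩ := h.gen r hr
    have hl : (l : ZMod p) = 0 := hyne l fun n hn => by
      have h1 := hc n hn
      have h2 : Commute (a ^ i * f ^ j) n :=
        ((show Commute a n from (haN n hn).symm).pow_left i).mul_left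
          ((show Commute f n from (hfN n hn).symm).pow_left j)
      rw [mul_assoc, ← mul_assoc n, ← h2.eq, mul_assoc (a ^ i * f ^ j) n] at h1
      exact (mul_left_cancel h1).symm
    rw [pow_cast_eq (h.exp y h.hy) (j := 0) (by rw [hl, Nat.cast_zero]), pow_zero, mul_one]
    exact W.mul_mem (Subgroup.mem_sup_left (Subgroup.pow_mem _ (Subgroup.mem_zpowers a) i))
      (Subgroup.mem_sup_right (Subgroup.pow_mem _ (Subgroup.mem_zpowers f) j))
  have hWN : ∀ w ∈ W, ∀ n ∈ N, n * w = w * n := by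
    intro w hw n hn
    have hle : W ≤ Subgroup.centralizer {n} := sup_le
      (Subgroup.zpowers_le.mpr (Subgroup.mem_centralizer_singleton_iff.mpr (haN n hn).symm))
      (Subgroup.zpowers_le.mpr (Subgroup.mem_centralizer_singleton_iff.mpr (hfN n hn).symm))
    exact (Subgroup.mem_centralizer_singleton_iff.mp (hle hw)).symm
  have hWn : W.Normal := ⟨fun w hw g => hWiff _ (hNn.conj_mem w (h.le (hWR hw)) g) fun m hm => by
    have h1 := hWN w hw (g⁻¹ * m * g) (by simpa using hNn.conj_mem m hm g⁻¹)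
    calc g * w * g⁻¹ * m = g * (w * (g⁻¹ * m * g)) * g⁻¹ := by group
      _ = g * ((g⁻¹ * m * g) * w) * g⁻¹ := by rw [h1]
      _ = m * (g * w * g⁻¹) := by group⟩
  obtain ⟨v, hv⟩ : ∃ v, v ∉ N := by
    by_contra hall
    push Not at hall
    rw [(Subgroup.eq_top_iff' N).mpr hall, Subgroup.index_top] at hNi
    exact hp.out.ne_one hNi.symm
  set z := ⁅v, y⁆ with hz
  have hzN : z ∈ N := by
    rw [hz, commutatorElement_def, show v * y * v⁻¹ * y⁻¹ = (v * y * v⁻¹) * y⁻¹ from rfl]
    exact mul_mem (hNn.conj_mem y (h.le h.hy) v) (inv_mem (h.le h.hy))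
  have hzR : z ∉ R := by
    intro hzR
    refine hv (h.norm.le ?_)
    have hmap : ∀ r ∈ R, v * r * v⁻¹ ∈ R := by
      intro r hr
      obtain ⟨i, j, k, rfl⟩ := h.gen r hr
      have e1 : v * y * v⁻¹ = z * y := by rw [hz, commutatorElement_def, inv_mul_cancel_right]
      have e2 : v * (a ^ i * f ^ j * y ^ k) * v⁻¹ = v * (a ^ i * f ^ j) * v⁻¹ * (z * y) ^ k := by
        rw [← e1, conj_pow]; group
      rw [e2]
      exact mul_mem (hWR (hWn.conj_mem _ (W.mul_mem
        (Subgroup.mem_sup_left (Subgroup.pow_mem _ (Subgroup.mem_zpowers a) i))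
        (Subgroup.mem_sup_right (Subgroup.pow_mem _ (Subgroup.mem_zpowers f) j))) v))
        (pow_mem (mul_mem hzR h.hy) k)
    refine Subgroup.mem_normalizer_iff.mpr fun r => ⟨hmap r, fun hr => ?_⟩
    have hvinj : Function.Injective (fun r : R => (⟨v * r * v⁻¹, hmap r r.2⟩ : R)) := fun r s e =>
      Subtype.ext (by simpa using congrArg Subtype.val e)
    obtain ⟨⟨r', hr'⟩, e⟩ := (Finite.injective_iff_surjective.mp hvinj) ⟨_, hr⟩
    have : r' = r := by simpa using congrArg Subtype.val e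
    exact this ▸ hr'
  have hfA : f ∉ A := by
    intro hf
    haveI : A.Normal := hAn
    have h1 : R ≤ A ⊔ Subgroup.zpowers y := fun r hr => by
      obtain ⟨i, j, k, rfl⟩ := h.gen r hr
      exact mul_mem (mul_mem (Subgroup.mem_sup_left (Subgroup.pow_mem _ (Subgroup.mem_zpowers a) i))
        (Subgroup.mem_sup_left (Subgroup.pow_mem _ hf j)))
        (Subgroup.mem_sup_right (Subgroup.pow_mem _ (Subgroup.mem_zpowers y) k))
    have h2 := (Subgroup.card_le_of_le h1).trans
      ((card_sup_zpowers_le (by rw [h.exp y h.hy]; exact one_mem _)).trans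
        (Nat.mul_le_mul_right p (card_zpowers_le hap)))
    rw [h.cR] at h2
    have := hp.out.two_le
    nlinarith
  have hzy1 : ⁅z, y⁆ ≠ 1 := by
    intro h1
    haveI hR'n : R'.Normal := PGroup.normal_of_index_eq_prime (hG.to_subgroup N) hR'i
    have hsup : ∀ n ∈ N, ∃ r ∈ R, ∃ k < p, n = r * z ^ k := fun n hn => by
      obtain ⟨r, hr, k, hk, e⟩ := exists_mul_pow (hG.to_subgroup N) hR'i (u := ⟨z, hzN⟩) hzR ⟨n, hn⟩
      exact ⟨r, hr, k, hk, congrArg Subtype.val e⟩
    obtain ⟨r, hr, k, -, e⟩ := hsup x h.hxN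
    apply h.xy1
    rw [commutatorElement_eq_one_iff_mul_comm, e]
    exact ((show Commute r y from h.comm r hr y h.hy).mul_left
      ((show Commute z y from commutatorElement_eq_one_iff_mul_comm.mp h1).pow_left k)).eq
  haveI := hAn
  haveI := hWn
  have hvf : ⁅v, f⁆ ∈ A := by
    -- `f` is central modulo `A`
    haveI : (W.map (QuotientGroup.mk' A)).Normal :=
      Subgroup.Normal.map hWn _ (QuotientGroup.mk'_surjective A)
    have hmap : W.map (QuotientGroup.mk' A) = Subgroup.zpowers (f : G ⧸ A) := by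
      rw [hWdef, Subgroup.map_sup, (Subgroup.map_eq_bot_iff A).mpr (by rw [QuotientGroup.ker_mk']),
        bot_sup_eq, MonoidHom.map_zpowers, QuotientGroup.mk'_apply]
    have hc : Nat.card (W.map (QuotientGroup.mk' A)) = p := by
      rw [hmap, Nat.card_zpowers]
      refine orderOf_eq_prime ?_ (fun e => hfA ((QuotientGroup.eq_one_iff f).mp e))
      rw [← QuotientGroup.mk_pow, h.exp f h.hf, QuotientGroup.mk_one]
    have hcen := PGroup.le_center_of_card_eq_prime (hG.to_quotient A) hc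
      ⟨f, Subgroup.mem_sup_right (Subgroup.mem_zpowers f), rfl⟩
    rw [← mem_quot_one_iff, map_commutatorElement, commutatorElement_eq_one_iff_mul_comm]
    exact Subgroup.mem_center_iff.mp hcen _
  have hvz : ⁅v, z⁆ ∈ W := by
    have hWc : p ^ 2 ≤ Nat.card W := by
      have := mul_card_le_sup hG hfA
      rw [Nat.card_zpowers, orderOf_eq_prime hap ha1, ← sq] at this
      exact this
    have hWc' : Nat.card W ≤ p ^ 2 := by
      refine (card_sup_zpowers_le (by rw [h.exp f h.hf]; exact one_mem _)).trans ?_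
      rw [sq]; exact Nat.mul_le_mul_right _ (card_zpowers_le hap)
    have hq : Nat.card (G ⧸ W) = p ^ 3 := by
      have := Subgroup.card_eq_card_quotient_mul_card_subgroup W
      rw [le_antisymm hWc' hWc, h.card, show p ^ 5 = p ^ 3 * p ^ 2 by ring] at this
      exact (Nat.eq_of_mul_eq_mul_right (pow_pos hp.out.pos 2) this).symm
    rw [hz, ← mem_quot_one_iff, map_commutatorElement, map_commutatorElement,
      commutatorElement_eq_one_iff_mul_comm]
    exact (Subgroup.mem_center_iff.mp (comm_mem_center_cube hq _ _) _)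
  exact ⟨v, z, h.card, h.nab, h.cN, h.cR, h.le, h.norm, h.exp, h.gen, h.ha, h.hf, h.hy, h.comm, hNi, hv,
    hz.symm, hzN, hzR, haZ, hfN, hAc, hzy1, hfA, hvf, hvz⟩

end Cfsg.Agent.OrderFive52
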