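import Cfsg.Agent.OrderFive52.RankOne
import Cfsg.Agent.OrderFive52.Three
import Cfsg.Agent.OrderFive52.PearlTower
import Cfsg.Agent.OrderFive52.Fusion
import Cfsg.Agent.LocalEvenD.RankThreePearl.Setup
import Cfsg.Agent.LocalEvenD.RankThreePearl.Main
import Cfsg.Agent.LocalEvenD.RankThreePearl.GLExtra
import Cfsg.Agent.Fusion91.EssentialFourCenter
import Cfsg.Agent.AbelianIndexP.Essential

/-!
# The essential subgroups moving the centre
-/

set_option autoImplicit false
set_option linter.unusedSectionVars false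
set_option linter.style.haveILetI false
set_option maxHeartbeats 800000

namespace Cfsg.Agent.OrderFive52

open Cfsg Cfsg.Agent.Fusion
open Cfsg.Agent.LocalEvenD.RTE
open Cfsg.FusionSystem (normalizerIn centralizerIn)
open scoped commutatorElement

variable {Ω : Type*} [Group Ω] {S : Subgroup Ω} [Finite S] {F : Cfsg.FusionSystem S} {p : ℕ} [hp : Fact p.Prime]

/-- The standing hypotheses. -/
structure Hyp (p : ℕ) (F : Cfsg.FusionSystem S) : Prop where
  pS : IsPGroup p S
  sat : F.IsSaturated p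
  card : Nat.card S = p ^ 5
  nab : NAB p S
  odd : 2 < p

theorem Hyp.card_lt {F : Cfsg.FusionSystem S} (H : Hyp p F) {A : Subgroup Ω} (hA : A ≤ S)
    (hc : ∀ x ∈ A, ∀ y ∈ A, x * y = y * x) : Nat.card A < p ^ 4 := by
  rw [← card_subgroupOf_eq hA]
  exact H.nab _ fun x hx y hy => Subtype.ext (hc x (Subgroup.mem_subgroupOf.mp hx) y (Subgroup.mem_subgroupOf.mp hy))

theorem Hyp.lt_S {F : Cfsg.FusionSystem S} (H : Hyp p F) {E : Subgroup Ω} (hE : F.IsEssential p E) : E < S :=
  AbelianIndexP.lt_of_essential H.pS H.sat hE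

variable (H : Hyp p F)
include H

theorem card_le_four {E : Subgroup Ω} (hE : F.IsEssential p E) : Nat.card E ≤ p ^ 4 := by
  have hlt := H.lt_S hE
  haveI := finite_of_le hlt.le
  obtain ⟨k, hk⟩ := IsPGroup.iff_card.mp (H.pS.to_le hlt.le)
  rw [hk]
  refine Nat.pow_le_pow_right hp.out.pos ?_
  by_contra h
  refine hlt.ne (Subgroup.eq_of_le_of_card_ge hlt.le ?_)
  rw [hk, H.card]
  exact Nat.pow_le_pow_right hp.out.pos (by omega)

omit H in
theorem card_frattini_mul (E : Subgroup Ω) [Finite E] :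
    Nat.card E = (frattini E).index * Nat.card (frattini E) := by
  rw [mul_comm, Subgroup.card_mul_index]

theorem frattini_index_cases {E : Subgroup Ω} (hE : F.IsEssential p E) :
    (frattini E).index = p ^ 2 ∨ (frattini E).index = p ^ 3 := by
  have hES := hE.1.1
  haveI := finite_of_le hES
  have hEp : IsPGroup p E := H.pS.to_le hES
  obtain ⟨n, hn⟩ := IsPGroup.iff_card.mp (hEp.to_quotient (frattini E))
  have hn' : (frattini E).index = p ^ n := hn
  have h2 : 1 < n := by
    by_contra h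
    push Not at h
    refine Fusion91.not_isCyclic_of_essential hE (PGroup.isCyclic_of_index_frattini_le hEp ?_)
    rw [hn']
    calc p ^ n ≤ p ^ 1 := Nat.pow_le_pow_right hp.out.pos h
      _ = p := pow_one p
  have h3 : n < 4 := by
    by_contra h
    have h1 := card_le_four H hE
    have e := card_frattini_mul E
    rw [hn'] at e
    have hpos : 0 < Nat.card (frattini E) := Nat.card_pos
    have hge : p ^ 4 ≤ p ^ n := Nat.pow_le_pow_right hp.out.pos (by omega)
    have hbot : Nat.card (frattini E) = 1 := by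
      have h5 : p ^ n * Nat.card (frattini E) ≤ p ^ n * 1 := by rw [mul_one, ← e]; exact h1.trans hge
      exact le_antisymm (Nat.le_of_mul_le_mul_left h5 (pow_pos hp.out.pos n)) hpos
    rw [hbot, mul_one] at e
    have hab := LocalEvenD.RTP.elementary_of_bot H.pS hES (Subgroup.card_eq_one.mp hbot)
    have := H.card_lt hES hab.1
    omega
  obtain rfl | rfl : n = 2 ∨ n = 3 := by omega
  · exact Or.inl hn'
  · exact Or.inr hn'

omit H in
theorem ctx_of_outer (hp2 : 2 < p) {E : Subgroup Ω} [Finite E] (hEp : IsPGroup p E)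
    {L : Type*} [Group L] [Finite L]
    (ρ : L →* MulAut (E ⧸ frattini E)) (hinj : Function.Injective ρ) (T : Sylow p L) (hne : T.toSubgroup ≠ ⊥)
    (hspe : Cfsg.IsStronglyPEmbedded p (Subgroup.closure (linkSet T.toSubgroup)))
    (hc : (frattini E).index = p ^ 3) :
    letI : CommGroup (E ⧸ frattini E) := fratComm hEp
    Ctx p ρ (Subgroup.closure (linkSet T.toSubgroup)) T.toSubgroup :=
  letI : CommGroup (E ⧸ frattini E) := fratComm hEp
  { inj := hinj
    exp := fun v => by
      induction v using QuotientGroup.induction_on with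
      | H q => exact (QuotientGroup.eq_one_iff _).mpr (PGroup.pow_mem_frattini hEp q)
    card := hc
    odd := hp2
    nle := LocalEven61.normalizersLE_of_spe hspe
    cic := LocalEven61.conjInterCoprime_of_normalizersLE (LocalEven61.normalizersLE_of_spe hspe)
    ne_top := hspe.2.1
    le := fun t ht => by
      rcases eq_or_ne t 1 with rfl | ht1
      · exact one_mem _
      · exact Subgroup.subset_closure ⟨t, ht, ht1, by simpa using ht⟩
    isP := T.isPGroup'
    max := fun Q hQ hTQ => T.is_maximal' hQ hTQ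
    ne_bot := hne }

omit H in
theorem le_link {L : Type*} [Group L] (T : Subgroup L) : T ≤ Subgroup.closure (linkSet T) := fun t ht => by
  rcases eq_or_ne t 1 with rfl | ht1
  · exact one_mem _
  · exact Subgroup.subset_closure ⟨t, ht, ht1, by simpa using ht⟩

/-- An elementary abelian essential subgroup of order `p ^ 3`. -/
theorem three_of_elementary {E : Subgroup Ω} (hE : F.IsEssential p E) (hcard : Nat.card E = p ^ 3)
    (hcomm : ∀ x ∈ E, ∀ y ∈ E, x * y = y * x) (hexp : ∀ x ∈ E, x ^ p = 1) :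
    Nat.card (normalizerIn S E) = p ^ 4 ∧
    ∃ a f b x : S,
      Three0 p (E.subgroupOf S) ((normalizerIn S E).subgroupOf S) a f b x ∧
      ∀ c : ZMod p, c ≠ 0 → ∃ β ∈ F.autGroup (normalizerIn S E),
        autFun β (a : Ω) = (a : Ω) ^ c.val ∧ autFun β (b : Ω) = (b : Ω) ^ c⁻¹.val ∧
          autFun β (f : Ω) = (f : Ω) := by
  classical
  have hES := hE.1.1
  haveI := finite_of_le hES
  haveI := finite_mulAut E
  have hEp : IsPGroup p E := H.pS.to_le hES
  have hbot : frattini E = ⊥ :=
    PGroup.frattini_eq_bot (fun a b => Subtype.ext (hcomm a a.2 b b.2)) (fun a => Subtype.ext (hexp a a.2))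
  have hc : (frattini E).index = p ^ 3 := by rw [hbot, Subgroup.index_bot, hcard]
  obtain ⟨hnI, ρ, T, θ, hinj, hρ, hT, hne, hspe, hθr, hθk, hθ⟩ := LocalEvenD.RTP.outer_setup H.pS H.sat hE
  let N := normalizerIn S E
  haveI := hnI
  letI : CommGroup (E ⧸ frattini E) := fratComm hEp
  have C := ctx_of_outer H.odd hEp ρ hinj T hne hspe hc
  have hEN : E ≤ N := le_normalizerIn hES
  have hNS : N ≤ S := normalizerIn_le S E
  haveI := finite_of_le hNS
  have hidx : (E.subgroupOf N).index = p := by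
    rw [← hθk, Subgroup.index_ker, hθr]; exact C.card_eq
  have hNc : Nat.card N = p ^ 4 := by
    rw [← Subgroup.card_mul_index (E.subgroupOf N), hidx,
      Nat.card_congr (Subgroup.subgroupOfEquivOfLe hEN).toEquiv, hcard, ← pow_succ]
  refine ⟨hNc, ?_⟩
  obtain ⟨z, hz, hz1⟩ := T.toSubgroup.bot_or_exists_ne_one.resolve_left hne
  obtain ⟨x, hxz⟩ : z ∈ θ.range := by rw [hθr]; exact hz
  have hxE : (x : Ω) ∉ E := fun h => hz1 (by
    rw [← hxz, ← MonoidHom.mem_ker, hθk]; exact h)
  have hρx : ∀ q : E, ρ z (q : E ⧸ frattini E) = ((conjAutHom S E x q : E) : E ⧸ frattini E) := fun q => by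
    rw [← hxz]; exact hθ x q
  have hmk : Function.Injective (QuotientGroup.mk : E → E ⧸ frattini E) := fun u w e => by
    rw [QuotientGroup.eq, hbot, Subgroup.mem_bot, inv_mul_eq_one] at e
    exact e
  -- a conjugate of `E` inside `N`
  have hNnorm : ((N.subgroupOf S) : Subgroup S).Normal :=
    PGroup.normal_of_index_eq_prime H.pS (index_of_card (k := 4) H.card (by rw [card_subgroupOf_eq hNS, hNc]))
  obtain ⟨g, hgS, hgN⟩ : ∃ g ∈ S, g ∉ N := by
    by_contra hall
    push Not at hall
    have := Subgroup.card_le_of_le (hall : S ≤ N)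
    rw [H.card, hNc] at this
    exact absurd this (not_le.mpr (Nat.pow_lt_pow_right hp.out.one_lt (by norm_num)))
  set E' := E.map (MulAut.conj g).toMonoidHom with hE'
  have hE'N : E' ≤ N := by
    rintro _ ⟨u, hu, rfl⟩
    exact Subgroup.mem_subgroupOf.mp (hNnorm.conj_mem ⟨u, hES hu⟩ (Subgroup.mem_subgroupOf.mpr (hEN hu)) ⟨g, hgS⟩)
  have hE'c : Nat.card E' = p ^ 3 := by
    rw [hE', Subgroup.card_map_of_injective (MulAut.conj g).injective, hcard]
  haveI := finite_of_le (hE'N.trans hNS)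
  have hE'E : E' ≠ E := by
    intro e
    refine hgN ⟨hgS, Subgroup.mem_normalizer_iff.mpr fun u => ⟨fun hu => ?_, fun hu => ?_⟩⟩
    · exact e ▸ ⟨u, hu, rfl⟩
    · obtain ⟨w, hw, he⟩ := e.symm ▸ hu
      have : w = u := (MulAut.conj g).injective he
      exact this ▸ hw
  have hsup : E ⊔ E' = N := by
    haveI := finite_of_le (sup_le hES (hE'N.trans hNS) : E ⊔ E' ≤ S)
    refine Subgroup.eq_of_le_of_card_ge (sup_le hEN hE'N) ?_
    have hlt : E < E ⊔ E' := lt_of_le_of_ne le_sup_left fun e =>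
      hE'E (Subgroup.eq_of_le_of_card_ge (e ▸ le_sup_right) (by rw [hcard, hE'c]))
    have := AbelianIndexP.mul_le_card_of_lt H.pS hlt (sup_le hES (hE'N.trans hNS))
    rw [hcard, ← pow_succ'] at this
    rwa [hNc]
  have hfix : ∀ u ∈ E, u ∈ E' → (x : Ω) * u = u * x := by
    intro u hu hu'
    have hle : E ⊔ E' ≤ Subgroup.centralizer {u} := by
      refine sup_le (fun r hr => Subgroup.mem_centralizer_singleton_iff.mpr (hcomm r hr u hu)) ?_
      rintro r ⟨r', hr', rfl⟩
      obtain ⟨u', hu'', he⟩ := hu'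
      subst he
      refine Subgroup.mem_centralizer_singleton_iff.mpr ?_
      show (MulAut.conj g) r' * (MulAut.conj g) u' = (MulAut.conj g) u' * (MulAut.conj g) r'
      rw [← map_mul, ← map_mul, hcomm r' hr' u' hu'']
    exact Subgroup.mem_centralizer_singleton_iff.mp (hle (hsup.symm ▸ x.2))
  have hI : p ^ 2 ≤ Nat.card (E ⊓ E' : Subgroup Ω) := by
    have hi : (E'.subgroupOf N).index = p := by
      have := Subgroup.card_mul_index (E'.subgroupOf N)
      rw [Nat.card_congr (Subgroup.subgroupOfEquivOfLe hE'N).toEquiv, hE'c, hNc, pow_succ p 3] at this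
      exact Nat.eq_of_mul_eq_mul_left (pow_pos hp.out.pos 3) this
    haveI : (E'.subgroupOf N).Normal := PGroup.normal_of_index_eq_prime (H.pS.to_le hNS) hi
    have h1 := (E'.subgroupOf E).card_mul_index
    have h2 : (E'.subgroupOf E).index ∣ p := by
      have := Subgroup.relIndex_dvd_index_of_normal (E'.subgroupOf N) (E.subgroupOf N)
      rw [hi] at this
      rwa [Subgroup.relIndex_subgroupOf hEN] at this
    have h3 := Nat.le_of_dvd hp.out.pos h2
    rw [AbelianIndexP.card_subgroupOf, hcard] at h1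
    have h4 : p ^ 2 * p ≤ Nat.card (E' ⊓ E : Subgroup Ω) * p := by
      rw [← pow_succ, ← h1]; exact Nat.mul_le_mul_left _ h3
    rw [inf_comm]
    exact Nat.le_of_mul_le_mul_right h4 hp.out.pos
  rcases C.dichotomy hz hz1 with ⟨a, b, f, s, hs, haz, hfz, hbz, hgen, htor⟩ |
    ⟨e, d, l, -, -, -, hl1, -, hfixl, -⟩
  swap
  · exfalso
    have h1 : ∀ u : (E ⊓ E' : Subgroup Ω),
        ((⟨u, u.2.1⟩ : E) : E ⧸ frattini E) ∈ Subgroup.zpowers l := fun u => hfixl _ (by
      rw [hρx]
      congr 1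
      exact Subtype.ext (by rw [conjAutHom_apply, hfix _ u.2.1 u.2.2, mul_inv_cancel_right]))
    have h2 := Nat.card_le_card_of_injective
      (fun u : (E ⊓ E' : Subgroup Ω) => (⟨_, h1 u⟩ : Subgroup.zpowers l))
      (fun u w e => by
        have := hmk (congrArg Subtype.val e)
        exact Subtype.ext (congrArg Subtype.val this :))
    rw [card_zp C.exp hl1] at h2
    have := hI.trans h2
    rw [sq] at this
    nlinarith [hp.out.two_le]
  obtain ⟨a, rfl⟩ := QuotientGroup.mk_surjective a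
  obtain ⟨b, rfl⟩ := QuotientGroup.mk_surjective b
  obtain ⟨f, rfl⟩ := QuotientGroup.mk_surjective f
  rw [hρx] at haz hfz hbz
  have haz' := congrArg Subtype.val (hmk haz)
  have hfz' := congrArg Subtype.val (hmk hfz)
  have hbz' : (conjAutHom S E x b : E) = b * a ^ s := hmk (hbz.trans (by push_cast; rfl))
  have hbz'' : (x : Ω) * b * (x : Ω)⁻¹ = b * (a : Ω) ^ s := by
    simpa using congrArg Subtype.val hbz'
  rw [conjAutHom_apply] at haz' hfz'
  have ha1 : (a : E) ≠ 1 := by
    intro e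
    subst e
    apply hz1
    refine C.inj (MulEquiv.ext fun v => ?_)
    obtain ⟨i, j, k, rfl⟩ := hgen v
    have e3 : ρ z (b : E ⧸ frattini E) = b := by
      rw [hρx, hbz', one_pow, mul_one]
    have e2 : ρ z (f : E ⧸ frattini E) = f := by rw [hρx]; exact congrArg _ (Subtype.ext hfz')
    rw [map_one, MulAut.one_apply, map_mul, map_mul, map_pow, map_pow, map_pow, e2, e3,
      QuotientGroup.mk_one, map_one]
  refine ⟨⟨a, hES a.2⟩, ⟨f, hES f.2⟩, ⟨b, hES b.2⟩, ⟨x, hNS x.2⟩,
    { card := H.card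
      nab := H.nab
      cN := by rw [card_subgroupOf_eq hNS, hNc]
      cR := by rw [card_subgroupOf_eq hES, hcard]
      le := fun u hu => hEN hu
      norm := normalizer_subgroupOf hES
      comm := fun r hr t ht => Subtype.ext (hcomm r hr t ht)
      exp := fun r hr => Subtype.ext (by rw [SubgroupClass.coe_pow]; exact hexp r hr)
      gen := fun r hr => ?_
      ha := a.2
      hf := f.2
      hy := b.2
      hxN := x.2
      hxR := hxE
      xa := Subtype.ext (mul_inv_eq_iff_eq_mul.mp haz')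
      xf := Subtype.ext (mul_inv_eq_iff_eq_mul.mp hfz')
      xy := ⟨(s : ℤ), Subtype.ext ?_⟩
      xy1 := fun e1 => ?_ }, fun c hc0 => ?_⟩
  · obtain ⟨i, j, k, h⟩ := hgen ((⟨(r : Ω), hr⟩ : E) : E ⧸ frattini E)
    have h' : (⟨(r : Ω), hr⟩ : E) = a ^ i * b ^ j * f ^ k := hmk (h.trans (by push_cast; rfl))
    refine ⟨i, k, j, Subtype.ext ?_⟩
    have h2 : (r : Ω) = (a : Ω) ^ i * (b : Ω) ^ j * (f : Ω) ^ k := by simpa using congrArg Subtype.val h'
    simp only [Subgroup.coe_mul, SubgroupClass.coe_pow]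
    rw [h2, mul_assoc, mul_assoc, hcomm _ (pow_mem b.2 j) _ (pow_mem f.2 k)]
  · simp only [zpow_natCast, SubgroupClass.coe_pow, commutatorElement_def, Subgroup.coe_mul, Subgroup.coe_inv]
    rw [hbz'', hcomm _ b.2 _ (pow_mem a.2 s), mul_inv_cancel_right]
  · have h2 := congrArg Subtype.val e1
    simp only [commutatorElement_def, Subgroup.coe_mul, Subgroup.coe_inv, OneMemClass.coe_one] at h2
    rw [hbz'', hcomm _ b.2 _ (pow_mem a.2 s), mul_inv_cancel_right] at h2
    have h3 : (a : E) ^ s = 1 := Subtype.ext (by simpa using h2)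
    exact hs ((cast_eq_of_pow_eq (j := 0) (Subtype.ext (by rw [SubgroupClass.coe_pow]; exact hexp a a.2)) ha1
      (by rw [h3, pow_zero])).trans Nat.cast_zero)
  · obtain ⟨k, hka, hkb, hkf, hkz⟩ := htor c hc0
    obtain ⟨γ, rfl⟩ := QuotientGroup.mk'_surjective _ k
    have hnorm : ∀ δ ∈ autInducedBy S E, (γ : MulAut E) * δ * (γ : MulAut E)⁻¹ ∈ autInducedBy S E := by
      intro δ hδ
      have h1 := (hT ⟨δ, autInducedBy_le_autGroup hES hδ⟩).mpr hδ
      have h2 : QuotientGroup.mk' _ γ * QuotientGroup.mk' _ ⟨δ, autInducedBy_le_autGroup hES hδ⟩ *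
          (QuotientGroup.mk' _ γ)⁻¹ ∈ T.toSubgroup := by
        rw [(C.eq_zpowers hz hz1).2] at h1 ⊢
        obtain ⟨n, hn⟩ := h1
        rw [← hn, ← conj_zpow, hkz]
        exact ⟨(c * c).val * n, by show z ^ _ = _; rw [zpow_mul, zpow_natCast]⟩
      rw [← map_inv, ← map_mul, ← map_mul] at h2
      exact (hT _).mp h2
    obtain ⟨β, hβ, hβe⟩ := extend_normalizer H.pS H.sat hE.2.1 γ.2 hnorm
    rw [hρ] at hka hkb hkf
    refine ⟨β, hβ, ?_, ?_, ?_⟩
    · show autFun β (a : Ω) = _
      rw [hβe a.2, autFun_coe, hmk (hka.trans (QuotientGroup.mk_pow _ a _).symm), SubgroupClass.coe_pow]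
    · show autFun β (b : Ω) = _
      rw [hβe b.2, autFun_coe, hmk (hkb.trans (QuotientGroup.mk_pow _ b _).symm), SubgroupClass.coe_pow]
    · show autFun β (f : Ω) = _
      rw [hβe f.2, autFun_coe, hmk hkf]

/-- An essential subgroup of order `p ^ 2` is a pearl. -/
theorem pearl_of_sq {E : Subgroup Ω} (hE : F.IsEssential p E) (hcard : Nat.card E = p ^ 2) :
    Nat.card (normalizerIn S E) = p ^ 3 ∧
    ∃ a y : S, Pearl p y ∧ a ≠ 1 ∧ a ∈ FG38.filt S 4 ∧
      E.subgroupOf S = Subgroup.centralizer ({y} : Set S) ∧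
      ∀ c : ZMod p, c ≠ 0 → ∃ β ∈ F.autGroup (normalizerIn S E),
        autFun β (a : Ω) = (a : Ω) ^ c.val ∧ autFun β (y : Ω) = (y : Ω) ^ c⁻¹.val := by
  classical
  have hES := hE.1.1
  haveI := finite_of_le hES
  haveI := finite_mulAut E
  have hEp : IsPGroup p E := H.pS.to_le hES
  have hel := (Fusion91.sl2_of_essential_sq H.pS hE hcard).1
  have hcomm : ∀ u ∈ E, ∀ w ∈ E, u * w = w * u := fun u hu w hw =>
    congrArg Subtype.val (hel.1.is_comm.comm (⟨u, hu⟩ : E) ⟨w, hw⟩)
  have hbot : frattini E = ⊥ :=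
    PGroup.frattini_eq_bot (fun a b => Subtype.ext (hcomm a a.2 b b.2)) (fun a => Subtype.ext (hel.2 a a.2))
  obtain ⟨hnI, ρ, T, θ, hinj, hρ, hT, hne, hspe, hθr, hθk, hθ⟩ := LocalEvenD.RTP.outer_setup H.pS H.sat hE
  let N := normalizerIn S E
  haveI := hnI
  letI : CommGroup (E ⧸ frattini E) := fratComm hEp
  have hVc : Nat.card (E ⧸ frattini E) = p ^ 2 := by
    rw [← Subgroup.index_eq_card, hbot, Subgroup.index_bot, hcard]
  have hVexp : ∀ v : E ⧸ frattini E, v ^ p = 1 := PGroup.quotient_frattini_pow hEp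
  set L := F.autGroup E ⧸ (Cfsg.Inn E).subgroupOf (F.autGroup E)
  set M := Subgroup.closure (linkSet T.toSubgroup)
  have hTp := (LocalEvenD.RTP.two_dim hinj hVexp hVc T.isPGroup' hne
    (fun Q hQn hQ => eq_bot_of_spe hspe hQn hQ)).1
  have hEN : E ≤ N := le_normalizerIn hES
  have hNS : N ≤ S := normalizerIn_le S E
  haveI := finite_of_le hNS
  have hidx : (E.subgroupOf N).index = p := by
    rw [← hθk, Subgroup.index_ker, hθr]; exact hTp
  have hNc : Nat.card N = p ^ 3 := by
    rw [← Subgroup.card_mul_index (E.subgroupOf N), hidx,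
      Nat.card_congr (Subgroup.subgroupOfEquivOfLe hEN).toEquiv, hcard, ← pow_succ]
  refine ⟨hNc, ?_⟩
  obtain ⟨z, hz, hz1⟩ := T.toSubgroup.bot_or_exists_ne_one.resolve_left hne
  obtain ⟨x, hxz⟩ : z ∈ θ.range := by rw [hθr]; exact hz
  have hρx : ∀ q : E, ρ z (q : E ⧸ frattini E) = ((conjAutHom S E x q : E) : E ⧸ frattini E) := fun q => by
    rw [← hxz]; exact hθ x q
  obtain ⟨d, -, hd1, hdfix⟩ := exists_fixed (ρ := ρ) T.isPGroup' (U := ⊤) (fun _ _ _ _ => Subgroup.mem_top _)
    (by rw [Subgroup.card_top, hVc]; exact dvd_pow_self p two_ne_zero)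
  have hmove : ∀ v, dsp ρ z v ∈ Subgroup.zpowers d := fun v => by
    refine dsp_mem_of_step T.isPGroup' ?_ (W := ⊤) (fun _ _ _ _ => Subgroup.mem_top _) ?_ hz (Subgroup.mem_top v)
    · rintro u hu w ⟨i, rfl⟩
      show ρ u (d ^ i) ∈ _
      rw [map_zpow, hdfix u hu]
      exact Subgroup.zpow_mem _ (Subgroup.mem_zpowers d) i
    · rw [Subgroup.relIndex_top_right]
      have := (Subgroup.zpowers d).card_mul_index
      rw [Nat.card_zpowers, orderOf_eq_prime (hVexp d) hd1, hVc, sq] at this
      exact Nat.eq_of_mul_eq_mul_left hp.out.pos this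
  have h1 : Rank1 p ρ M z d :=
    ⟨hinj, hVexp, LocalEven61.normalizersLE_of_spe hspe, le_link _ hz, hz1, hmove, hdfix z hz⟩
  obtain ⟨g, hg⟩ : ∃ g : L, g ∉ M := by
    by_contra hall
    push Not at hall
    exact hspe.2.1 ((Subgroup.eq_top_iff' M).mpr hall)
  obtain ⟨s, hs, hzb, hdec, htor⟩ := h1.torus hg
  have hbd : ρ g d ∉ Subgroup.zpowers d := fun hm => h1.opp hg (h1.fix_line hm)
  have hmk : Function.Injective (QuotientGroup.mk : E → E ⧸ frattini E) := fun u w e => by
    rw [QuotientGroup.eq, hbot, Subgroup.mem_bot, inv_mul_eq_one] at e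
    exact e
  generalize hb' : ρ g d = b' at hzb hdec htor hbd
  obtain ⟨a, rfl⟩ := QuotientGroup.mk_surjective d
  obtain ⟨y, rfl⟩ := QuotientGroup.mk_surjective b'
  have hap : (a : Ω) ^ p = 1 := hel.2 a a.2
  -- `E = ⟨a, y⟩`
  have hgenE : ∀ u : E, ∃ i j : ℕ, u = a ^ i * y ^ j := by
    intro u
    obtain ⟨i, j, h⟩ := decomp_two hVexp (h := ⊤) (by rw [Subgroup.card_top, hVc]) (Subgroup.mem_top _)
      (Subgroup.mem_top _) hd1 hbd (Subgroup.mem_top (u : E ⧸ frattini E))
    exact ⟨i, j, hmk (h.trans (by push_cast; rfl))⟩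
  -- the fixed points of `x` are `⟨a⟩`
  have hxfix : ∀ u : E, conjAutHom S E x u = u → (u : E ⧸ frattini E) ∈ Subgroup.zpowers (a : E ⧸ frattini E) := by
    intro u hu
    obtain ⟨i, j, rfl⟩ := hgenE u
    have e : ρ z (((a ^ i * y ^ j : E)) : E ⧸ frattini E) = ((a ^ i * y ^ j : E) : E ⧸ frattini E) := by
      rw [hρx, hu]
    rw [QuotientGroup.mk_mul, QuotientGroup.mk_pow, QuotientGroup.mk_pow, map_mul, map_pow, map_pow, h1.fix,
      hzb, mul_pow, ← pow_mul, ← mul_assoc] at e
    have h0 := cast_eq_of_pow_eq (hVexp _) hd1 (j := 0) ((mul_eq_left.mp e).trans (pow_zero _).symm)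
    push_cast at h0
    have hj : (j : ZMod p) = 0 := (mul_eq_zero.mp h0).resolve_left hs
    rw [QuotientGroup.mk_mul, QuotientGroup.mk_pow, QuotientGroup.mk_pow,
      pow_cast_eq (hVexp _) (i := j) (j := 0) (by rw [hj, Nat.cast_zero]), pow_zero, mul_one]
    exact Subgroup.pow_mem _ (Subgroup.mem_zpowers _) i
  -- `a` is central in `S`
  have haZ : ∀ w ∈ S, w * (a : Ω) = a * w := by
    haveI : Nontrivial S := Finite.one_lt_card_iff_nontrivial.1 (by
      rw [H.card]; exact Nat.one_lt_pow (by norm_num) hp.out.one_lt)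
    have hdz : p ∣ Nat.card (Subgroup.center S) := PGroup.dvd_card_center H.pS
    obtain ⟨⟨c, hc⟩, hco⟩ := exists_prime_orderOf_dvd_card' p hdz
    have hc1 : c ≠ 1 := fun e => by
      subst e
      rw [show (⟨1, hc⟩ : Subgroup.center S) = 1 from rfl, orderOf_one] at hco
      exact hp.out.ne_one hco.symm
    have hcs : ∀ w ∈ S, w * (c : Ω) = c * w := fun w hw =>
      congrArg Subtype.val (Subgroup.mem_center_iff.mp hc ⟨w, hw⟩)
    have hcE : (c : Ω) ∈ E := hE.1.2 E (isConj_refl hES)
      ⟨c.2, Subgroup.mem_centralizer_iff.mpr fun u hu => hcs u (hES hu)⟩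
    obtain ⟨n, hn⟩ := exists_pow_of_mem_zpowers (hVexp _) (hxfix ⟨c, hcE⟩
      (Subtype.ext (by rw [conjAutHom_apply, hcs _ (hNS x.2), mul_inv_cancel_right])))
    have hca : (⟨(c : Ω), hcE⟩ : E) = a ^ n := hmk (hn.trans (QuotientGroup.mk_pow _ a n).symm)
    have hca' : (c : Ω) = (a : Ω) ^ n := by simpa using congrArg Subtype.val hca
    intro w hw
    have hn0 : (n : ZMod p) ≠ 0 := fun e => hc1 (Subtype.ext (by
      rw [hca', pow_cast_eq hap (j := 0) (by rw [e, Nat.cast_zero]), pow_zero]; rfl))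
    have e : (a : Ω) = (c : Ω) ^ ((n : ZMod p)⁻¹).val := by
      rw [hca', ← pow_mul, pow_cast_eq hap (i := n * ((n : ZMod p)⁻¹).val) (j := 1)
        (by push_cast; rw [ZMod.natCast_zmod_val, mul_inv_cancel₀ hn0]), pow_one]
    rw [e]
    exact ((show Commute w (c : Ω) from hcs w hw).pow_right _).eq
  have hcent : Subgroup.centralizer ({⟨y, hES y.2⟩} : Set S) = E.subgroupOf S := by
    refine le_antisymm (fun w hw => Subgroup.mem_subgroupOf.mpr ?_) fun w hw => ?_
    · refine hE.1.2 E (isConj_refl hES) ⟨w.2, Subgroup.mem_centralizer_iff.mpr fun u hu => ?_⟩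
      obtain ⟨i, j, e⟩ := hgenE ⟨u, hu⟩
      have e' : u = (a : Ω) ^ i * (y : Ω) ^ j := by simpa using congrArg Subtype.val e
      have hwy : Commute (w : Ω) y := congrArg Subtype.val (Subgroup.mem_centralizer_singleton_iff.mp hw)
      rw [e']
      exact (((show Commute (w : Ω) a from haZ w w.2).pow_right i).mul_right (hwy.pow_right j)).symm.eq
    · exact Subgroup.mem_centralizer_singleton_iff.mpr
        (Subtype.ext (hcomm _ (Subgroup.mem_subgroupOf.mp hw) _ y.2))
  have hpearl : Pearl p (⟨y, hES y.2⟩ : S) :=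
    ⟨⟨H.card, by norm_num, by rw [hcent, card_subgroupOf_eq hES, hcard]⟩, H.nab⟩
  have ha4 : (⟨a, hES a.2⟩ : S) ∈ FG38.filt S 4 :=
    hpearl.cfg.center_eq.le (Subgroup.mem_center_iff.mpr fun w => Subtype.ext (haZ w w.2))
  refine ⟨⟨a, hES a.2⟩, ⟨y, hES y.2⟩, hpearl, fun e => hd1 ?_, ha4, hcent.symm, fun c hc0 => ?_⟩
  · have e' : (a : Ω) = 1 := congrArg Subtype.val e
    have : a = 1 := Subtype.ext e'
    rw [this, QuotientGroup.mk_one]
  · obtain ⟨k, hka, hkb, -, hkz⟩ := htor c hc0
    obtain ⟨γ, rfl⟩ := QuotientGroup.mk'_surjective _ k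
    have hTz : T.toSubgroup = Subgroup.zpowers z :=
      (Subgroup.eq_of_le_of_card_ge (Subgroup.zpowers_le.mpr hz) (by
        rw [hTp, Nat.card_zpowers, orderOf_eq_prime h1.zp hz1])).symm
    have hnorm : ∀ δ ∈ autInducedBy S E, (γ : MulAut E) * δ * (γ : MulAut E)⁻¹ ∈ autInducedBy S E := by
      intro δ hδ
      have h1 := (hT ⟨δ, autInducedBy_le_autGroup hES hδ⟩).mpr hδ
      have h2 : QuotientGroup.mk' _ γ * QuotientGroup.mk' _ ⟨δ, autInducedBy_le_autGroup hES hδ⟩ *
          (QuotientGroup.mk' _ γ)⁻¹ ∈ T.toSubgroup := by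
        rw [hTz] at h1 ⊢
        obtain ⟨n, hn⟩ := h1
        rw [← hn, ← conj_zpow, hkz]
        exact ⟨(c * c).val * n, by show z ^ _ = _; rw [zpow_mul, zpow_natCast]⟩
      rw [← map_inv, ← map_mul, ← map_mul] at h2
      exact (hT _).mp h2
    obtain ⟨β, hβ, hβe⟩ := extend_normalizer H.pS H.sat hE.2.1 γ.2 hnorm
    rw [hρ] at hka hkb
    refine ⟨β, hβ, ?_, ?_⟩
    · show autFun β (a : Ω) = _
      rw [hβe a.2, autFun_coe, hmk (hka.trans (QuotientGroup.mk_pow _ a _).symm), SubgroupClass.coe_pow]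
    · show autFun β (y : Ω) = _
      rw [hβe y.2, autFun_coe, hmk (hkb.trans (QuotientGroup.mk_pow _ y _).symm), SubgroupClass.coe_pow]

/-- An essential subgroup that moves the centre is elementary abelian of order `p ^ 2` or `p ^ 3`. -/
theorem moving_cases {E : Subgroup Ω} (hE : F.IsEssential p E) {α : MulAut E} (hα : α ∈ F.autGroup E)
    {c : Ω} (hc : c ∈ AbelianIndexP.ctr S) (hmove : autFun α c ∉ AbelianIndexP.ctr S) :
    Nat.card E = p ^ 2 ∨
      (Nat.card E = p ^ 3 ∧ (∀ x ∈ E, ∀ y ∈ E, x * y = y * x) ∧ ∀ x ∈ E, x ^ p = 1) := by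
  classical
  have hES := hE.1.1
  haveI := finite_of_le hES
  have hEp : IsPGroup p E := H.pS.to_le hES
  obtain ⟨n, hn⟩ := IsPGroup.iff_card.mp hEp
  have hn4 : n ≤ 4 := (Nat.pow_le_pow_iff_right hp.out.one_lt).mp (hn ▸ card_le_four H hE)
  have hn2 : 2 ≤ n := by
    by_contra h
    refine Fusion91.not_isCyclic_of_essential hE ?_
    interval_cases n
    · haveI : Subsingleton E := (Nat.card_eq_one_iff_unique.mp (by simpa using hn)).1
      infer_instance
    · exact isCyclic_of_prime_card (p := p) (by simpa using hn)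
  have hcE : c ∈ E := hE.1.2 E (isConj_refl hES) ⟨hc.1, Subgroup.mem_centralizer_iff.mpr fun y hy => AbelianIndexP.ctr_comm hc (hES hy)⟩
  set c' : E := ⟨c, hcE⟩
  have hc'Z : c' ∈ Subgroup.center E :=
    Subgroup.mem_center_iff.mpr fun u => Subtype.ext (AbelianIndexP.ctr_comm hc (hES u.2))
  -- the image of `c` is central in `E`
  have hzc : α c' ∈ Subgroup.center E := by
    refine Subgroup.mem_center_iff.mpr fun u => ?_
    obtain ⟨w, rfl⟩ := α.surjective u
    rw [← map_mul, ← map_mul, Subgroup.mem_center_iff.mp hc'Z w]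
  have hout : ∀ u : E, (u : Ω) ∈ AbelianIndexP.ctr S → α c' ≠ u := fun u hu e => hmove (by
    rw [autFun_of_mem α hcE]; exact e ▸ hu)
  have hctrZ : ∀ u : E, u ∈ Subgroup.zpowers c' → (u : Ω) ∈ AbelianIndexP.ctr S := by
    intro u hu
    obtain ⟨i, rfl⟩ := hu
    rw [SubgroupClass.coe_zpow]
    exact Subgroup.zpow_mem _ hc i
  have hc1 : c ≠ 1 := fun e => hout 1 (one_mem _) (by
    rw [show c' = 1 from Subtype.ext e, map_one])
  have hbig : ¬ Nat.card (Subgroup.center E) ≤ p := by
    intro hle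
    have hlt : Subgroup.zpowers c' < Subgroup.center E :=
      lt_of_le_of_ne (Subgroup.zpowers_le.mpr hc'Z) fun e => hout _ (hctrZ _ (e ▸ hzc)) rfl
    have h1 : p ≤ Nat.card (Subgroup.zpowers c') := PGroup.le_card_of_ne_bot hEp (fun e => hc1 (by
      have := Subgroup.zpowers_eq_bot.mp e
      exact congrArg Subtype.val this))
    exact hlt.ne (Subgroup.eq_of_le_of_card_ge hlt.le (hle.trans h1))
  by_cases hab : ∀ x ∈ E, ∀ y ∈ E, x * y = y * x
  · interval_cases n
    · exact Or.inl hn
    · refine Or.inr ⟨hn, hab, ?_⟩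
      rcases Fusion91.essential_cube H.pS hE hn with h | ⟨-, -, h⟩ | ⟨h2, -⟩
      · exact h.2
      · exact h
      · exact absurd h2 (Nat.ne_of_gt H.odd)
    · exact absurd (H.card_lt hES hab) (by rw [hn]; exact lt_irrefl _)
  exfalso
  have hna : ¬ ∀ a b : E, a * b = b * a := fun h => hab fun x hx y hy =>
    congrArg Subtype.val (h ⟨x, hx⟩ ⟨y, hy⟩)
  interval_cases n
  · haveI := IsPGroup.isMulCommutative_of_card_eq_prime_sq hn
    exact hna fun a b => mul_comm' a b
  · refine hbig ?_
    have hcz : Nat.card (Subgroup.center E) ∣ p ^ 3 := hn ▸ Subgroup.card_subgroup_dvd_card _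
    obtain ⟨k, hk, hke⟩ := (Nat.dvd_prime_pow hp.out).mp hcz
    rw [hke]
    refine le_trans (Nat.pow_le_pow_right hp.out.pos ?_) (pow_one p).le
    by_contra hk1
    have hi : (Subgroup.center E).index ∣ p := by
      have h := (Subgroup.center E).card_mul_index
      rw [hke, hn] at h
      refine ⟨p ^ (k - 2), ?_⟩
      refine Nat.eq_of_mul_eq_mul_left (pow_pos hp.out.pos 2) ?_
      calc p ^ 2 * p = p ^ 3 := by ring
        _ = p ^ k * (Subgroup.center E).index := h.symm
        _ = p ^ 2 * ((Subgroup.center E).index * p ^ (k - 2)) := by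
          conv_lhs => rw [show k = 2 + (k - 2) by omega, pow_add]
          ring
    rcases (Nat.dvd_prime hp.out).mp hi with h1 | h1
    · exact hna (Fusion91.center_eq_top_of_index_one h1)
    · exact Fusion91.center_index_ne_prime h1
  · -- order `p ^ 4`
    have hcomm' : ¬ IsMulCommutative E := fun h => hna fun a b => h.is_comm.comm a b
    rcases Fusion91.card_center_four (p := p) hn hcomm' with hZ | hZ
    · exact hbig hZ.le
    -- the commutator subgroup is the centre of `S`
    have hq : Nat.card (E ⧸ Subgroup.center E) = p ^ 2 := by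
      have := Subgroup.card_eq_card_quotient_mul_card_subgroup (Subgroup.center E)
      rw [hn, hZ, show p ^ 4 = p ^ 2 * p ^ 2 by ring] at this
      exact (Nat.eq_of_mul_eq_mul_right (pow_pos hp.out.pos 2) this).symm
    haveI := IsPGroup.isMulCommutative_of_card_eq_prime_sq hq
    have hcc : ∀ u w : E, ⁅u, w⁆ ∈ Subgroup.center E := fun u w => by
      rw [← mem_quot_one_iff, map_commutatorElement, commutatorElement_eq_one_iff_mul_comm]
      exact mul_comm' _ _
    obtain ⟨u, hu⟩ : ∃ u : E, u ∉ Subgroup.center E := by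
      by_contra hall
      push Not at hall
      exact hna fun a b => (Subgroup.mem_center_iff.mp (hall b) a)
    have hp' : ∀ t : E, t ^ p ∈ Subgroup.center E := by
      intro t
      by_contra ht
      have hord : orderOf (t : E ⧸ Subgroup.center E) = p ^ 2 := by
        have h1 : orderOf (t : E ⧸ Subgroup.center E) ∣ p ^ 2 := hq ▸ orderOf_dvd_natCard _
        obtain ⟨k, hk, hke⟩ := (Nat.dvd_prime_pow hp.out).mp h1
        rw [hke]
        congr 1
        by_contra hne
        refine ht ((QuotientGroup.eq_one_iff _).mp ?_)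
        rw [QuotientGroup.mk_pow]
        exact orderOf_dvd_iff_pow_eq_one.mp (hke ▸ pow_dvd_pow p (show k ≤ 1 by omega) |>.trans (pow_one p).dvd)
      haveI : IsCyclic (E ⧸ Subgroup.center E) := isCyclic_of_orderOf_eq_card _ (hord.trans hq.symm)
      have hc := (QuotientGroup.mk' (Subgroup.center E)).isMulCommutative_of_isCyclic_of_ker_le_center
        (QuotientGroup.ker_mk' _).le
      exact hcomm' hc
    -- a second generator
    set U := Subgroup.center E ⊔ Subgroup.zpowers u
    have hUc : Nat.card U ≤ p ^ 3 := (card_sup_zpowers_le (hp' u)).trans (by rw [hZ, ← pow_succ])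
    obtain ⟨w, hw⟩ : ∃ w : E, w ∉ U := by
      by_contra hall
      push Not at hall
      rw [(Subgroup.eq_top_iff' U).mpr hall, Subgroup.card_top, hn] at hUc
      exact absurd hUc (not_le.mpr (Nat.pow_lt_pow_right hp.out.one_lt (by norm_num)))
    set q := ⁅u, w⁆ with hqd
    have hqZ := hcc u w
    have hqp : q ^ p = 1 := by
      rw [hqd, ← cpow_left hqZ, commutatorElement_eq_one_iff_mul_comm]
      exact (Subgroup.mem_center_iff.mp (hp' u) w).symm
    haveI hA : (Subgroup.zpowers q).Normal := ⟨fun t ht g => by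
      rw [Subgroup.mem_center_iff.mp ((Subgroup.zpowers_le.mpr hqZ) ht) g, mul_inv_cancel_right]
      exact ht⟩
    have hgen : ∀ t : E, t ∈ Subgroup.closure ((Subgroup.center E : Set E) ∪ {u, w}) := by
      intro t
      haveI : U.Normal := ⟨fun t ht g => by
        rw [show g * t * g⁻¹ = ⁅g, t⁆ * t by rw [commutatorElement_def, inv_mul_cancel_right]]
        exact mul_mem (Subgroup.mem_sup_left (hcc g t)) ht⟩
      have hUi : U.index = p := by
        have h1 := mul_card_le_sup hEp (H := Subgroup.center E) (u := u) hu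
        rw [hZ, ← pow_succ'] at h1
        exact index_of_card (k := 3) hn (le_antisymm hUc h1)
      obtain ⟨r, hr, j, -, rfl⟩ := exists_mul_pow hEp hUi hw t
      refine mul_mem ?_ (pow_mem (by exact Subgroup.subset_closure (Or.inr (Or.inr rfl))) j)
      have hle : U ≤ Subgroup.closure ((Subgroup.center E : Set E) ∪ {u, w}) :=
        sup_le (fun t ht => Subgroup.subset_closure (Or.inl ht))
          (Subgroup.zpowers_le.mpr (Subgroup.subset_closure (Or.inr (Or.inl rfl))))
      exact hle hr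
    have hcA : ∀ a b : E, ⁅a, b⁆ ∈ Subgroup.zpowers q := by
      intro a b
      refine comm_mem_of_closure ?_ (hgen a) (hgen b)
      rintro s (hs | rfl | rfl) t (ht | rfl | rfl) <;>
        first
          | (rw [commutatorElement_eq_one_iff_mul_comm.mpr (Subgroup.mem_center_iff.mp ht s)]; exact one_mem _)
          | (rw [commutatorElement_eq_one_iff_mul_comm.mpr (Subgroup.mem_center_iff.mp hs t).symm]; exact one_mem _)
          | (rw [commutatorElement_eq_one_iff_mul_comm.mpr rfl]; exact one_mem _)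
          | exact Subgroup.mem_zpowers _
          | (rw [← commutatorElement_inv]; exact inv_mem (Subgroup.mem_zpowers q))
    have hq1 : q ≠ 1 := fun e => hna fun a b => by
      have := hcA a b
      rw [e, Subgroup.zpowers_one_eq_bot, Subgroup.mem_bot] at this
      exact commutatorElement_eq_one_iff_mul_comm.mp this
    -- `⟨q⟩` is normal in `S`, so it is the centre of `S`
    have hEn : (E.subgroupOf S).Normal :=
      PGroup.normal_of_index_eq_prime H.pS (index_of_card (k := 4) H.card (by rw [card_subgroupOf_eq hES, hn]))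
    set Q : Subgroup S := Subgroup.zpowers ⟨(q : Ω), hES q.2⟩
    haveI hQn : Q.Normal := by
      refine ⟨fun t ht g => ?_⟩
      obtain ⟨i, rfl⟩ := ht
      show g * (⟨(q : Ω), hES q.2⟩ : S) ^ i * g⁻¹ ∈ Q
      rw [← conj_zpow]
      refine Subgroup.zpow_mem _ ?_ i
      have hu' : (g : Ω) * u * (g : Ω)⁻¹ ∈ E :=
        Subgroup.mem_subgroupOf.mp (hEn.conj_mem ⟨u, hES u.2⟩ (Subgroup.mem_subgroupOf.mpr u.2) g)
      have hw' : (g : Ω) * w * (g : Ω)⁻¹ ∈ E :=
        Subgroup.mem_subgroupOf.mp (hEn.conj_mem ⟨w, hES w.2⟩ (Subgroup.mem_subgroupOf.mpr w.2) g)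
      obtain ⟨j, hj⟩ := hcA ⟨_, hu'⟩ ⟨_, hw'⟩
      refine ⟨j, Subtype.ext ?_⟩
      have := congrArg Subtype.val hj
      simp only [SubgroupClass.coe_zpow, hqd, commutatorElement_def, Subgroup.coe_mul, Subgroup.coe_inv] at this ⊢
      rw [this]
      group
    have hQc : Nat.card Q = p := by
      rw [Nat.card_zpowers, ← Subgroup.orderOf_coe]
      show orderOf (q : Ω) = p
      rw [Subgroup.orderOf_coe, orderOf_eq_prime hqp hq1]
    have hQle := PGroup.le_center_of_card_eq_prime H.pS hQc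
    -- the centre of `S` has order `p`
    have hctrQ : Subgroup.zpowers q = Subgroup.zpowers c' := by
      have hcS : Nat.card (Subgroup.zpowers c') ≤ p := by
        have hlt : Subgroup.zpowers c' < Subgroup.center E :=
          lt_of_le_of_ne (Subgroup.zpowers_le.mpr hc'Z) fun e => hout _ (hctrZ _ (e ▸ hzc)) rfl
        obtain ⟨k, hk⟩ := PGroup.exists_card_eq_pow hEp (Subgroup.zpowers c')
        have h1 : Nat.card (Subgroup.zpowers c') < p ^ 2 := by
          rw [← hZ]
          by_contra h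
          exact hlt.ne (Subgroup.eq_of_le_of_card_ge hlt.le (not_lt.mp h))
        rw [hk] at h1 ⊢
        have := (Nat.pow_lt_pow_iff_right hp.out.one_lt).mp h1
        exact le_trans (Nat.pow_le_pow_right hp.out.pos (by omega)) (pow_one p).le
      by_contra hne
      -- otherwise `Z(E)` is central in `S`
      have hsup : Subgroup.zpowers q ⊔ Subgroup.zpowers c' = Subgroup.center E := by
        refine Subgroup.eq_of_le_of_card_ge (sup_le (Subgroup.zpowers_le.mpr hqZ) (Subgroup.zpowers_le.mpr hc'Z)) ?_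
        have hcq : c' ∉ Subgroup.zpowers q := fun hm => hne (Subgroup.eq_of_le_of_card_ge
          (Subgroup.zpowers_le.mpr hm) (by
            rw [Nat.card_zpowers, orderOf_eq_prime hqp hq1]
            exact PGroup.le_card_of_ne_bot hEp (fun e => hc1 (congrArg Subtype.val (Subgroup.zpowers_eq_bot.mp e))))).symm
        have := mul_card_le_sup hEp hcq
        rwa [Nat.card_zpowers, orderOf_eq_prime hqp hq1, ← sq, ← hZ] at this
      obtain ⟨t1, ht1, t2, ht2, he⟩ := Subgroup.mem_sup_of_normal_left.mp (hsup.ge hzc)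
      refine hout _ ?_ he.symm
      rw [Subgroup.coe_mul]
      refine mul_mem ?_ (hctrZ t2 ht2)
      obtain ⟨i, rfl⟩ := ht1
      rw [SubgroupClass.coe_zpow]
      refine Subgroup.zpow_mem (AbelianIndexP.ctr S) (Subgroup.mem_inf.mpr ⟨hES q.2, Subgroup.mem_centralizer_iff.mpr fun s hs => ?_⟩) i
      exact congrArg Subtype.val (Subgroup.mem_center_iff.mp (hQle (Subgroup.mem_zpowers _)) ⟨s, hs⟩)
    -- `α` preserves `⟨q⟩`
    obtain ⟨i, hi⟩ := hctrQ.ge (Subgroup.mem_zpowers c')
    have : α c' ∈ Subgroup.zpowers q := by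
      rw [← hi]
      show α (q ^ i) ∈ _
      rw [map_zpow, hqd, map_commutatorElement]
      exact Subgroup.zpow_mem _ (hcA _ _) i
    rw [hctrQ] at this
    exact hout _ (hctrZ _ this) rfl

end Cfsg.Agent.OrderFive52
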