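import Cfsg.Agent.OrderFive52.ThreeCalc

/-!
# A line of `S / Φ(S)` fixed by all automorphisms; the invariant series of `N`
-/

set_option autoImplicit false
set_option linter.unusedSectionVars false
set_option linter.style.haveILetI false

namespace Cfsg.Agent.OrderFive52

open scoped commutatorElement

variable {G : Type*} [Group G] {p : ℕ} [hp : Fact p.Prime] [Finite G] {R N : Subgroup G} {a f y v z : G}

/-- Some maximal subgroup `K` and some `f₀ ∉ K` with `f₀` fixed modulo `K` by every automorphism. -/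
def HasFixedLine (p : ℕ) (G : Type*) [Group G] : Prop :=
  ∃ K : Subgroup G, K.Normal ∧ (∀ u w : G, ⁅u, w⁆ ∈ K) ∧ (∀ u : G, u ^ p ∈ K) ∧
    ∃ f₀ : G, f₀ ∉ K ∧ ∀ α : MulAut G, f₀⁻¹ * α f₀ ∈ K

theorem sq_one_of_three {p : ℕ} (hp3 : p = 3) {q : ZMod p} (hq : q ≠ 0) : q * q = 1 := by
  subst hp3
  revert q
  decide

namespace Three

variable (h : Three p R N a f y v z)
include h

theorem a_ne : a ≠ 1 := fun e => h.zy1 (by simpa [e] using h.zyA)

theorem zy_gen : Subgroup.zpowers ⁅z, y⁆ = Subgroup.zpowers a :=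
  Subgroup.eq_of_le_of_card_ge (Subgroup.zpowers_le.mpr h.zyA) (by
    rw [Nat.card_zpowers, Nat.card_zpowers, orderOf_eq_prime h.zy_pow h.zy1, orderOf_eq_prime h.ap h.a_ne])

/-- The line `R₀ = ⟨a, f, z⟩` is normal, and all other elements of `N` are conjugate into `R`. -/
theorem conj_into {n : G} (hn : n ∈ N)
    (hnR : n ∉ Subgroup.zpowers a ⊔ Subgroup.zpowers f ⊔ Subgroup.zpowers z) : ∃ g : G, g * n * g⁻¹ ∈ R := by
  haveI := h.W_normal
  set W := Subgroup.zpowers a ⊔ Subgroup.zpowers f with hW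
  obtain ⟨r, hr, l, -, rfl⟩ := h.decN hn
  obtain ⟨i, j, k, rfl⟩ := h.gen r hr
  have hwW : a ^ i * f ^ j ∈ W := mul_mem
    (Subgroup.mem_sup_left (Subgroup.pow_mem _ (Subgroup.mem_zpowers a) i))
    (Subgroup.mem_sup_right (Subgroup.pow_mem _ (Subgroup.mem_zpowers f) j))
  have hk : (k : ZMod p) ≠ 0 := fun h0 => hnR (by
    rw [pow_cast_eq (h.exp y h.hy) (j := 0) (by rw [h0, Nat.cast_zero]), pow_zero, mul_one]
    exact mul_mem (Subgroup.mem_sup_left hwW) (Subgroup.mem_sup_right (Subgroup.pow_mem _ (Subgroup.mem_zpowers z) l)))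
  set e := ((l : ZMod p) / k).val
  have hc := h.comm_cube_center v y W hW
  have hz : (z : G ⧸ W) = ⁅(v : G ⧸ W), (y : G ⧸ W)⁆ := by
    rw [← h.zdef, ← QuotientGroup.mk'_apply, map_commutatorElement]; rfl
  have hzp : (z : G ⧸ W) ^ p = 1 := by
    rw [hz, ← cpow_right hc, ← QuotientGroup.mk_pow, h.exp y h.hy, QuotientGroup.mk_one,
      commutatorElement_one_right]
  have hq : ((v ^ e * y ^ k * (v ^ e)⁻¹ : G) : G ⧸ W) = ((a ^ i * f ^ j * y ^ k * z ^ l : G) : G ⧸ W) := by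
    rw [show v ^ e * y ^ k * (v ^ e)⁻¹ = ⁅v ^ e, y ^ k⁆ * y ^ k by rw [commutatorElement_def, inv_mul_cancel_right],
      QuotientGroup.mk_mul, QuotientGroup.mk_mul _ (a ^ i * f ^ j * y ^ k),
      QuotientGroup.mk_mul _ (a ^ i * f ^ j), (QuotientGroup.eq_one_iff _).mpr hwW, one_mul,
      ← QuotientGroup.mk'_apply, map_commutatorElement, map_pow, map_pow]
    simp only [QuotientGroup.mk'_apply, QuotientGroup.mk_pow]
    rw [cpow hc, ← hz, pow_cast_eq hzp (i := e * k) (j := l) (by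
      push_cast; rw [ZMod.natCast_zmod_val, div_mul_cancel₀ _ hk])]
    exact (Subgroup.mem_center_iff.mp (Subgroup.pow_mem _ (hz ▸ hc) l) _).symm
  refine ⟨(v ^ e)⁻¹, ?_⟩
  have hw : (v ^ e * y ^ k * (v ^ e)⁻¹)⁻¹ * (a ^ i * f ^ j * y ^ k * z ^ l) ∈ W := QuotientGroup.eq.mp hq
  set w := (v ^ e * y ^ k * (v ^ e)⁻¹)⁻¹ * (a ^ i * f ^ j * y ^ k * z ^ l) with hwdef
  have : a ^ i * f ^ j * y ^ k * z ^ l = v ^ e * y ^ k * (v ^ e)⁻¹ * w := by
    rw [hwdef, mul_inv_cancel_left]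
  rw [this, inv_inv, show (v ^ e)⁻¹ * (v ^ e * y ^ k * (v ^ e)⁻¹ * w) * v ^ e =
    y ^ k * ((v ^ e)⁻¹ * w * v ^ e) by group]
  exact mul_mem (pow_mem h.hy k) (h.W_le (by simpa using h.W_normal.conj_mem w hw (v ^ e)⁻¹))

theorem R0_normal : (Subgroup.zpowers a ⊔ Subgroup.zpowers f ⊔ Subgroup.zpowers z).Normal := ⟨fun u hu g => by
  haveI := h.W_normal
  set W := Subgroup.zpowers a ⊔ Subgroup.zpowers f with hW
  have hle : W ⊔ Subgroup.zpowers z ≤ (W ⊔ Subgroup.zpowers z).comap (MulAut.conj g).toMonoidHom := by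
    refine sup_le (fun w hw => Subgroup.mem_sup_left (h.W_normal.conj_mem w hw g)) (Subgroup.zpowers_le.mpr ?_)
    rw [Subgroup.mem_comap, MulEquiv.coe_toMonoidHom, MulAut.conj_apply,
      show g * z * g⁻¹ = ⁅g, z⁆ * z by rw [commutatorElement_def, inv_mul_cancel_right]]
    refine mul_mem (Subgroup.mem_sup_left ?_) (Subgroup.mem_sup_right (Subgroup.mem_zpowers z))
    obtain ⟨n, hn, k, -, rfl⟩ := h.dec g
    have hvz : ⁅(v : G ⧸ W), (z : G ⧸ W)⁆ = 1 := by
      rw [← QuotientGroup.mk'_apply, ← QuotientGroup.mk'_apply, ← map_commutatorElement, mem_quot_one_iff]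
      exact h.vz
    have hnz : ⁅(n : G ⧸ W), (z : G ⧸ W)⁆ = 1 := by
      rw [← QuotientGroup.mk'_apply, ← QuotientGroup.mk'_apply, ← map_commutatorElement, mem_quot_one_iff]
      exact Subgroup.mem_sup_left (h.commN n hn z h.zN)
    rw [← mem_quot_one_iff, map_commutatorElement, commutatorElement_eq_one_iff_mul_comm, map_mul, map_pow]
    exact ((show Commute _ _ from commutatorElement_eq_one_iff_mul_comm.mp hnz).mul_left
      ((show Commute _ _ from commutatorElement_eq_one_iff_mul_comm.mp hvz).pow_left k)).eq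
  exact hle hu⟩

theorem D_normal (hvz : ⁅v, z⁆ ∈ Subgroup.zpowers a) :
    (Subgroup.zpowers a ⊔ Subgroup.zpowers z).Normal := ⟨fun u hu g => by
  haveI := h.A_normal
  set A := Subgroup.zpowers a
  have hle : A ⊔ Subgroup.zpowers z ≤ (A ⊔ Subgroup.zpowers z).comap (MulAut.conj g).toMonoidHom := by
    refine sup_le (fun w hw => Subgroup.mem_sup_left (h.A_normal.conj_mem w hw g)) (Subgroup.zpowers_le.mpr ?_)
    rw [Subgroup.mem_comap, MulEquiv.coe_toMonoidHom, MulAut.conj_apply,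
      show g * z * g⁻¹ = ⁅g, z⁆ * z by rw [commutatorElement_def, inv_mul_cancel_right]]
    refine mul_mem (Subgroup.mem_sup_left ?_) (Subgroup.mem_sup_right (Subgroup.mem_zpowers z))
    obtain ⟨n, hn, k, -, rfl⟩ := h.dec g
    have hvz' : ⁅(v : G ⧸ A), (z : G ⧸ A)⁆ = 1 := by
      rw [← QuotientGroup.mk'_apply, ← QuotientGroup.mk'_apply, ← map_commutatorElement, mem_quot_one_iff]
      exact hvz
    have hnz : ⁅(n : G ⧸ A), (z : G ⧸ A)⁆ = 1 := by
      rw [← QuotientGroup.mk'_apply, ← QuotientGroup.mk'_apply, ← map_commutatorElement, mem_quot_one_iff]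
      exact h.commN n hn z h.zN
    rw [← mem_quot_one_iff, map_commutatorElement, commutatorElement_eq_one_iff_mul_comm, map_mul, map_pow]
    exact ((show Commute _ _ from commutatorElement_eq_one_iff_mul_comm.mp hnz).mul_left
      ((show Commute _ _ from commutatorElement_eq_one_iff_mul_comm.mp hvz').pow_left k)).eq
  exact hle hu⟩

theorem comm_mem_D (hvz : ⁅v, z⁆ ∈ Subgroup.zpowers a) (u w : G) :
    ⁅u, w⁆ ∈ Subgroup.zpowers a ⊔ Subgroup.zpowers z := by
  haveI := h.D_normal hvz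
  have hA : Subgroup.zpowers a ≤ Subgroup.zpowers a ⊔ Subgroup.zpowers z := le_sup_left
  have hgen : ∀ g : G, g ∈ Subgroup.closure ((N : Set G) ∪ {v}) := fun g => by
    obtain ⟨n, hn, k, -, rfl⟩ := h.dec g
    exact mul_mem (Subgroup.subset_closure (Or.inl hn)) (pow_mem (by exact Subgroup.subset_closure (Or.inr rfl)) k)
  have hvn : ∀ n ∈ N, ⁅v, n⁆ ∈ Subgroup.zpowers a ⊔ Subgroup.zpowers z := fun n hn => by
    obtain ⟨r, hr, l, -, rfl⟩ := h.decN hn
    obtain ⟨i, j, k, rfl⟩ := h.gen r hr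
    set D := Subgroup.zpowers a ⊔ Subgroup.zpowers z
    have c : ∀ t : G, ⁅v, t⁆ ∈ D → Commute (v : G ⧸ D) (t : G ⧸ D) := fun t ht => by
      rw [commute_iff_eq, ← commutatorElement_eq_one_iff_mul_comm, ← QuotientGroup.mk'_apply,
        ← QuotientGroup.mk'_apply, ← map_commutatorElement, mem_quot_one_iff]
      exact ht
    rw [← mem_quot_one_iff, map_commutatorElement, commutatorElement_eq_one_iff_mul_comm]
    simp only [map_mul, map_pow]
    refine (((Commute.mul_right ?_ ?_).mul_right ?_).mul_right ?_).eq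
    · refine (c a ?_).pow_right i
      rw [commutatorElement_eq_one_iff_mul_comm.mpr h.aN]; exact one_mem _
    · exact (c f (hA h.vf)).pow_right j
    · refine (c y ?_).pow_right k
      rw [h.zdef]; exact Subgroup.mem_sup_right (Subgroup.mem_zpowers z)
    · exact (c z (hA hvz)).pow_right l
  refine comm_mem_of_closure ?_ (hgen u) (hgen w)
  rintro s (hs | rfl) t (ht | rfl)
  · exact hA (h.commN s hs t ht)
  · rw [← commutatorElement_inv]; exact inv_mem (hvn s hs)
  · exact hvn t ht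
  · rw [commutatorElement_eq_one_iff_mul_comm.mpr rfl]; exact one_mem _

/-- With the torus, `v ^ p` lies in `⟨a, z⟩`. -/
theorem vp_mem (hp2 : p ≠ 2) (hvz : ⁅v, z⁆ = 1) (ψ : MulAut G) {c d : ℕ} (ha : ψ a = a ^ c) (hy : ψ y = y ^ d)
    (hf : ψ f = f) (hc : (c : ZMod p) = -1) (hd : (d : ZMod p) = -1) :
    v ^ p ∈ Subgroup.zpowers a ⊔ Subgroup.zpowers z := by
  have hvzA : ⁅v, z⁆ ∈ Subgroup.zpowers a := by rw [hvz]; exact one_mem _
  haveI := h.D_normal hvzA
  haveI := h.A_normal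
  set D := Subgroup.zpowers a ⊔ Subgroup.zpowers z with hD
  have hab : ∀ u w : G ⧸ D, Commute u w := fun u w => by
    induction u using QuotientGroup.induction_on with
    | H u => induction w using QuotientGroup.induction_on with
      | H w =>
        rw [commute_iff_eq, ← commutatorElement_eq_one_iff_mul_comm, ← QuotientGroup.mk'_apply,
          ← QuotientGroup.mk'_apply, ← map_commutatorElement, mem_quot_one_iff]
        exact h.comm_mem_D hvzA u w
  have haD : (a : G ⧸ D) = 1 := (QuotientGroup.eq_one_iff a).mpr (Subgroup.mem_sup_left (Subgroup.mem_zpowers a))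
  have hzD : (z : G ⧸ D) = 1 := (QuotientGroup.eq_one_iff z).mpr (Subgroup.mem_sup_right (Subgroup.mem_zpowers z))
  have hNexp : ∀ n ∈ N, (n : G ⧸ D) ^ p = 1 := fun n hn => by
    obtain ⟨r, hr, l, -, rfl⟩ := h.decN hn
    rw [QuotientGroup.mk_mul, QuotientGroup.mk_pow, hzD, one_pow, mul_one, ← QuotientGroup.mk_pow, h.exp r hr,
      QuotientGroup.mk_one]
  haveI := h.N_normal
  have hvpN : v ^ p ∈ N := h.idx ▸ Subgroup.pow_index_mem N v
  obtain ⟨r, hr, l, -, hrl⟩ := h.decN hvpN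
  obtain ⟨i, j, k, rfl⟩ := h.gen r hr
  have hq : ((v ^ p : G) : G ⧸ Subgroup.zpowers a) = ((f ^ j * y ^ k * z ^ l : G) : G ⧸ Subgroup.zpowers a) := by
    rw [hrl, mul_assoc (a ^ i), mul_assoc (a ^ i)]
    rw [QuotientGroup.mk_mul _ (a ^ i), (QuotientGroup.eq_one_iff _).mpr
      (Subgroup.pow_mem _ (Subgroup.mem_zpowers a) i), one_mul]
  have hk : (k : ZMod p) = 0 := by
    by_contra hk
    set A := Subgroup.zpowers a
    have hf' : Commute (v : G ⧸ A) (f : G ⧸ A) := by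
      rw [commute_iff_eq, ← commutatorElement_eq_one_iff_mul_comm, ← QuotientGroup.mk'_apply,
        ← QuotientGroup.mk'_apply, ← map_commutatorElement, mem_quot_one_iff]
      exact h.vf
    have hz' : Commute (v : G ⧸ A) (z : G ⧸ A) := by
      rw [commute_iff_eq, ← QuotientGroup.mk_mul, commutatorElement_eq_one_iff_mul_comm.mp hvz,
        QuotientGroup.mk_mul]
    have hall : Commute (v : G ⧸ A) ((f ^ j * y ^ k * z ^ l : G) : G ⧸ A) := by
      rw [← hq, QuotientGroup.mk_pow]; exact (Commute.refl _).pow_right p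
    simp only [QuotientGroup.mk_mul, QuotientGroup.mk_pow] at hall
    have hy' : Commute (v : G ⧸ A) ((y : G ⧸ A) ^ k) := by
      have h1 := ((hf'.pow_right j).inv_right.mul_right hall).mul_right (hz'.pow_right l).inv_right
      simpa [mul_assoc] using h1
    have hy1 : Commute (v : G ⧸ A) (y : G ⧸ A) := by
      have h1 := hy'.pow_right ((k : ZMod p)⁻¹).val
      have hyp : (y : G ⧸ A) ^ p = 1 := by rw [← QuotientGroup.mk_pow, h.exp y h.hy, QuotientGroup.mk_one]
      rwa [← pow_mul, pow_cast_eq hyp (j := 1) (by push_cast; rw [ZMod.natCast_zmod_val, mul_inv_cancel₀ hk]),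
        pow_one] at h1
    apply h.zR
    refine Subgroup.zpowers_le.mpr h.ha ?_
    rw [← mem_quot_one_iff, ← h.zdef, map_commutatorElement, commutatorElement_eq_one_iff_mul_comm]
    exact hy1.eq
  have hyk : y ^ k = 1 := by rw [pow_cast_eq (h.exp y h.hy) (j := 0) (by rw [hk, Nat.cast_zero]), pow_zero]
  rw [hyk, mul_one] at hrl
  have hvD : (v : G ⧸ D) ^ p = (f : G ⧸ D) ^ j := by
    rw [← QuotientGroup.mk_pow, hrl]
    simp only [QuotientGroup.mk_mul, QuotientGroup.mk_pow, haD, hzD, one_pow, one_mul, mul_one]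
  -- apply the torus
  obtain ⟨n, hn, m, hv, hm, w, hw, hz⟩ := h.weights ψ ha hy
  have hm1 := h.neg_one_weights hc hd hm
  have e1 : ((ψ (v ^ p) : G) : G ⧸ D) = (f : G ⧸ D) ^ (j * m) := by
    rw [map_pow, hv, QuotientGroup.mk_pow, QuotientGroup.mk_mul, QuotientGroup.mk_pow, (hab _ _).mul_pow,
      hNexp n hn, one_mul, ← pow_mul, mul_comm m, pow_mul, hvD, ← pow_mul]
  have hψD : ∀ u ∈ D, ψ u ∈ D := by
    intro u hu
    have hle : D ≤ D.comap ψ.toMonoidHom := by
      refine sup_le (Subgroup.zpowers_le.mpr ?_) (Subgroup.zpowers_le.mpr ?_)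
      · rw [Subgroup.mem_comap, MulEquiv.coe_toMonoidHom, ha]
        exact Subgroup.mem_sup_left (Subgroup.pow_mem _ (Subgroup.mem_zpowers a) c)
      · rw [Subgroup.mem_comap, MulEquiv.coe_toMonoidHom, ← h.zdef, map_commutatorElement]
        exact h.comm_mem_D hvzA _ _
    exact hle hu
  have e2 : ((ψ (v ^ p) : G) : G ⧸ D) = (f : G ⧸ D) ^ j := by
    rw [hrl]
    simp only [map_mul, map_pow, hf, QuotientGroup.mk_mul, QuotientGroup.mk_pow]
    have e : ∀ u ∈ D, ((ψ u : G) : G ⧸ D) = 1 := fun u hu => (QuotientGroup.eq_one_iff _).mpr (hψD u hu)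
    rw [e a (Subgroup.mem_sup_left (Subgroup.mem_zpowers a)),
      e z (Subgroup.mem_sup_right (Subgroup.mem_zpowers z)), one_pow, one_pow, one_mul, mul_one]
  rw [← QuotientGroup.eq_one_iff, QuotientGroup.mk_pow, hvD]
  have hfD : (f : G ⧸ D) ^ p = 1 := by rw [← QuotientGroup.mk_pow, h.exp f h.hf, QuotientGroup.mk_one]
  by_cases hf1 : (f : G ⧸ D) = 1
  · rw [hf1, one_pow]
  · have hj := cast_eq_of_pow_eq hfD hf1 (e1.symm.trans e2)
    push_cast at hj
    rw [hm1] at hj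
    have hj0 : (j : ZMod p) = 0 := by
      have h2 : (2 : ZMod p) * j = 0 := by linear_combination -hj
      refine (mul_eq_zero.mp h2).resolve_left fun h2' => hp2 ?_
      exact ((Nat.prime_dvd_prime_iff_eq hp.out Nat.prime_two).mp
        ((ZMod.natCast_eq_zero_iff 2 p).mp (by exact_mod_cast h2')))
    rw [pow_cast_eq hfD (j := 0) (by rw [hj0, Nat.cast_zero]), pow_zero]

/-- For `p = 3`: every automorphism fixes `f` modulo a maximal subgroup. -/
theorem hasFixedLine (hp3 : p = 3) (hvz : ⁅v, z⁆ = 1) (hvp : v ^ p ∈ Subgroup.zpowers a ⊔ Subgroup.zpowers z)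
    (hvf : ⁅v, f⁆ ≠ 1) : HasFixedLine p G := by
  have hvzA : ⁅v, z⁆ ∈ Subgroup.zpowers a := by rw [hvz]; exact one_mem _
  haveI := h.D_normal hvzA
  haveI := h.A_normal
  haveI := h.N_normal
  set A := Subgroup.zpowers a
  set D := A ⊔ Subgroup.zpowers z with hD
  have hcD : ∀ u w : G, ⁅u, w⁆ ∈ D := h.comm_mem_D hvzA
  have hnorm : ∀ H : Subgroup G, D ≤ H → H.Normal := fun H hH => ⟨fun u hu g => by
    rw [show g * u * g⁻¹ = ⁅g, u⁆ * u by rw [commutatorElement_def, inv_mul_cancel_right]]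
    exact mul_mem (hH (hcD g u)) hu⟩
  haveI hK1 : (D ⊔ Subgroup.zpowers y).Normal := hnorm _ le_sup_left
  haveI hK0 : (D ⊔ Subgroup.zpowers y ⊔ Subgroup.zpowers v).Normal := hnorm _ (le_sup_left.trans le_sup_left)
  set K := D ⊔ Subgroup.zpowers y ⊔ Subgroup.zpowers v with hK
  have haK : a ∈ K := Subgroup.mem_sup_left (Subgroup.mem_sup_left (Subgroup.mem_sup_left (Subgroup.mem_zpowers a)))
  have hzK : z ∈ K := Subgroup.mem_sup_left (Subgroup.mem_sup_left (Subgroup.mem_sup_right (Subgroup.mem_zpowers z)))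
  have hyK : y ∈ K := Subgroup.mem_sup_left (Subgroup.mem_sup_right (Subgroup.mem_zpowers y))
  have hvK : v ∈ K := Subgroup.mem_sup_right (Subgroup.mem_zpowers v)
  have hfK : f ∉ K := by
    intro hf
    have htop : K = ⊤ := (Subgroup.eq_top_iff' K).mpr fun g => by
      obtain ⟨n, hn, k, -, rfl⟩ := h.dec g
      obtain ⟨r, hr, l, -, rfl⟩ := h.decN hn
      obtain ⟨i, j, k', rfl⟩ := h.gen r hr
      exact mul_mem (mul_mem (mul_mem (mul_mem (pow_mem haK i) (pow_mem hf j)) (pow_mem hyK k')) (pow_mem hzK l))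
        (pow_mem hvK k)
    have hz' : z ^ p ∈ A := by
      obtain ⟨r, hr, l, hl, e⟩ := h.decN h.zN
      have hc : ⁅v, y⁆ = z := h.zdef
      -- `z = ⁅v, y⁆` has order dividing `p` modulo `A`
      rw [← mem_quot_one_iff, map_pow, ← hc, map_commutatorElement]
      have hcen : ⁅(v : G ⧸ A), (y : G ⧸ A)⁆ ∈ Subgroup.center (G ⧸ A) := by
        rw [← QuotientGroup.mk'_apply, ← QuotientGroup.mk'_apply, ← map_commutatorElement, hc,
          QuotientGroup.mk'_apply]
        refine mem_center_quot fun g => ?_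
        obtain ⟨n, hn, k, -, rfl⟩ := h.dec g
        have h1 : ⁅v ^ k, z⁆ = 1 := commutatorElement_eq_one_iff_mul_comm.mpr
          ((show Commute v z from commutatorElement_eq_one_iff_mul_comm.mp hvz).pow_left k).eq
        rw [cmul_left (by rw [h1]; exact one_mem _), h1, mul_one]
        exact h.commN n hn z h.zN
      rw [QuotientGroup.mk'_apply, QuotientGroup.mk'_apply, ← cpow_right hcen, ← QuotientGroup.mk_pow,
        h.exp y h.hy, QuotientGroup.mk_one, commutatorElement_one_right]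
    have hA : Nat.card A ≤ p := card_zpowers_le h.ap
    have hDc : Nat.card D ≤ p * p := (card_sup_zpowers_le hz').trans (Nat.mul_le_mul_right p hA)
    have hK1c : Nat.card (D ⊔ Subgroup.zpowers y : Subgroup G) ≤ p * p * p :=
      (card_sup_zpowers_le (by rw [h.exp y h.hy]; exact one_mem _)).trans (Nat.mul_le_mul_right p hDc)
    have hKc : Nat.card K ≤ p * p * p * p :=
      (card_sup_zpowers_le (Subgroup.mem_sup_left hvp)).trans (Nat.mul_le_mul_right p hK1c)
    rw [htop, Subgroup.card_top, h.card] at hKc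
    have hlt : p ^ 4 < p ^ 5 := Nat.pow_lt_pow_right hp.out.one_lt (by norm_num)
    have e4 : p ^ 4 = p * p * p * p := by ring
    omega
  refine ⟨K, hK0, fun u w => Subgroup.mem_sup_left (Subgroup.mem_sup_left (hcD u w)), fun u => ?_, f, hfK, ?_⟩
  · rw [← mem_quot_one_iff, map_pow]
    obtain ⟨n, hn, k, -, rfl⟩ := h.dec u
    obtain ⟨r, hr, l, -, rfl⟩ := h.decN hn
    rw [map_mul, map_mul, map_pow, map_pow, mem_quot_one_iff.mpr hzK, mem_quot_one_iff.mpr hvK, one_pow,
      one_pow, mul_one, mul_one, ← map_pow, h.exp r hr, map_one]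
  intro α
  -- characteristic subgroups
  set U := A ⊔ Subgroup.zpowers f ⊔ Subgroup.zpowers z with hU
  have hUM : ∀ u ∈ U, Commute z u := by
    intro u hu
    have hle : U ≤ Subgroup.centralizer {z} := sup_le (sup_le
      (Subgroup.zpowers_le.mpr (Subgroup.mem_centralizer_singleton_iff.mpr h.aN.symm))
      (Subgroup.zpowers_le.mpr (Subgroup.mem_centralizer_singleton_iff.mpr (h.fN z h.zN).symm)))
      (Subgroup.zpowers_le.mpr (Subgroup.mem_centralizer_singleton_iff.mpr rfl))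
    exact (Subgroup.mem_centralizer_singleton_iff.mp (hle hu)).symm
  have hDchar : ∀ u ∈ D, α u ∈ D := by
    intro u hu
    have hle : D ≤ D.comap α.toMonoidHom := by
      refine sup_le ?_ (Subgroup.zpowers_le.mpr ?_)
      · rw [← show Subgroup.zpowers ⁅z, y⁆ = A from h.zy_gen]
        refine Subgroup.zpowers_le.mpr ?_
        rw [Subgroup.mem_comap, MulEquiv.coe_toMonoidHom, map_commutatorElement]
        exact hcD _ _
      · rw [Subgroup.mem_comap, MulEquiv.coe_toMonoidHom, ← h.zdef, map_commutatorElement]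
        exact hcD _ _
    exact hle hu
  have hDA : ∀ u ∈ D, ∀ g : G, ⁅g, u⁆ ∈ A := by
    intro u hu g
    have hzc : (z : G ⧸ A) ∈ Subgroup.center (G ⧸ A) := by
      refine mem_center_quot fun g => ?_
      obtain ⟨n, hn, k, -, rfl⟩ := h.dec g
      have h1 : ⁅v ^ k, z⁆ = 1 := commutatorElement_eq_one_iff_mul_comm.mpr
        ((show Commute v z from commutatorElement_eq_one_iff_mul_comm.mp hvz).pow_left k).eq
      rw [cmul_left (by rw [h1]; exact one_mem _), h1, mul_one]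
      exact h.commN n hn z h.zN
    have hle : D ≤ (Subgroup.center (G ⧸ A)).comap (QuotientGroup.mk' A) := by
      refine sup_le (fun x hx => ?_) (Subgroup.zpowers_le.mpr hzc)
      rw [Subgroup.mem_comap, mem_quot_one_iff.mpr hx]
      exact one_mem _
    rw [← mem_quot_one_iff, map_commutatorElement, commutatorElement_eq_one_iff_mul_comm]
    exact Subgroup.mem_center_iff.mp (hle hu) _
  have hzD : z ∈ D := Subgroup.mem_sup_right (Subgroup.mem_zpowers z)
  have hAchar : ∀ u ∈ A, α u ∈ A := by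
    intro u hu
    have hle : A ≤ A.comap α.toMonoidHom := by
      rw [← show Subgroup.zpowers ⁅z, y⁆ = A from h.zy_gen]
      refine Subgroup.zpowers_le.mpr ?_
      rw [h.zy_gen, Subgroup.mem_comap, MulEquiv.coe_toMonoidHom, map_commutatorElement, ← commutatorElement_inv]
      exact inv_mem (hDA _ (hDchar z hzD) _)
    exact hle hu
  -- normal forms
  have hform : ∀ g : G, ∃ u ∈ U, ∃ k t : ℕ, g = u * y ^ k * v ^ t := by
    intro g
    obtain ⟨n, hn, t, -, rfl⟩ := h.dec g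
    obtain ⟨r, hr, l, -, rfl⟩ := h.decN hn
    obtain ⟨i, j, k, rfl⟩ := h.gen r hr
    obtain ⟨q, hq⟩ := exists_pow_of_mem_zpowers h.ap h.zyA
    have e : y ^ k * z ^ l = a ^ (q * (k * l) * (p - 1)) * z ^ l * y ^ k := by
      have hc : ⁅z, y⁆ ∈ Subgroup.center G := h.mem_center_of_mem_A h.zyA
      have h1 : ⁅y ^ k, z ^ l⁆ = a ^ (q * (k * l) * (p - 1)) := by
        have hc' : ⁅y, z⁆ ∈ Subgroup.center G := by
          rw [← commutatorElement_inv]; exact inv_mem hc
        rw [cpow hc', ← commutatorElement_inv, hq, inv_pow, ← pow_mul, inv_eq_iff_mul_eq_one, ← pow_add,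
          show q * (k * l) + q * (k * l) * (p - 1) = p * (q * (k * l)) by
            obtain ⟨p', rfl⟩ := Nat.exists_eq_add_of_le hp.out.one_le; simp; ring,
          pow_mul, h.ap, one_pow]
      rw [← h1, commutatorElement_def]; group
    refine ⟨a ^ i * f ^ j * (a ^ (q * (k * l) * (p - 1)) * z ^ l), ?_, k, t, ?_⟩
    · exact mul_mem (Subgroup.mem_sup_left (mul_mem
        (Subgroup.mem_sup_left (Subgroup.pow_mem _ (Subgroup.mem_zpowers a) i))
        (Subgroup.mem_sup_right (Subgroup.pow_mem _ (Subgroup.mem_zpowers f) j))))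
        (mul_mem (Subgroup.mem_sup_left (Subgroup.mem_sup_left (Subgroup.pow_mem _ (Subgroup.mem_zpowers a) _)))
          (Subgroup.mem_sup_right (Subgroup.pow_mem _ (Subgroup.mem_zpowers z) l)))
    · rw [mul_assoc (a ^ i * f ^ j) (y ^ k), e]
      simp only [mul_assoc]
  have hUA : ∀ u ∈ U, (u : G ⧸ A) ∈ Subgroup.center (G ⧸ A) := by
    intro u hu
    have hzc : (z : G ⧸ A) ∈ Subgroup.center (G ⧸ A) := mem_center_quot fun g => hDA z hzD g
    have hle : U ≤ (Subgroup.center (G ⧸ A)).comap (QuotientGroup.mk' A) := by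
      refine sup_le (sup_le (fun x hx => ?_) (Subgroup.zpowers_le.mpr (mem_center_quot h.comm_f)))
        (Subgroup.zpowers_le.mpr hzc)
      rw [Subgroup.mem_comap, mem_quot_one_iff.mpr hx]
      exact one_mem _
    exact hle hu
  have hvzc : Commute v z := commutatorElement_eq_one_iff_mul_comm.mp hvz
  have hvy : ⁅(v : G ⧸ A), (y : G ⧸ A)⁆ = (z : G ⧸ A) := by
    rw [← QuotientGroup.mk'_apply, ← QuotientGroup.mk'_apply, ← map_commutatorElement, h.zdef]; rfl
  have hzA : (z : G ⧸ A) ∈ Subgroup.center (G ⧸ A) := hUA z (Subgroup.mem_sup_right (Subgroup.mem_zpowers z))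
  have hqc : ⁅z, y⁆ ∈ Subgroup.center G := h.mem_center_of_mem_A h.zyA
  -- the image of `y`
  obtain ⟨u2, hu2, μ, η, hαy⟩ := hform (α y)
  -- the image of `f`
  obtain ⟨u0, hu0, k0, t0, hαf⟩ := hform (α f)
  obtain ⟨u1, hu1, k1, χ, hαv⟩ := hform (α v)
  have hαfc : ((α f : G) : G ⧸ A) ∈ Subgroup.center (G ⧸ A) := mem_center_quot fun g => by
    obtain ⟨g', rfl⟩ := α.surjective g
    rw [← map_commutatorElement]
    exact hAchar _ (h.comm_f g')
  have hzA1 : (z : G ⧸ A) ≠ 1 := fun e => h.zR (Subgroup.zpowers_le.mpr h.ha ((QuotientGroup.eq_one_iff z).mp e))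
  have hzAp : (z : G ⧸ A) ^ p = 1 := by
    rw [← hvy, ← cpow_right (by rw [hvy]; exact hzA), ← QuotientGroup.mk_pow, h.exp y h.hy,
      QuotientGroup.mk_one, commutatorElement_one_right]
  have hk0 : (k0 : ZMod p) = 0 ∧ (t0 : ZMod p) = 0 := by
    have hu0c := hUA u0 hu0
    have hcom : ∀ t : G ⧸ A, ⁅t, (u0 : G ⧸ A)⁆ = 1 ∧ ⁅(u0 : G ⧸ A), t⁆ = 1 := fun t =>
      ⟨commutatorElement_eq_one_iff_mul_comm.mpr (Subgroup.mem_center_iff.mp hu0c t),
        commutatorElement_eq_one_iff_mul_comm.mpr (Subgroup.mem_center_iff.mp hu0c t).symm⟩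
    have hq : ((y : G ⧸ A) ^ k0 * (v : G ⧸ A) ^ t0) ∈ Subgroup.center (G ⧸ A) := by
      have h1 := hαfc
      rw [hαf, QuotientGroup.mk_mul, QuotientGroup.mk_mul, QuotientGroup.mk_pow, QuotientGroup.mk_pow,
        mul_assoc] at h1
      have h2 := mul_mem (inv_mem hu0c) h1
      rwa [inv_mul_cancel_left] at h2
    constructor
    · by_contra hne
      have h1 := Subgroup.mem_center_iff.mp hq (v : G ⧸ A)
      rw [← commutatorElement_eq_one_iff_mul_comm] at h1
      have hvt : ⁅(v : G ⧸ A), (v : G ⧸ A) ^ t0⁆ = 1 :=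
        commutatorElement_eq_one_iff_mul_comm.mpr ((Commute.refl _).pow_right t0).eq
      rw [cmul_right (by rw [hvt]; exact one_mem _), hvt, mul_one, cpow_right (by rw [hvy]; exact hzA), hvy] at h1
      exact hne ((cast_eq_of_pow_eq hzAp hzA1 (j := 0) (by rw [h1, pow_zero])).trans Nat.cast_zero)
    · by_contra hne
      have h1 := (Subgroup.mem_center_iff.mp hq (y : G ⧸ A)).symm
      rw [← commutatorElement_eq_one_iff_mul_comm] at h1
      have hyk : ⁅(y : G ⧸ A) ^ k0, (y : G ⧸ A)⁆ = 1 :=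
        commutatorElement_eq_one_iff_mul_comm.mpr ((Commute.refl _).pow_left k0).eq
      have hv1 : ⁅(v : G ⧸ A) ^ t0, (y : G ⧸ A)⁆ = (z : G ⧸ A) ^ t0 := by
        rw [cpow_left (by rw [hvy]; exact hzA), hvy]
      rw [cmul_left (by rw [hv1]; exact Subgroup.pow_mem _ hzA _), hyk, one_mul, hv1] at h1
      exact hne ((cast_eq_of_pow_eq hzAp hzA1 (j := 0) (by rw [h1, pow_zero])).trans Nat.cast_zero)
  have hyp : (y : G) ^ p = 1 := h.exp y h.hy
  have hfU : α f ∈ U := by
    have hv0 : v ^ t0 ∈ U := by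
      obtain ⟨m, hm⟩ := (ZMod.natCast_eq_zero_iff t0 p).mp hk0.2
      rw [hm, pow_mul]
      refine U.pow_mem ?_ m
      have hle : D ≤ U := sup_le (le_sup_left.trans le_sup_left) le_sup_right
      exact hle hvp
    rw [hαf, pow_cast_eq hyp (j := 0) (by rw [hk0.1, Nat.cast_zero]), pow_zero, mul_one]
    exact mul_mem hu0 hv0
  have hk1 : (k1 : ZMod p) = 0 := by
    have h1 : ⁅z, α v⁆ = 1 := by
      obtain ⟨z', hz'⟩ := α.surjective z
      have hz'D : z' ∈ D := by
        have hinj : Function.Injective (fun u : D => (⟨α u, hDchar u u.2⟩ : D)) := fun u w e =>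
          Subtype.ext (α.injective (congrArg Subtype.val e))
        obtain ⟨⟨w, hw⟩, e⟩ := (Finite.injective_iff_surjective.mp hinj) ⟨z, hzD⟩
        have : z' = w := α.injective (hz'.trans (congrArg Subtype.val e).symm)
        exact this ▸ hw
      rw [← hz', ← map_commutatorElement, commutatorElement_eq_one_iff_mul_comm.mpr, map_one]
      have hle : D ≤ Subgroup.centralizer {v} := sup_le
        (Subgroup.zpowers_le.mpr (Subgroup.mem_centralizer_singleton_iff.mpr h.aN.symm))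
        (Subgroup.zpowers_le.mpr (Subgroup.mem_centralizer_singleton_iff.mpr hvzc.symm.eq))
      exact Subgroup.mem_centralizer_singleton_iff.mp (hle hz'D)
    rw [hαv] at h1
    have c1 : ⁅z, u1⁆ = 1 := commutatorElement_eq_one_iff_mul_comm.mpr (hUM u1 hu1).eq
    have c2 : ⁅z, v ^ χ⁆ = 1 := commutatorElement_eq_one_iff_mul_comm.mpr (hvzc.symm.pow_right χ).eq
    rw [cmul_right (by rw [c2]; exact one_mem _), c2, mul_one,
      cmul_right (by rw [cpow_right hqc]; exact Subgroup.pow_mem _ hqc _), c1, one_mul, cpow_right hqc] at h1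
    exact (cast_eq_of_pow_eq h.zy_pow h.zy1 (j := 0) (by rw [h1, pow_zero])).trans Nat.cast_zero
  have hαv' : α v = u1 * v ^ χ := by
    rw [hαv, pow_cast_eq hyp (j := 0) (by rw [hk1, Nat.cast_zero]), pow_zero, mul_one]
  -- the weight of `z`
  have hαz : ((α z : G) : G ⧸ A) = (z : G ⧸ A) ^ (χ * μ) := by
    rw [← h.zdef, map_commutatorElement, hαv', hαy, ← QuotientGroup.mk'_apply, map_commutatorElement,
      map_mul, map_mul, map_mul, map_pow, map_pow, map_pow]
    simp only [QuotientGroup.mk'_apply]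
    rw [h.zdef]
    have hu1c := hUA u1 hu1
    have hu2c := hUA u2 hu2
    have c1 : ∀ t : G ⧸ A, ⁅(u1 : G ⧸ A), t⁆ = 1 := fun t =>
      commutatorElement_eq_one_iff_mul_comm.mpr (Subgroup.mem_center_iff.mp hu1c t).symm
    have c2 : ∀ t : G ⧸ A, ⁅t, (u2 : G ⧸ A)⁆ = 1 := fun t =>
      commutatorElement_eq_one_iff_mul_comm.mpr (Subgroup.mem_center_iff.mp hu2c t)
    have hvv : ⁅(v : G ⧸ A) ^ χ, (v : G ⧸ A) ^ η⁆ = 1 :=
      commutatorElement_eq_one_iff_mul_comm.mpr ((Commute.refl _).pow_pow χ η).eq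
    have hvyc : ⁅(v : G ⧸ A) ^ χ, (y : G ⧸ A) ^ μ⁆ = (z : G ⧸ A) ^ (χ * μ) := by
      rw [cpow (by rw [hvy]; exact hzA), hvy]
    have hX : ⁅(v : G ⧸ A) ^ χ, (u2 : G ⧸ A) * (y : G ⧸ A) ^ μ * (v : G ⧸ A) ^ η⁆ = (z : G ⧸ A) ^ (χ * μ) := by
      rw [cmul_right (by rw [hvv]; exact one_mem _), hvv, mul_one,
        cmul_right (by rw [hvyc]; exact Subgroup.pow_mem _ hzA _), c2, one_mul, hvyc]
    rw [cmul_left (by rw [hX]; exact Subgroup.pow_mem _ hzA _), c1, one_mul, hX]
  obtain ⟨w, hw, hzw⟩ : ∃ w ∈ A, α z = z ^ (χ * μ) * w :=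
    ⟨_, QuotientGroup.eq.mp ((QuotientGroup.mk_pow A z _).trans hαz.symm), (mul_inv_cancel_left _ _).symm⟩
  -- the weight of `⁅z, y⁆`
  have hαq : α ⁅z, y⁆ = ⁅z, y⁆ ^ (χ * μ * μ) := by
    have cw : ∀ t : G, ⁅w, t⁆ = 1 := fun t => commutatorElement_eq_one_iff_mul_comm.mpr
      (Subgroup.mem_center_iff.mp (h.mem_center_of_mem_A hw) t).symm
    have cz1 : ∀ e : ℕ, ⁅z ^ e, u2⁆ = 1 := fun e =>
      commutatorElement_eq_one_iff_mul_comm.mpr ((hUM u2 hu2).pow_left e).eq
    have cz2 : ∀ e : ℕ, ⁅z ^ e, v ^ η⁆ = 1 := fun e =>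
      commutatorElement_eq_one_iff_mul_comm.mpr (hvzc.symm.pow_pow e η).eq
    rw [map_commutatorElement, hzw, cmul_left (by rw [cw]; exact one_mem _), cw, mul_one, hαy,
      cmul_right (by rw [cz2]; exact one_mem _), cz2, mul_one,
      cmul_right (by rw [cpow hqc]; exact Subgroup.pow_mem _ hqc _), cz1, one_mul, cpow hqc]
  -- the image of `f`
  obtain ⟨s0, hs0, w0, hw0, hαf'⟩ : ∃ s0 ∈ A ⊔ Subgroup.zpowers f, ∃ w0 ∈ Subgroup.zpowers z, α f = s0 * w0 := by
    haveI := h.W_normal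
    obtain ⟨s0, hs0, w0, hw0, e⟩ := Subgroup.mem_sup_of_normal_left.mp hfU
    exact ⟨s0, hs0, w0, hw0, e.symm⟩
  obtain ⟨a0, ha0, f0, hf0, rfl⟩ := Subgroup.mem_sup_of_normal_left.mp hs0
  obtain ⟨φ, rfl⟩ := exists_pow_of_mem_zpowers (h.exp f h.hf) hf0
  have hvfc : ⁅v, f⁆ ∈ Subgroup.center G := h.mem_center_of_mem_A h.vf
  have hαr : α ⁅v, f⁆ = ⁅v, f⁆ ^ (χ * φ) := by
    have hw0v : Commute v w0 := by
      obtain ⟨i, rfl⟩ := hw0
      exact hvzc.zpow_right i
    have c0 : ∀ t : G, ⁅t, a0⁆ = 1 := fun t => commutatorElement_eq_one_iff_mul_comm.mpr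
      (Subgroup.mem_center_iff.mp (h.mem_center_of_mem_A ha0) t)
    have cu1 : ∀ t ∈ U, ⁅u1, t⁆ = 1 := by
      intro t ht
      have e2 : z * f = f * z := h.fN z h.zN
      have hs : ∀ r1 ∈ ({a, f, z} : Set G), ∀ r2 ∈ ({a, f, z} : Set G), ⁅r1, r2⁆ ∈ (⊥ : Subgroup G) := by
        rintro r1 (rfl | rfl | rfl) r2 (rfl | rfl | rfl) <;>
          rw [Subgroup.mem_bot, commutatorElement_eq_one_iff_mul_comm] <;>
          first | rfl | exact h.aN | exact h.aN.symm | exact e2 | exact e2.symm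
      have hle : U ≤ Subgroup.closure {a, f, z} := by
        refine sup_le (sup_le ?_ ?_) ?_ <;> exact Subgroup.zpowers_le.mpr (Subgroup.subset_closure (by simp))
      exact Subgroup.mem_bot.mp (comm_mem_of_closure hs (hle hu1) (hle ht))
    have cv2 : ⁅v ^ χ, a0 * f ^ φ * w0⁆ = ⁅v, f⁆ ^ (χ * φ) := by
      have e1 : ⁅v ^ χ, w0⁆ = 1 := commutatorElement_eq_one_iff_mul_comm.mpr (hw0v.pow_left χ).eq
      rw [cmul_right (by rw [e1]; exact one_mem _), e1, mul_one,
        cmul_right (by rw [cpow hvfc]; exact Subgroup.pow_mem _ hvfc _), c0, one_mul, cpow hvfc]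
    rw [map_commutatorElement, hαv', hαf', cmul_left (by rw [cv2]; exact Subgroup.pow_mem _ hvfc _),
      cu1 _ (hαf' ▸ hfU), one_mul, cv2]
  obtain ⟨l0, hl0⟩ : ∃ l0, ⁅v, f⁆ = ⁅z, y⁆ ^ l0 :=
    exists_pow_of_mem_zpowers h.zy_pow (by rw [h.zy_gen]; exact h.vf)
  have heq : ⁅z, y⁆ ^ (l0 * (χ * φ)) = ⁅z, y⁆ ^ (χ * μ * μ * l0) := by
    rw [pow_mul, ← hl0, ← hαr, hl0, map_pow, hαq, ← pow_mul]
  have hrel := cast_eq_of_pow_eq h.zy_pow h.zy1 heq
  push_cast at hrel
  have hl0' : (l0 : ZMod p) ≠ 0 := fun e => hvf (by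
    rw [hl0, pow_cast_eq h.zy_pow (j := 0) (by rw [e, Nat.cast_zero]), pow_zero])
  have hq0 : ((χ * μ * μ : ℕ) : ZMod p) ≠ 0 := by
    intro e
    have h1 : α ⁅z, y⁆ = 1 := by
      rw [hαq, pow_cast_eq h.zy_pow (j := 0) (by rw [e, Nat.cast_zero]), pow_zero]
    exact h.zy1 (α.injective (h1.trans (map_one α).symm))
  push_cast at hq0
  have hμ : (μ : ZMod p) ≠ 0 := right_ne_zero_of_mul hq0
  have hχ : (χ : ZMod p) ≠ 0 := left_ne_zero_of_mul (left_ne_zero_of_mul hq0)
  have hφ : (φ : ZMod p) = μ * μ :=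
    mul_left_cancel₀ (mul_ne_zero hl0' hχ) (by linear_combination hrel)
  have hμ2 : (μ : ZMod p) * μ = 1 := by
    exact sq_one_of_three hp3 hμ
  rw [hμ2] at hφ
  have hfφ : f ^ φ = f := by
    rw [pow_cast_eq (h.exp f h.hf) (j := 1) (by rw [hφ, Nat.cast_one]), pow_one]
  rw [hαf', hfφ, ← mem_quot_one_iff, map_mul, map_mul, map_mul, map_inv]
  have ha0K : a0 ∈ K := Subgroup.zpowers_le.mpr haK ha0
  have hw0K : w0 ∈ K := Subgroup.zpowers_le.mpr hzK hw0
  rw [mem_quot_one_iff.mpr ha0K, mem_quot_one_iff.mpr hw0K, one_mul, mul_one, inv_mul_cancel]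

end Three

end Cfsg.Agent.OrderFive52
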