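import Cfsg.Agent.OrderFive52.Essential
import Cfsg.Agent.OrderFive52.ThreeFixed

/-!
# An invariant character on the whole system

If every automorphism of `S` fixes some element modulo a maximal subgroup, the averaged character is
preserved by all maps of the system, so the hyperfocal subgroup is proper.
-/

set_option autoImplicit false
set_option linter.unusedSectionVars false
set_option linter.style.haveILetI false
set_option maxHeartbeats 800000

namespace Cfsg.Agent.OrderFive52

open Cfsg Cfsg.Agent.Fusion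
open Cfsg.Agent.LocalEvenD.RTE
open Cfsg.FusionSystem (normalizerIn centralizerIn)
open scoped commutatorElement

universe u

variable {Ω : Type u} [Group Ω] {S : Subgroup Ω} [Finite S] {F : Cfsg.FusionSystem S} {p : ℕ}
  [hp : Fact p.Prime]

/-- A character of `S`, extended to the ambient group by `1`. -/
noncomputable def kapp {Q : Type*} [CommGroup Q] (κ : S →* Q) (x : Ω) : Q :=
  letI := Classical.propDecidable (x ∈ S)
  if h : x ∈ S then κ ⟨x, h⟩ else 1

theorem kapp_of_mem {Q : Type*} [CommGroup Q] (κ : S →* Q) {x : Ω} (h : x ∈ S) : kapp κ x = κ ⟨x, h⟩ :=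
  dif_pos h

variable (H : Hyp p F)
include H

theorem exists_char (hfl : HasFixedLine p S) :
    ∃ (Q : Type u) (_ : CommGroup Q) (κ : S →* Q) (f₀ : S), (∀ q : Q, q ^ p = 1) ∧ κ f₀ ≠ 1 ∧
      ∀ α ∈ F.autGroup S, ∀ x, κ (α x) = κ x := by
  classical
  obtain ⟨K, hKn, hc, hpw, f₀, hf₀, hfix⟩ := hfl
  haveI := hKn
  have hcm : ∀ a b : S, QuotientGroup.mk' K a * QuotientGroup.mk' K b =
      QuotientGroup.mk' K b * QuotientGroup.mk' K a := fun a b =>
    commutatorElement_eq_one_iff_mul_comm.mp (by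
      rw [← map_commutatorElement]; exact (QuotientGroup.eq_one_iff _).mpr (hc a b))
  letI : CommGroup (S ⧸ K) :=
    { (inferInstance : Group (S ⧸ K)) with
      mul_comm := fun a b => by
        obtain ⟨a, rfl⟩ := QuotientGroup.mk'_surjective K a
        obtain ⟨b, rfl⟩ := QuotientGroup.mk'_surjective K b
        exact hcm a b }
  haveI := finite_mulAut S
  haveI hn := inn_subgroupOf_normal (F := F) (P := S)
  set I := (Cfsg.Inn S).subgroupOf (F.autGroup S) with hI
  haveI := Fintype.ofFinite (F.autGroup S ⧸ I)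
  have hwell : ∀ a b : F.autGroup S, (QuotientGroup.mk a : F.autGroup S ⧸ I) = QuotientGroup.mk b →
      ∀ x, QuotientGroup.mk' K ((a : MulAut S) x) = QuotientGroup.mk' K ((b : MulAut S) x) := by
    intro a b hab x
    obtain ⟨g, hg⟩ := Subgroup.mem_subgroupOf.mp (QuotientGroup.eq.mp hab)
    have hb : (b : MulAut S) = (a : MulAut S) * MulAut.conj g := by
      rw [hg, Subgroup.coe_mul, Subgroup.coe_inv, mul_inv_cancel_left]
    rw [hb, MulAut.mul_apply, MulAut.conj_apply, map_mul, map_mul, map_mul, map_mul, map_inv, map_inv,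
      mul_comm (QuotientGroup.mk' K ((a : MulAut S) g)), mul_inv_cancel_right]
  let κ : S →* S ⧸ K :=
    { toFun := fun x => ∏ q : F.autGroup S ⧸ I, QuotientGroup.mk' K ((q.out : MulAut S) x)
      map_one' := by simp
      map_mul' := fun x y => by simp [Finset.prod_mul_distrib] }
  refine ⟨S ⧸ K, inferInstance, κ, f₀, fun q => ?_, fun h1 => ?_, fun α hα x => ?_⟩
  · obtain ⟨q, rfl⟩ := QuotientGroup.mk'_surjective K q
    rw [← map_pow]
    exact (QuotientGroup.eq_one_iff _).mpr (hpw q)
  · -- the number of cosets is prime to `p`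
    obtain ⟨T, hT⟩ := exists_outSylow H.pS H.sat (fullyNormalized_self (F := F))
    have hbot : T.toSubgroup = ⊥ := (Subgroup.eq_bot_iff_forall _).mpr fun t ht => by
      obtain ⟨β, rfl⟩ := QuotientGroup.mk'_surjective _ t
      rw [hT, autInducedBy_self_eq_inn] at ht
      rw [QuotientGroup.mk'_apply, QuotientGroup.eq_one_iff]
      exact ht
    have hndvd := T.not_dvd_index
    rw [hbot, Subgroup.index_bot] at hndvd
    have hmk : ∀ q : F.autGroup S ⧸ I, QuotientGroup.mk' K ((q.out : MulAut S) f₀) = QuotientGroup.mk' K f₀ :=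
      fun q => ((QuotientGroup.eq (s := K)).mpr (hfix (q.out : MulAut S))).symm
    have h2 : QuotientGroup.mk' K f₀ ^ Nat.card (F.autGroup S ⧸ I) = 1 := by
      rw [Nat.card_eq_fintype_card, ← Finset.card_univ, ← Finset.prod_const, ← h1]
      exact (Finset.prod_congr rfl fun q _ => hmk q).symm
    have h3 : QuotientGroup.mk' K f₀ ^ p = 1 := by
      rw [← map_pow]; exact (QuotientGroup.eq_one_iff _).mpr (hpw f₀)
    have h4 : QuotientGroup.mk' K f₀ = 1 :=
      (pow_eq_one_iff_of_coprime ((hp.out.coprime_iff_not_dvd.mpr hndvd).symm)).mp ⟨h2, h3⟩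
    exact hf₀ ((QuotientGroup.eq_one_iff _).mp h4)
  · show ∏ q : F.autGroup S ⧸ I, QuotientGroup.mk' K ((q.out : MulAut S) (α x)) =
      ∏ q : F.autGroup S ⧸ I, QuotientGroup.mk' K ((q.out : MulAut S) x)
    have : ∀ q : F.autGroup S ⧸ I, QuotientGroup.mk' K ((q.out : MulAut S) (α x)) =
        QuotientGroup.mk' K (((Equiv.mulRight (QuotientGroup.mk ⟨α, hα⟩ : F.autGroup S ⧸ I) q).out : MulAut S) x) :=
      fun q => hwell (q.out * ⟨α, hα⟩) _ (by
        rw [QuotientGroup.out_eq', QuotientGroup.mk_mul, QuotientGroup.out_eq']; rfl) x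
    rw [Finset.prod_congr rfl fun q _ => this q]
    exact Equiv.prod_comp (Equiv.mulRight (QuotientGroup.mk ⟨α, hα⟩ : F.autGroup S ⧸ I))
      fun q => QuotientGroup.mk' K ((q.out : MulAut S) x)

/-- An invariant character is preserved by all maps of the system. -/
theorem preserved {Q : Type*} [CommGroup Q] (hQ : ∀ q : Q, q ^ p = 1) (κ : S →* Q)
    (hS : ∀ α ∈ F.autGroup S, ∀ x, κ (α x) = κ x) :
    ∀ P f, IsMap F P f → ∀ x ∈ P, kapp κ (f x) = kapp κ x := by
  classical
  let C : Subgroup Ω → (Ω → Ω) → Prop := fun P f => ∀ x ∈ P, kapp κ (f x) = kapp κ x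
  suffices key : ∀ m E, F.IsEssential p E → Nat.card S - Nat.card E = m → ∀ f, IsIso F E E f → C E f by
    refine alperin_induction H.pS H.sat C (fun P f g h he x hx => by rw [← he hx]; exact h x hx)
      (fun P Q f g hf _ h1 h2 x hx => (h2 _ (hf.mem hx)).trans (h1 x hx))
      (fun P Q f _ hle h x hx => h x (hle hx)) ?_
    rintro E (rfl | hE) f hf
    · intro x hx
      obtain ⟨α, hα, he⟩ := hf.exists_aut
      rw [← he hx, autFun_of_mem α hx, kapp_of_mem κ (α ⟨x, hx⟩).2, kapp_of_mem κ hx]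
      exact hS α hα ⟨x, hx⟩
    · exact key _ E hE rfl f hf
  intro m
  induction m using Nat.strong_induction_on with
  | _ m ih =>
  intro E hE hm
  have hES := hE.1.1
  haveI := finite_of_le hES
  haveI := finite_mulAut E
  have hbig : ∀ P g, IsMap F P g → Nat.card E < Nat.card P → C P g := by
    refine alperin_induction H.pS H.sat (fun P g => Nat.card E < Nat.card P → C P g)
      (fun P f g h he hlt x hx => by rw [← he hx]; exact h hlt x hx)
      (fun P Q f g hf _ h1 h2 hlt x hx => (h2 (hf.card_eq ▸ hlt) _ (hf.mem hx)).trans (h1 hlt x hx))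
      (fun P Q f hf hle h hlt x hx => ?_) ?_
    · haveI := finite_of_le hf.dom_le
      exact h (hlt.trans_le (Subgroup.card_le_of_le hle)) x (hle hx)
    rintro E' (rfl | hE') f hf hlt
    · intro x hx
      obtain ⟨α, hα, he⟩ := hf.exists_aut
      rw [← he hx, autFun_of_mem α hx, kapp_of_mem κ (α ⟨x, hx⟩).2, kapp_of_mem κ hx]
      exact hS α hα ⟨x, hx⟩
    · exact ih _ (by have := Subgroup.card_le_of_le hE'.1.1; omega) E' hE' rfl f hf
  suffices hall : ∀ α ∈ F.autGroup E, ∀ q : E, kapp κ ((α q : E) : Ω) = kapp κ (q : Ω) by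
    intro f hf x hx
    obtain ⟨α, hα, he⟩ := hf.exists_aut
    rw [← he hx, autFun_of_mem α hx]
    exact hall α hα ⟨x, hx⟩
  have hEp : IsPGroup p E := H.pS.to_le hES
  obtain ⟨hnI, ρ, T, θ, hinj, hρ, hT, hne, hspe, hθr, hθk, hθ⟩ := LocalEvenD.RTP.outer_setup H.pS H.sat hE
  let N := normalizerIn S E
  haveI := hnI
  letI : CommGroup (E ⧸ frattini E) := fratComm hEp
  set M := Subgroup.closure (linkSet T.toSubgroup) with hM
  have hVexp : ∀ v : E ⧸ frattini E, v ^ p = 1 := PGroup.quotient_frattini_pow hEp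
  -- the character on `E / Φ(E)`
  let μ : E →* Q := κ.comp (Subgroup.inclusion hES)
  have hker : frattini E ≤ μ.ker := PGroup.frattini_le_of_quotient (p := p)
    (Abelianization.commutator_subset_ker μ) (fun q => by rw [MonoidHom.mem_ker, map_pow, hQ])
  let lam : E ⧸ frattini E →* Q := QuotientGroup.lift (frattini E) μ hker
  have hlam : ∀ q : E, lam (q : E ⧸ frattini E) = kapp κ (q : Ω) := fun q => (kapp_of_mem κ (hES q.2)).symm
  -- it is fixed by `M`
  let Fx : Subgroup (F.autGroup E ⧸ (Cfsg.Inn E).subgroupOf (F.autGroup E)) :=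
    { carrier := {g | ∀ v, lam (ρ g v) = lam v}
      one_mem' := fun v => by simp
      mul_mem' := fun {a b} ha hb v => by rw [map_mul, MulAut.mul_apply, ha, hb]
      inv_mem' := fun {a} ha v => by
        have h1 := ha (ρ a⁻¹ v)
        rw [← MulAut.mul_apply, ← map_mul, mul_inv_cancel, map_one, MulAut.one_apply] at h1
        exact h1.symm }
  have hMFx : M ≤ Fx := (Subgroup.closure_le _).mpr fun g hg => by
    obtain ⟨β, rfl⟩ := QuotientGroup.mk'_surjective _ g
    obtain ⟨R, f, hER, hf, he⟩ :=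
      (isExtendableAut_iff_linkSet H.pS H.sat (H.lt_S hE) hE.2.1 hE.1 hT β).mpr hg
    haveI := finite_of_le hf.dom_le
    have hlt : Nat.card E < Nat.card R := by
      by_contra hle
      exact hER.ne (Subgroup.eq_of_le_of_card_ge hER.le (not_lt.mp hle))
    intro v
    induction v using QuotientGroup.induction_on with
    | H q =>
      rw [hρ, hlam, hlam, ← autFun_coe, ← he q.2]
      exact hbig R f hf hlt q (hER.le q.2)
  -- an element of rank one
  obtain ⟨z, hz, hz1, a, haz, hmove⟩ : ∃ z ∈ T.toSubgroup, z ≠ 1 ∧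
      ∃ a, ρ z a = a ∧ ∀ v, dsp ρ z v ∈ Subgroup.zpowers a := by
    obtain ⟨z, hz, hz1⟩ := T.toSubgroup.bot_or_exists_ne_one.resolve_left hne
    rcases frattini_index_cases H hE with hi | hi
    · obtain ⟨d, -, hd1, hdfix⟩ := exists_fixed (ρ := ρ) T.isPGroup' (U := ⊤) (fun _ _ _ _ => Subgroup.mem_top _)
        (by rw [Subgroup.card_top, ← Subgroup.index_eq_card, hi]; exact dvd_pow_self p two_ne_zero)
      refine ⟨z, hz, hz1, d, hdfix z hz, fun v => ?_⟩
      refine dsp_mem_of_step T.isPGroup' ?_ (W := ⊤) (fun _ _ _ _ => Subgroup.mem_top _) ?_ hz (Subgroup.mem_top v)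
      · rintro u hu w ⟨i, rfl⟩
        show ρ u (d ^ i) ∈ _
        rw [map_zpow, hdfix u hu]
        exact Subgroup.zpow_mem _ (Subgroup.mem_zpowers d) i
      · rw [Subgroup.relIndex_top_right]
        have := (Subgroup.zpowers d).card_mul_index
        rw [Nat.card_zpowers, orderOf_eq_prime (hVexp d) hd1, ← Subgroup.index_eq_card, hi, sq] at this
        exact Nat.eq_of_mul_eq_mul_left hp.out.pos this
    have hfr := card_frattini_mul E
    rw [hi] at hfr
    have hcard4 := card_le_four H hE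
    obtain ⟨k, hk⟩ := IsPGroup.iff_card.mp (hEp.to_subgroup (frattini E))
    rw [hk, ← pow_add] at hfr
    have hk1 : k ≤ 1 := by
      have := (Nat.pow_le_pow_iff_right hp.out.one_lt).mp (hfr ▸ hcard4)
      omega
    interval_cases k
    · -- `E` is elementary abelian
      have hel := LocalEvenD.RTP.elementary_of_bot H.pS hES (Subgroup.card_eq_one.mp hk)
      obtain ⟨-, a, f, b, x, h0, -⟩ :=
        three_of_elementary H hE hfr hel.1 hel.2
      have hxN : (x : Ω) ∈ N := Subgroup.mem_subgroupOf.mp h0.hxN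
      have hxE : (x : Ω) ∉ E := fun h => h0.hxR (Subgroup.mem_subgroupOf.mpr h)
      let a' : E := ⟨a, Subgroup.mem_subgroupOf.mp h0.ha⟩
      let f' : E := ⟨f, Subgroup.mem_subgroupOf.mp h0.hf⟩
      let b' : E := ⟨b, Subgroup.mem_subgroupOf.mp h0.hy⟩
      obtain ⟨m, hm⟩ := h0.xy
      have hρx : ∀ q : E, ρ (θ ⟨x, hxN⟩) (q : E ⧸ frattini E) =
          ((conjAutHom S E ⟨x, hxN⟩ q : E) : E ⧸ frattini E) := hθ ⟨x, hxN⟩
      have e1 : ρ (θ ⟨x, hxN⟩) (a' : E ⧸ frattini E) = a' := by
        rw [hρx]; congr 1; refine Subtype.ext ?_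
        rw [conjAutHom_apply]
        exact mul_inv_eq_iff_eq_mul.mpr (congrArg Subtype.val h0.xa)
      have e2 : ρ (θ ⟨x, hxN⟩) (f' : E ⧸ frattini E) = f' := by
        rw [hρx]; congr 1; refine Subtype.ext ?_
        rw [conjAutHom_apply]
        exact mul_inv_eq_iff_eq_mul.mpr (congrArg Subtype.val h0.xf)
      have e3 : ρ (θ ⟨x, hxN⟩) (b' : E ⧸ frattini E) = (a' : E ⧸ frattini E) ^ m * b' := by
        rw [hρx, ← QuotientGroup.mk_zpow, ← QuotientGroup.mk_mul]; congr 1; refine Subtype.ext ?_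
        rw [conjAutHom_apply, Subgroup.coe_mul, SubgroupClass.coe_zpow]
        have := congrArg Subtype.val hm
        simp only [SubgroupClass.coe_zpow, commutatorElement_def, Subgroup.coe_mul, Subgroup.coe_inv] at this
        rw [show ((a' : E) : Ω) = (a : Ω) from rfl, this, inv_mul_cancel_right]
      refine ⟨θ ⟨x, hxN⟩, by rw [← hθr]; exact ⟨_, rfl⟩, fun h => hxE ?_, a', e1, fun v => ?_⟩
      · have : (⟨x, hxN⟩ : normalizerIn S E) ∈ θ.ker := MonoidHom.mem_ker.mpr h
        rw [hθk] at this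
        exact Subgroup.mem_subgroupOf.mp this
      induction v using QuotientGroup.induction_on with
      | H q =>
        obtain ⟨i, j, k, hq⟩ := h0.gen ⟨q, hES q.2⟩ (Subgroup.mem_subgroupOf.mpr q.2)
        have hq' : q = a' ^ i * f' ^ j * b' ^ k := Subtype.ext (by
          have := congrArg Subtype.val hq; simpa [a', f', b'] using this)
        refine ⟨m * k, ?_⟩
        rw [hq']
        simp only [dsp, QuotientGroup.mk_mul, QuotientGroup.mk_pow, map_mul, map_pow, e1, e2, e3, mul_pow,
          zpow_mul, zpow_natCast]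
        rw [mul_left_comm _ (((a' : E ⧸ frattini E) ^ m) ^ k), ← mul_assoc, inv_mul_cancel_comm]
    · -- `E` has order `p ^ 4`
      have C4 := ctx_of_outer H.odd hEp ρ hinj T hne hspe hi
      rcases C4.dichotomy hz hz1 with ⟨a, b, f, s, -, haz, hfz, hbz, hgen, -⟩ |
        ⟨e, d, l, -, -, -, -, -, -, hirr⟩
      · refine ⟨z, hz, hz1, a, haz, fun v => ?_⟩
        obtain ⟨i, j, k, rfl⟩ := hgen v
        refine ⟨(s * j : ℕ), ?_⟩
        simp only [dsp, map_mul, map_pow, haz, hfz, hbz, mul_pow, ← pow_mul, zpow_natCast]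
        rw [eq_inv_mul_iff_mul_eq]
        simp only [mul_assoc]
        rw [mul_comm (f ^ k)]
      · exfalso
        have hcE : Nat.card E = p ^ 4 := hfr
        have hab : ¬ IsMulCommutative E := fun h => by
          have := H.card_lt hES fun u hu w hw =>
            congrArg Subtype.val (h.is_comm.comm (⟨u, hu⟩ : E) ⟨w, hw⟩)
          omega
        have hfc := PGroup.le_center_of_card_eq_prime hEp (by rw [hk, pow_one] : Nat.card (frattini E) = p)
        rcases Fusion91.card_center_four (p := p) hcE hab with hZ | hZ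
        · exact Fusion91.center_card_ne_prime H.pS hE hcE hZ
        rcases hirr ((Subgroup.center E).map (QuotientGroup.mk' (frattini E))) (fun u v hv => by
            obtain ⟨β, rfl⟩ := QuotientGroup.mk'_surjective _ u
            obtain ⟨w, hw, rfl⟩ := hv
            show ρ (QuotientGroup.mk' _ β) (w : E ⧸ frattini E) ∈ _
            rw [hρ]
            refine ⟨_, Subgroup.mem_center_iff.mpr fun t => ?_, rfl⟩
            obtain ⟨t, rfl⟩ := (β : MulAut E).surjective t
            rw [← map_mul, ← map_mul, Subgroup.mem_center_iff.mp hw t]) with h | h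
        · rw [Subgroup.map_eq_bot_iff, QuotientGroup.ker_mk'] at h
          have := Subgroup.card_le_of_le h
          rw [hZ, hk] at this
          exact absurd this (not_le.mpr (Nat.pow_lt_pow_right hp.out.one_lt (by norm_num)))
        · have htop : Subgroup.center E = ⊤ := (Subgroup.eq_top_iff' _).mpr fun q => by
            obtain ⟨w, hw, he⟩ := h.ge (Subgroup.mem_top (q : E ⧸ frattini E))
            have := mul_mem hw (hfc (QuotientGroup.eq.mp he))
            rwa [mul_inv_cancel_left] at this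
          rw [htop, Subgroup.card_top, hcE] at hZ
          exact absurd hZ (Nat.pow_lt_pow_right hp.out.one_lt (by norm_num)).ne'
  obtain ⟨v₀, hv₀⟩ : ∃ v, dsp ρ z v ≠ 1 := by
    by_contra hall
    push Not at hall
    exact hz1 (hinj (MulEquiv.ext fun v => by
      rw [map_one, MulAut.one_apply, apply_eq (ρ := ρ) z v, hall, mul_one]))
  obtain ⟨i, hi⟩ := hmove v₀
  have hdfix : ρ z (dsp ρ z v₀) = dsp ρ z v₀ := by
    rw [show dsp ρ z v₀ = a ^ i from hi.symm, map_zpow, haz]
  have ha1 : a ≠ 1 := fun e => hv₀ (by rw [show dsp ρ z v₀ = a ^ i from hi.symm, e, one_zpow])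
  have hline : Subgroup.zpowers a = Subgroup.zpowers (dsp ρ z v₀) :=
    (Subgroup.eq_of_le_of_card_ge (Subgroup.zpowers_le.mpr (show dsp ρ z v₀ ∈ Subgroup.zpowers a from ⟨i, hi⟩))
      (by rw [card_zp hVexp ha1, card_zp hVexp hv₀])).symm
  have h1 : Rank1 p ρ M z (dsp ρ z v₀) :=
    ⟨hinj, hVexp, LocalEven61.normalizersLE_of_spe hspe, le_link _ hz, hz1, fun v => hline ▸ hmove v, hdfix⟩
  have hd : lam (dsp ρ z v₀) = 1 := by
    have h2 : lam (ρ z v₀) = lam v₀ := hMFx (le_link _ hz) v₀
    rw [dsp, map_mul, map_inv, h2, inv_mul_cancel]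
  have hfixall := h1.fix_all H.odd hQ lam hd T hz (le_link _) fun g hg => hMFx hg
  intro α hα q
  have := hfixall (QuotientGroup.mk' _ ⟨α, hα⟩) q
  rwa [hρ, hlam, hlam] at this

/-- A fixed line is incompatible with full hyperfocal subgroup. -/
theorem false_of_fixedLine (hfl : HasFixedLine p S) (hhyp : F.hyperfocalSubgroup p = S) : False := by
  obtain ⟨Q, _, κ, f₀, hQ, hf₀, hS⟩ := exists_char H hfl
  have hP := preserved H hQ κ hS
  have hle : F.hyperfocalSubgroup p ≤ κ.ker.map S.subtype := by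
    refine (Subgroup.closure_le _).mpr ?_
    rintro y ⟨P, α, x, hPS, -, rfl⟩
    refine ⟨(⟨x, hPS x.2⟩ : S)⁻¹ * ⟨((α : MulAut P) x : P), hPS ((α : MulAut P) x).2⟩, ?_, rfl⟩
    have h1 := hP P _ ((mem_autGroup hPS).mp α.2).1 x x.2
    rw [autFun_coe, kapp_of_mem κ (hPS ((α : MulAut P) x).2), kapp_of_mem κ (hPS x.2)] at h1
    rw [SetLike.mem_coe, MonoidHom.mem_ker, map_mul, map_inv, h1, inv_mul_cancel]
  rw [hhyp] at hle
  obtain ⟨u, hu, he⟩ := hle f₀.2
  exact hf₀ (Subtype.ext he ▸ hu)

end Cfsg.Agent.OrderFive52
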