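import Cfsg.Agent.OrderFive52.ThreeFixed
import Cfsg.Agent.OrderFive52.PearlTower

/-!
# Subgroups invariant under the automorphisms of the normaliser
-/

set_option autoImplicit false
set_option linter.unusedSectionVars false
set_option linter.style.haveILetI false

namespace Cfsg.Agent.OrderFive52

open scoped commutatorElement

variable {G : Type*} [Group G] {p : ℕ} [hp : Fact p.Prime] [Finite G] {R N : Subgroup G} {a f y v z : G}

namespace Three

variable (h : Three p R N a f y v z)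
include h

theorem W_le_N : Subgroup.zpowers a ⊔ Subgroup.zpowers f ≤ N := h.W_le.trans h.le

/-- An element of `N` commuting with `y` and `z` lies in `⟨a, f⟩`. -/
theorem mem_W_of_commute {n : G} (hn : n ∈ N) (hy : n * y = y * n) (hz : n * z = z * n) :
    n ∈ Subgroup.zpowers a ⊔ Subgroup.zpowers f := by
  obtain ⟨r, hr, l, -, rfl⟩ := h.decN hn
  obtain ⟨i, j, k, rfl⟩ := h.gen r hr
  have hc : ⁅z, y⁆ ∈ Subgroup.center G := h.mem_center_of_mem_A h.zyA
  have hryc : ⁅a ^ i * f ^ j * y ^ k, y⁆ = 1 :=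
    commutatorElement_eq_one_iff_mul_comm.mpr (h.commR _ hr y h.hy)
  have e1 : ⁅z, y⁆ ^ l = 1 := by
    have h1 : ⁅a ^ i * f ^ j * y ^ k * z ^ l, y⁆ = 1 := commutatorElement_eq_one_iff_mul_comm.mpr hy
    rwa [cmul_left (by rw [cpow_left hc]; exact Subgroup.pow_mem _ hc _), hryc, one_mul, cpow_left hc] at h1
  have hl : (l : ZMod p) = 0 :=
    (cast_eq_of_pow_eq h.zy_pow h.zy1 (j := 0) (e1.trans (pow_zero _).symm)).trans Nat.cast_zero
  have hzl : z ^ l ∈ Subgroup.centralizer {z} :=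
    Subgroup.pow_mem _ (Subgroup.mem_centralizer_singleton_iff.mpr rfl) l
  have hnz : a ^ i * f ^ j * y ^ k * z ^ l ∈ Subgroup.centralizer {z} :=
    Subgroup.mem_centralizer_singleton_iff.mpr hz
  have hwW : a ^ i * f ^ j ∈ Subgroup.zpowers a ⊔ Subgroup.zpowers f := mul_mem
    (Subgroup.mem_sup_left (Subgroup.pow_mem _ (Subgroup.mem_zpowers a) i))
    (Subgroup.mem_sup_right (Subgroup.pow_mem _ (Subgroup.mem_zpowers f) j))
  have hwz : a ^ i * f ^ j ∈ Subgroup.centralizer {z} :=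
    Subgroup.mem_centralizer_singleton_iff.mpr (h.commute_W hwW h.zN).symm
  have hykz : y ^ k ∈ Subgroup.centralizer {z} := by
    have h1 := mul_mem (mul_mem (inv_mem hwz) hnz) (inv_mem hzl)
    rwa [show (a ^ i * f ^ j)⁻¹ * (a ^ i * f ^ j * y ^ k * z ^ l) * (z ^ l)⁻¹ = y ^ k by group] at h1
  have e2 : ⁅z, y⁆ ^ k = 1 := by
    rw [← cpow_right hc, commutatorElement_eq_one_iff_mul_comm]
    exact (Subgroup.mem_centralizer_singleton_iff.mp hykz).symm
  have hk : (k : ZMod p) = 0 :=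
    (cast_eq_of_pow_eq h.zy_pow h.zy1 (j := 0) (e2.trans (pow_zero _).symm)).trans Nat.cast_zero
  have hyk : y ^ k = 1 := by rw [pow_cast_eq (h.exp y h.hy) (j := 0) (by rw [hk, Nat.cast_zero]), pow_zero]
  obtain ⟨m, hm⟩ := (ZMod.natCast_eq_zero_iff l p).mp hl
  rw [hyk, mul_one]
  refine mul_mem hwW ?_
  rw [hm, pow_mul]
  refine Subgroup.pow_mem _ ?_ m
  -- `z ^ p` commutes with `y` and `z`
  obtain ⟨r', hr', l', hl', hrl⟩ := h.decN (pow_mem h.zN p)
  obtain ⟨i', j', k', rfl⟩ := h.gen r' hr'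
  have hry' : ⁅a ^ i' * f ^ j' * y ^ k', y⁆ = 1 :=
    commutatorElement_eq_one_iff_mul_comm.mpr (h.commR _ hr' y h.hy)
  have e3 : ⁅z, y⁆ ^ l' = 1 := by
    have h1 : ⁅z ^ p, y⁆ = 1 := by rw [cpow_left hc, h.zy_pow]
    rwa [hrl, cmul_left (by rw [cpow_left hc]; exact Subgroup.pow_mem _ hc _), hry', one_mul, cpow_left hc] at h1
  have hl0 : l' = 0 := Nat.eq_zero_of_dvd_of_lt
    ((ZMod.natCast_eq_zero_iff l' p).mp
      ((cast_eq_of_pow_eq h.zy_pow h.zy1 (j := 0) (e3.trans (pow_zero _).symm)).trans Nat.cast_zero)) hl'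
  rw [hl0, pow_zero, mul_one] at hrl
  have hwW' : a ^ i' * f ^ j' ∈ Subgroup.zpowers a ⊔ Subgroup.zpowers f := mul_mem
    (Subgroup.mem_sup_left (Subgroup.pow_mem _ (Subgroup.mem_zpowers a) i'))
    (Subgroup.mem_sup_right (Subgroup.pow_mem _ (Subgroup.mem_zpowers f) j'))
  have hwz' : a ^ i' * f ^ j' ∈ Subgroup.centralizer {z} :=
    Subgroup.mem_centralizer_singleton_iff.mpr (h.commute_W hwW' h.zN).symm
  have hyk' : y ^ k' ∈ Subgroup.centralizer {z} := by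
    have h1 := mul_mem (inv_mem hwz') (Subgroup.pow_mem _ (Subgroup.mem_centralizer_singleton_iff.mpr rfl :
      z ∈ Subgroup.centralizer {z}) p)
    rwa [hrl, inv_mul_cancel_left] at h1
  have e4 : ⁅z, y⁆ ^ k' = 1 := by
    rw [← cpow_right hc, commutatorElement_eq_one_iff_mul_comm]
    exact (Subgroup.mem_centralizer_singleton_iff.mp hyk').symm
  rw [hrl, pow_cast_eq (h.exp y h.hy) (i := k') (j := 0)
    ((cast_eq_of_pow_eq h.zy_pow h.zy1 (j := 0) (e4.trans (pow_zero _).symm))), pow_zero, mul_one]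
  exact hwW'

theorem A_inv (θ : MulAut N) {n : N} (hn : (n : G) ∈ Subgroup.zpowers a) :
    ((θ n : N) : G) ∈ Subgroup.zpowers a := by
  rw [← h.zy_gen] at hn
  obtain ⟨k, hk⟩ := hn
  have he : n = ⁅(⟨z, h.zN⟩ : N), ⟨y, h.le h.hy⟩⁆ ^ k := Subtype.ext (by
    rw [SubgroupClass.coe_zpow]; exact hk.symm)
  rw [he, map_zpow, map_commutatorElement, SubgroupClass.coe_zpow]
  exact Subgroup.zpow_mem _ (h.commN _ (θ _).2 _ (θ _).2) k

theorem W_inv (θ : MulAut N) {n : N} (hn : (n : G) ∈ Subgroup.zpowers a ⊔ Subgroup.zpowers f) :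
    ((θ n : N) : G) ∈ Subgroup.zpowers a ⊔ Subgroup.zpowers f := by
  have hcen : ∀ m : N, θ n * m = m * θ n := fun m => by
    obtain ⟨m, rfl⟩ := θ.surjective m
    rw [← map_mul, ← map_mul]
    exact congrArg θ (Subtype.ext (h.commute_W hn m.2).symm)
  exact h.mem_W_of_commute (θ n).2 (congrArg Subtype.val (hcen ⟨y, h.le h.hy⟩))
    (congrArg Subtype.val (hcen ⟨z, h.zN⟩))

theorem zp_mem_W : z ^ p ∈ Subgroup.zpowers a ⊔ Subgroup.zpowers f := by
  refine h.mem_W_of_commute (pow_mem h.zN p) ?_ ((Commute.refl z).pow_left p).eq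
  rw [← commutatorElement_eq_one_iff_mul_comm, cpow_left (h.mem_center_of_mem_A h.zyA), h.zy_pow]

theorem card_R0 :
    Nat.card (Subgroup.zpowers a ⊔ Subgroup.zpowers f ⊔ Subgroup.zpowers z : Subgroup G) = p ^ 3 := by
  haveI := h.W_normal
  refine le_antisymm ((card_sup_zpowers_le h.zp_mem_W).trans (by rw [h.card_W, ← pow_succ])) ?_
  have := mul_card_le_sup h.isPGroup (H := Subgroup.zpowers a ⊔ Subgroup.zpowers f) (u := z)
    fun hz => h.zR (h.W_le hz)
  rwa [h.card_W, ← pow_succ'] at this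

/-- Either `⟨a, f, z⟩` is invariant, or its image is conjugate to `R`. -/
theorem R0_inv_or_conj (θ : MulAut N) :
    (∀ n : N, (n : G) ∈ Subgroup.zpowers a ⊔ Subgroup.zpowers f ⊔ Subgroup.zpowers z →
      ((θ n : N) : G) ∈ Subgroup.zpowers a ⊔ Subgroup.zpowers f ⊔ Subgroup.zpowers z) ∨
    ∃ g : G, ∀ n : N, (n : G) ∈ Subgroup.zpowers a ⊔ Subgroup.zpowers f ⊔ Subgroup.zpowers z →
      g * ((θ n : N) : G) * g⁻¹ ∈ R := by
  haveI := h.W_normal
  have hdec : ∀ n : N, (n : G) ∈ Subgroup.zpowers a ⊔ Subgroup.zpowers f ⊔ Subgroup.zpowers z →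
      ∃ w : N, (w : G) ∈ Subgroup.zpowers a ⊔ Subgroup.zpowers f ∧ ∃ i : ℤ, n = w * ⟨z, h.zN⟩ ^ i := by
    intro n hn
    obtain ⟨w, hw, t, ht, e⟩ := Subgroup.mem_sup_of_normal_left.mp hn
    obtain ⟨i, rfl⟩ := ht
    exact ⟨⟨w, h.W_le_N hw⟩, hw, i, Subtype.ext (by
      rw [Subgroup.coe_mul, SubgroupClass.coe_zpow]; exact e.symm)⟩
  by_cases hz : ((θ ⟨z, h.zN⟩ : N) : G) ∈ Subgroup.zpowers a ⊔ Subgroup.zpowers f ⊔ Subgroup.zpowers z
  · left
    intro n hn
    obtain ⟨w, hw, i, rfl⟩ := hdec n hn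
    rw [map_mul, map_zpow, Subgroup.coe_mul, SubgroupClass.coe_zpow]
    exact mul_mem (Subgroup.mem_sup_left (h.W_inv θ hw)) (Subgroup.zpow_mem _ hz i)
  · right
    obtain ⟨g, hg⟩ := h.conj_into (θ ⟨z, h.zN⟩).2 hz
    refine ⟨g, fun n hn => ?_⟩
    obtain ⟨w, hw, i, rfl⟩ := hdec n hn
    rw [map_mul, map_zpow, Subgroup.coe_mul, SubgroupClass.coe_zpow,
      show g * (((θ w : N) : G) * ((θ ⟨z, h.zN⟩ : N) : G) ^ i) * g⁻¹ =
        g * ((θ w : N) : G) * g⁻¹ * (g * ((θ ⟨z, h.zN⟩ : N) : G) * g⁻¹) ^ i by rw [conj_zpow]; group]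
    exact mul_mem (h.W_le (h.W_normal.conj_mem _ (h.W_inv θ hw) g)) (Subgroup.zpow_mem _ hg i)

end Three

namespace PearlData

open FG38

variable (D : PearlData p y v)
include D

/-- An element of `N₁` commuting with `y` and `⁅⁅v, y⁆, y⁆` lies in `γ₄`. -/
theorem mem_four_of_commute {n : G} (hy : n * y = y * n) (hs : n * ⁅⁅v, y⁆, y⁆ = ⁅⁅v, y⁆, y⁆ * n) :
    n ∈ filt G 4 := by
  have h := D.pearl
  have hn : n ∈ Subgroup.centralizer ({y} : Set G) := Subgroup.mem_centralizer_singleton_iff.mpr hy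
  rw [h.cent_eq] at hn
  haveI : (filt G 4).Normal := ⟨fun x hx g => by
    rw [Subgroup.mem_center_iff.mp (h.four_center hx) g, mul_inv_cancel_right]; exact hx⟩
  obtain ⟨w, hw, k, hk, rfl⟩ := mem_sup_zpowers h.pow_four hn
  by_cases hk0 : k = 0
  · rw [hk0, pow_zero, mul_one]; exact hw
  exfalso
  have h2 : Commute (⁅⁅v, y⁆, y⁆) w := Subgroup.mem_center_iff.mp (h.four_center hw) _
  have h1 : Commute (⁅⁅v, y⁆, y⁆) (w * y ^ k) := hs.symm
  have h3 : Commute (⁅⁅v, y⁆, y⁆) (y ^ k) := by simpa using h2.inv_right.mul_right h1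
  obtain ⟨l, hl⟩ := exists_pow_eq_self_of_coprime (x := y) (n := k) (by
    obtain ⟨j, hj⟩ := h.isPGroup.exists_orderOf_eq_pow y
    rw [hj]
    exact Nat.Coprime.pow_right j ((hp.out.coprime_iff_not_dvd.2 fun hd =>
      hk0 (Nat.eq_zero_of_dvd_of_lt hd hk)).symm))
  have h4 := h3.pow_right l
  rw [hl] at h4
  exact D.q1 (commutatorElement_eq_one_iff_mul_comm.mpr h4.eq)

theorem four_inv (θ : MulAut (filt G 3 ⊔ Subgroup.zpowers y : Subgroup G))
    {n : (filt G 3 ⊔ Subgroup.zpowers y : Subgroup G)} (hn : (n : G) ∈ filt G 4) : (θ n : G) ∈ filt G 4 := by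
  have h := D.pearl
  have hcen : ∀ m, θ n * m = m * θ n := fun m => by
    obtain ⟨m, rfl⟩ := θ.surjective m
    rw [← map_mul, ← map_mul]
    exact congrArg θ (Subtype.ext (Subgroup.mem_center_iff.mp (h.four_center hn) m).symm)
  exact D.mem_four_of_commute
    (congrArg Subtype.val (hcen ⟨y, Subgroup.mem_sup_right (Subgroup.mem_zpowers y)⟩))
    (congrArg Subtype.val (hcen ⟨_, Subgroup.mem_sup_left (h.comm_top D.s2 y)⟩))

/-- Either `γ₃` is invariant, or its image is conjugate to `C(y)`. -/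
theorem three_inv_or_conj (θ : MulAut (filt G 3 ⊔ Subgroup.zpowers y : Subgroup G)) :
    (∀ n : (filt G 3 ⊔ Subgroup.zpowers y : Subgroup G), (n : G) ∈ filt G 3 → (θ n : G) ∈ filt G 3) ∨
    ∃ g : G, ∀ n : (filt G 3 ⊔ Subgroup.zpowers y : Subgroup G), (n : G) ∈ filt G 3 →
      g * (θ n : G) * g⁻¹ ∈ Subgroup.centralizer ({y} : Set G) := by
  have h := D.pearl
  by_cases hall : ∀ n : (filt G 3 ⊔ Subgroup.zpowers y : Subgroup G), (n : G) ∈ filt G 3 →
      (θ n : G) ∈ filt G 3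
  · exact Or.inl hall
  right
  push Not at hall
  obtain ⟨s, hs, hθs⟩ := hall
  obtain ⟨g, hg⟩ := h.conj_into (θ s).2 hθs
  refine ⟨g, fun n hn => ?_⟩
  have h43 : filt G 4 ≤ filt G 3 := filt_antitone (by norm_num)
  have hs4 : (s : G) ∉ filt G 4 := fun h4 => hθs (h43 (D.four_inv θ h4))
  have hi : ((filt G 4).subgroupOf (filt G 3)).index = p := index_of_card (k := 1) h.card_three (by
    rw [Nat.card_congr (Subgroup.subgroupOfEquivOfLe h43).toEquiv, h.card_four, pow_one])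
  obtain ⟨w, hw, k, -, e⟩ :=
    exists_mul_pow (h.isPGroup.to_subgroup _) hi (u := ⟨_, hs⟩) hs4 ⟨n, hn⟩
  have hwN : (w : G) ∈ filt G 3 ⊔ Subgroup.zpowers y := Subgroup.mem_sup_left w.2
  have e' : n = ⟨w, hwN⟩ * s ^ k := Subtype.ext (by
    have := congrArg Subtype.val e; simpa using this)
  rw [e', map_mul, map_pow, Subgroup.coe_mul, SubgroupClass.coe_pow,
    show g * ((θ ⟨w, hwN⟩ : G) * (θ s : G) ^ k) * g⁻¹ =
      g * (θ ⟨w, hwN⟩ : G) * g⁻¹ * (g * (θ s : G) * g⁻¹) ^ k by rw [conj_pow]; group]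
  refine mul_mem (Subgroup.center_le_centralizer _ ?_) (Subgroup.pow_mem _ hg k)
  have hc := h.four_center (D.four_inv θ (n := ⟨w, hwN⟩) hw)
  rwa [Subgroup.mem_center_iff.mp hc g, mul_inv_cancel_right]

end PearlData

end Cfsg.Agent.OrderFive52
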