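import Cfsg.Agent.OrderFive52.Kappa
import Cfsg.Agent.OrderFive52.Series

/-!
# No core-free reduced system on a group of order `p ^ 5` without abelian subgroup of index `p`
-/

set_option autoImplicit false
set_option linter.unusedSectionVars false
set_option linter.style.haveILetI false
set_option maxHeartbeats 800000

namespace Cfsg.Agent.OrderFive52

open Cfsg Cfsg.Agent.Fusion
open Cfsg.FusionSystem (normalizerIn centralizerIn)
open scoped commutatorElement

variable {Ω : Type*} [Group Ω] {S : Subgroup Ω} [Finite S] {F : Cfsg.FusionSystem S} {p : ℕ}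
  [hp : Fact p.Prime]

theorem image_eq_of_inv {P D : Subgroup Ω} (hDP : D ≤ P)
    (h : ∀ α ∈ F.autGroup P, ∀ u ∈ D, autFun α u ∈ D) {α : MulAut P} (hα : α ∈ F.autGroup P) :
    autFun α '' (D : Set Ω) = (D : Set Ω) := by
  refine Set.Subset.antisymm (by rintro _ ⟨u, hu, rfl⟩; exact h α hα u hu) fun u hu => ?_
  refine ⟨autFun α⁻¹ u, h _ (inv_mem hα) u hu, ?_⟩
  have := autFun_mul α α⁻¹ (hDP hu)
  rw [mul_inv_cancel, autFun_one (hDP hu)] at this
  exact this.symm

theorem exists_theta {N : Subgroup Ω} (hN : N ≤ S) (α : MulAut N) :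
    ∃ θ : MulAut (N.subgroupOf S), ∀ n : N.subgroupOf S, ((θ n : S) : Ω) = autFun α ((n : S) : Ω) := by
  let e := Subgroup.subgroupOfEquivOfLe hN
  exact ⟨(e.trans α).trans e.symm, fun n => by
    rw [autFun_of_mem α (Subgroup.mem_subgroupOf.mp n.2)]; rfl⟩

theorem subgroupOf_map_eq {N : Subgroup Ω} (hN : N ≤ S) : (N.subgroupOf S).map S.subtype = N := by
  rw [Subgroup.map_subgroupOf_eq_of_le hN]

/-- A map of `N` cannot carry a normal subgroup of `S` into a conjugate of a fully normalized `E`. -/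
theorem false_of_conj_normal {E N : Subgroup Ω} (hEn : F.IsFullyNormalized E)
    (hlt : Nat.card (normalizerIn S E) < Nat.card S) {X : Subgroup S} [hX : X.Normal] (hN : N ≤ S)
    (hXN : X.map S.subtype ≤ N) (hcard : Nat.card X = Nat.card E) {α : MulAut N} (hα : α ∈ F.autGroup N)
    {g : S} (h : ∀ x ∈ X, (g : Ω) * autFun α (x : Ω) * (g : Ω)⁻¹ ∈ E) : False := by
  have hf : IsMap F N ((fun u => (g : Ω) * u * (g : Ω)⁻¹) ∘ autFun α) :=
    ((mem_autGroup hN).mp hα).1.comp (isMap_conj hN g.2) fun x hx => by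
      rw [autFun_of_mem α hx]; exact (α _).2
  obtain ⟨I, hI⟩ := (hf.mono hXN).exists_image
  haveI := finite_of_le hEn.1
  have hIE : I = E := by
    refine Subgroup.eq_of_le_of_card_ge (fun u hu => ?_) ?_
    · obtain ⟨x, hx, rfl⟩ := hI.exists_preimage hu
      obtain ⟨x, hx', rfl⟩ := hx
      exact h x hx'
    · rw [← hI.card_eq, Subgroup.card_map_of_injective S.subtype_injective, hcard]
  have hconj : F.IsConj E (X.map S.subtype) := hIE ▸ isConj_symm hI.isConj
  have h1 := hEn.2 _ hconj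
  have hS : normalizerIn S (X.map S.subtype) = S := by
    refine inf_eq_left.mpr fun s hs => ?_
    refine Subgroup.mem_normalizer_iff.mpr fun u => ⟨?_, fun hu => ?_⟩
    · rintro ⟨x, hx, rfl⟩
      exact ⟨_, hX.conj_mem x hx ⟨s, hs⟩, rfl⟩
    · obtain ⟨x, hx, he⟩ := hu
      exact ⟨_, hX.conj_mem x hx ⟨s⁻¹, inv_mem hs⟩, by
        show s⁻¹ * (x : Ω) * s⁻¹⁻¹ = u
        rw [show ((x : S) : Ω) = s * u * s⁻¹ from he]; group⟩
  rw [hS] at h1
  omega

theorem relIndex_le_of_card {A A' : Subgroup Ω} [Finite A'] (hAA' : A ≤ A')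
    (hc : Nat.card A' ≤ Nat.card A * p) : A.relIndex A' ≤ p := by
  haveI := finite_of_le hAA'
  have h1 := (A.subgroupOf A').card_mul_index
  rw [Nat.card_congr (Subgroup.subgroupOfEquivOfLe hAA').toEquiv] at h1
  exact Nat.le_of_mul_le_mul_left (h1 ▸ hc : Nat.card A * (A.subgroupOf A').index ≤ Nat.card A * p) Nat.card_pos

theorem characteristic_map_equiv {A B : Type*} [Group A] [Group B] (e : A ≃* B) {L : Subgroup A}
    (hL : L.Characteristic) : (L.map e.toMonoidHom).Characteristic := by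
  refine Subgroup.characteristic_iff_map_eq.mpr fun φ => ?_
  have h1 := Subgroup.characteristic_iff_map_eq.mp hL ((e.trans φ).trans e.symm)
  conv_rhs => rw [← h1]
  rw [Subgroup.map_map, Subgroup.map_map]
  congr 1
  ext x
  simp

theorem exists_weight_six (hp5 : 5 ≤ p) (hp7 : p ≠ 7) : ∃ c : ZMod p, c ≠ 0 ∧ c ^ 6 ≠ 1 := by
  obtain ⟨g, hg⟩ := IsCyclic.exists_ofOrder_eq_natCard (α := (ZMod p)ˣ)
  rw [Nat.card_eq_fintype_card, ZMod.card_units p] at hg
  refine ⟨g, g.ne_zero, fun h => ?_⟩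
  have h6 : p - 1 ∣ 6 := hg ▸ orderOf_dvd_of_pow_eq_one (Units.ext (by simpa using h))
  have hle := Nat.le_of_dvd (by norm_num) h6
  have h1 := hp.out
  interval_cases hq : p - 1
  all_goals first | omega | (obtain rfl : p = 5 := by omega; omega) | (obtain rfl : p = 6 := by omega; norm_num at h1)

variable (H : Hyp p F)
include H

/-- Some essential subgroup moves the centre. -/
theorem exists_moving (hcore : F.core = ⊥) : ∃ E, F.IsEssential p E ∧
    ∃ α ∈ F.autGroup E, ∃ c ∈ AbelianIndexP.ctr S, autFun α c ∉ AbelianIndexP.ctr S := by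
  by_contra hnot
  push Not at hnot
  set Q := AbelianIndexP.ctr S with hQdef
  have hQ : F.IsNormal Q := by
    refine isNormal_of_invariant H.pS H.sat fun P hP => ?_
    rcases hP with rfl | hE
    · refine ⟨inf_le_left, fun α hα => image_eq_of_inv (S := P) inf_le_left (fun β _ u hu => ?_) hα⟩
      rw [autFun_of_mem β hu.1]
      refine ⟨(β _).2, Subgroup.mem_centralizer_iff.mpr fun w hw => ?_⟩
      obtain ⟨t, ht⟩ := β.surjective ⟨w, hw⟩
      have h1 : t * ⟨u, hu.1⟩ = ⟨u, hu.1⟩ * t := Subtype.ext (AbelianIndexP.ctr_comm hu t.2)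
      have h2 := congrArg (fun r => ((β r : P) : Ω)) h1
      simp only [map_mul, Subgroup.coe_mul, ht] at h2
      exact h2
    · have hQP : Q ≤ P := fun z hz => hE.1.2 P (isConj_refl hE.1.1)
        ⟨hz.1, Subgroup.mem_centralizer_iff.mpr fun w hw => AbelianIndexP.ctr_comm hz (hE.1.1 hw)⟩
      exact ⟨hQP, fun α hα => image_eq_of_inv hQP (fun β hβ u hu => hnot P hE β hβ u hu) hα⟩
  have h1 : Q ≤ F.core := le_sSup hQ
  rw [hcore, le_bot_iff] at h1
  haveI : Nontrivial S := Finite.one_lt_card_iff_nontrivial.1 (by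
    rw [H.card]; exact Nat.one_lt_pow (by norm_num) hp.out.one_lt)
  obtain ⟨s, hs, hs1⟩ := (Subgroup.nontrivial_iff_exists_ne_one _).mp H.pS.center_nontrivial
  refine hs1 (Subtype.ext ?_)
  have h' := AbelianIndexP.mem_center_subtype.mp hs
  rw [← hQdef, h1, Subgroup.mem_bot] at h'
  exact h'

/-- Automorphisms of a normal, non-essential `P` of index `p` extend to `S`. -/
theorem extend_to_S {P : Subgroup Ω} (hP : P ≤ S) (hcard : Nat.card P = p ^ 4)
    (hne : ¬ F.IsEssential p P) {α : MulAut P} (hα : α ∈ F.autGroup P) :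
    ∃ ψ ∈ F.autGroup S, Set.EqOn (autFun ψ) (autFun α) (P : Set Ω) := by
  haveI : (P.subgroupOf S).Normal :=
    PGroup.normal_of_index_eq_prime H.pS (index_of_card (k := 4) H.card (by rw [card_subgroupOf_eq hP, hcard]))
  have hn : S ≤ Subgroup.normalizer (P : Set Ω) := fun s hs => by
    have h1 : (⟨s, hs⟩ : S) ∈ Subgroup.normalizer ((P.subgroupOf S : Subgroup S) : Set S) := by
      rw [Subgroup.normalizer_eq_top]; exact Subgroup.mem_top _
    rw [normalizer_subgroupOf hP, Subgroup.mem_subgroupOf] at h1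
    exact h1.2
  have hNS : normalizerIn S P = S := inf_eq_left.mpr hn
  have hlt : P < S := lt_of_le_of_ne hP fun e => by
    rw [e, H.card] at hcard
    exact absurd hcard (Nat.pow_lt_pow_right hp.out.one_lt (by norm_num)).ne'
  have := extend_of_not_essential H.pS H.sat (fullyNormalized_of_normal hP hn) hlt
    (by rw [hNS, H.card, hcard, ← pow_succ']) hne hα
  rwa [hNS] at this

/-- The branch with an elementary abelian essential subgroup of order `p ^ 3`. -/
theorem false_of_cube (hhyp : F.hyperfocalSubgroup p = S) {E : Subgroup Ω} (hE : F.IsEssential p E)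
    (hcard : Nat.card E = p ^ 3) (hcomm : ∀ x ∈ E, ∀ y ∈ E, x * y = y * x) (hexp : ∀ x ∈ E, x ^ p = 1) :
    False := by
  obtain ⟨hNc, a, f, y, x, h0, htor⟩ := three_of_elementary H hE hcard hcomm hexp
  obtain ⟨v, z, h⟩ := h0.exists_three
  set N := normalizerIn S E with hNdef
  have hNS : N ≤ S := normalizerIn_le S E
  set N' := N.subgroupOf S with hN'
  set A := Subgroup.zpowers a
  set W := Subgroup.zpowers a ⊔ Subgroup.zpowers f with hW
  set R0 := Subgroup.zpowers a ⊔ Subgroup.zpowers f ⊔ Subgroup.zpowers z with hR0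
  have hR0N : R0 ≤ N' := sup_le h.W_le_N (Subgroup.zpowers_le.mpr h.zN)
  have hmapN : ∀ X : Subgroup S, X ≤ N' → X.map S.subtype ≤ N := fun X hX =>
    (Subgroup.map_mono hX).trans (subgroupOf_map_eq hNS).le
  -- `N` is not essential
  have hne : ¬ F.IsEssential p N := by
    intro hN
    have hinv : ∀ X : Subgroup S, X ≤ N' →
        (∀ (θ : MulAut N') (n : N'), (∃ α ∈ F.autGroup N, ∀ m : N', ((θ m : S) : Ω) = autFun α ((m : S) : Ω)) →
          (n : S) ∈ X → (θ n : S) ∈ X) →
        ∀ α ∈ F.autGroup N, autFun α '' ((X.map S.subtype : Subgroup Ω) : Set Ω) =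
          ((X.map S.subtype : Subgroup Ω) : Set Ω) := by
      intro X hX hθ α hα
      refine image_eq_of_inv (hmapN X hX) (fun β hβ u hu => ?_) hα
      obtain ⟨x, hx, rfl⟩ := hu
      obtain ⟨θ, hθe⟩ := exists_theta hNS β
      exact ⟨_, hθ θ ⟨x, hX hx⟩ ⟨β, hβ, hθe⟩ hx, hθe ⟨x, hX hx⟩⟩
    refine Fusion91.no_invariant_series H.pS hN
      (fun i => if i = 0 then ⊥ else if i = 1 then A.map S.subtype else if i = 2 then W.map S.subtype
        else if i = 3 then R0.map S.subtype else N) 4 (fun i => ?_) rfl rfl (fun i hi α hα => ?_) fun i hi => ?_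
    · split_ifs
      · exact bot_le
      · exact hmapN _ (le_sup_left.trans h.W_le_N)
      · exact hmapN _ h.W_le_N
      · exact hmapN _ hR0N
      · exact le_rfl
    · split_ifs
      · refine image_eq_of_inv bot_le (fun β hβ u hu => ?_) hα
        rw [Subgroup.mem_bot] at hu ⊢
        rw [hu]
        exact ((mem_autGroup hNS).mp hβ).1.map_one
      · exact hinv A (le_sup_left.trans h.W_le_N) (fun θ n _ hn => h.A_inv θ hn) α hα
      · exact hinv W h.W_le_N (fun θ n _ hn => h.W_inv θ hn) α hα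
      · refine hinv R0 hR0N (fun θ n hθ hn => ?_) α hα
        rcases h.R0_inv_or_conj θ with h1 | ⟨g, hg⟩
        · exact h1 n hn
        · exfalso
          obtain ⟨β, hβ, hθe⟩ := hθ
          haveI := h.R0_normal
          refine false_of_conj_normal (X := R0) hE.2.1 ?_ hNS (hmapN _ hR0N)
            (by rw [hR0, h.card_R0, hcard]) hβ (g := g) fun u hu => ?_
          · rw [← hNdef, hNc, H.card]; exact Nat.pow_lt_pow_right hp.out.one_lt (by norm_num)
          · have h2 := Subgroup.mem_subgroupOf.mp (hg ⟨u, hR0N hu⟩ hu)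
            rw [Subgroup.coe_mul, Subgroup.coe_mul, Subgroup.coe_inv, hθe] at h2
            exact h2
      · exact image_eq_of_inv le_rfl (fun β _ u hu => by rw [autFun_of_mem β hu]; exact (β _).2) hα
    · haveI := finite_of_le hNS
      haveI hfin : ∀ X : Subgroup S, Finite (X.map S.subtype : Subgroup Ω) := fun X =>
        finite_of_le (Subgroup.map_subtype_le X)
      have hc : ∀ X : Subgroup S, Nat.card (X.map S.subtype : Subgroup Ω) = Nat.card X := fun X =>
        Subgroup.card_map_of_injective S.subtype_injective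
      interval_cases i <;>
        simp only [Nat.reduceAdd, if_pos, if_neg, OfNat.ofNat_ne_zero, one_ne_zero, not_false_eq_true,
          Nat.succ_ne_self, Nat.reduceEqDiff]
      · exact relIndex_le_of_card bot_le (by
          rw [Subgroup.card_bot, one_mul, hc, Nat.card_zpowers, orderOf_eq_prime h.ap h.a_ne])
      · exact relIndex_le_of_card (Subgroup.map_mono le_sup_left) (by
          rw [hc, hc, Nat.card_zpowers, orderOf_eq_prime h.ap h.a_ne, hW, h.card_W, sq])
      · exact relIndex_le_of_card (Subgroup.map_mono le_sup_left) (by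
          rw [hc, hc, hW, h.card_W, hR0, h.card_R0, ← pow_succ])
      · exact relIndex_le_of_card (hmapN _ hR0N) (by rw [hc, hR0, h.card_R0, hNc, ← pow_succ])
  -- the torus on `S`
  have haN : (a : Ω) ∈ N := Subgroup.mem_subgroupOf.mp (h.le h.ha)
  have hyN : (y : Ω) ∈ N := Subgroup.mem_subgroupOf.mp (h.le h.hy)
  have hfN : (f : Ω) ∈ N := Subgroup.mem_subgroupOf.mp (h.le h.hf)
  have hψ : ∀ c : ZMod p, c ≠ 0 → ∃ ψ : MulAut S, ψ a = a ^ c.val ∧ ψ y = y ^ c⁻¹.val ∧ ψ f = f := by
    intro c hc0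
    obtain ⟨β, hβ, hβa, hβy, hβf⟩ := htor c hc0
    obtain ⟨ψ, -, hψe⟩ := extend_to_S H hNS hNc hne hβ
    refine ⟨ψ, Subtype.ext ?_, Subtype.ext ?_, Subtype.ext ?_⟩
    · rw [← autFun_coe, hψe haN, hβa, SubgroupClass.coe_pow]
    · rw [← autFun_coe, hψe hyN, hβy, SubgroupClass.coe_pow]
    · rw [← autFun_coe, hψe hfN, hβf]
  have hp2 : p ≠ 2 := Nat.ne_of_gt H.odd
  obtain ⟨ψ, hψa, hψy, hψf⟩ := hψ (-1) (neg_ne_zero.mpr one_ne_zero)
  have hcc : (((-1 : ZMod p).val : ℕ) : ZMod p) = -1 := ZMod.natCast_zmod_val _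
  have hdd : (((-1 : ZMod p)⁻¹.val : ℕ) : ZMod p) = -1 := by rw [ZMod.natCast_zmod_val, inv_neg, inv_one]
  obtain ⟨v', h', hvz⟩ := h.exists_centralizing (h.vz_mem hp2 ψ hψa hψy hψf hcc hdd)
  by_cases hvf : ⁅v', f⁆ = 1
  · exact h'.false_of_comm hvz hvf
  by_cases hp3 : p = 3
  · exact false_of_fixedLine H
      (h'.hasFixedLine hp3 hvz (h'.vp_mem hp2 hvz ψ hψa hψy hψf hcc hdd) hvf) hhyp
  have hp5 : 5 ≤ p := by
    have h2 := H.odd
    have h4 : p ≠ 4 := fun e => absurd (e ▸ hp.out : Nat.Prime 4) (by norm_num)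
    omega
  obtain ⟨c, hc0, -, hc2, -, -⟩ := LocalEvenD.RTE.exists_weight (p := p) hp5
  obtain ⟨ψ', hψ'a, hψ'y, hψ'f⟩ := hψ c hc0
  refine hc2 ?_
  have h1 := h'.f_rel ψ' hψ'a hψ'y hψ'f
    (by rw [ZMod.natCast_zmod_val, ZMod.natCast_zmod_val, mul_inv_cancel₀ hc0]) hvf
  rwa [ZMod.natCast_zmod_val, ← sq] at h1

/-- The branch with a pearl. -/
theorem false_of_sq (hp7 : p ≠ 7) (hhyp : F.hyperfocalSubgroup p = S) {E : Subgroup Ω}
    (hE : F.IsEssential p E) (hcard : Nat.card E = p ^ 2) : False := by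
  obtain ⟨hNc, a, y, hpearl, ha1, ha4, hEc, htor⟩ := pearl_of_sq H hE hcard
  obtain ⟨v, D⟩ := hpearl.exists_data
  by_cases hp3 : p = 3
  · exact false_of_fixedLine H (D.hasFixedLine hp3) hhyp
  have hp5 : 5 ≤ p := by
    have h2 := H.odd
    have h4 : p ≠ 4 := fun e => absurd (e ▸ hp.out : Nat.Prime 4) (by norm_num)
    omega
  have hES := hE.1.1
  set N := normalizerIn S E with hNdef
  have hNS : N ≤ S := normalizerIn_le S E
  have hN1 : N.subgroupOf S = FG38.filt S 3 ⊔ Subgroup.zpowers y := by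
    refine (Subgroup.eq_of_le_of_card_ge ?_ (by rw [card_subgroupOf_eq hNS, hNc, hpearl.card_N1])).symm
    rw [← normalizer_subgroupOf hES, hEc]
    exact hpearl.N1_le_normalizer
  have hmapN : ∀ X : Subgroup S, X ≤ FG38.filt S 3 ⊔ Subgroup.zpowers y → X.map S.subtype ≤ N := fun X hX =>
    (Subgroup.map_mono (hX.trans hN1.ge)).trans (subgroupOf_map_eq hNS).le
  have hEN : E ≤ N := le_normalizerIn hES
  -- `N` is fully normalized
  have hN2c : Nat.card (normalizerIn S N) = p ^ 4 := by
    rw [← card_subgroupOf_eq (normalizerIn_le S N), ← normalizer_subgroupOf hNS, hN1, hpearl.normalizer_N1,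
      hpearl.card_N2]
  have hNfn : F.IsFullyNormalized N := by
    refine ⟨hNS, fun Q hQ => ?_⟩
    by_contra hlt
    push Not at hlt
    rw [hN2c] at hlt
    have hQS := isConj_le_right hQ
    have hn := normalizerIn_eq_of_card (k := 4) H.pS H.card hlt
    haveI : (Q.subgroupOf S).Normal := by
      refine Subgroup.normalizer_eq_top_iff.mp ?_
      rw [normalizer_subgroupOf hQS, hn, Subgroup.subgroupOf_self]
    obtain ⟨f, hf⟩ := isConj_iff.mp hQ
    obtain ⟨I, hI⟩ := (hf.1.mono hEN).exists_image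
    have hIQ : I ≤ Q := fun u hu => by
      obtain ⟨e, he, rfl⟩ := hI.exists_preimage hu
      exact hf.mem (hEN he)
    refine hpearl.no_normal_cube (M := Q.subgroupOf S) (A := I.subgroupOf S)
      (by rw [card_subgroupOf_eq hQS, ← hf.card_eq, hNc]) (Subgroup.subgroupOf_mono S hIQ)
      (by rw [card_subgroupOf_eq (hIQ.trans hQS), ← hI.card_eq, hcard]) fun u hu => ?_
    refine Subgroup.mem_subgroupOf.mpr (hE.1.2 I hI.isConj ⟨u.2, Subgroup.mem_centralizer_iff.mpr fun i hi => ?_⟩)
    exact congrArg Subtype.val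
      (Subgroup.mem_centralizer_iff.mp hu ⟨i, hIQ.trans hQS hi⟩ (Subgroup.mem_subgroupOf.mpr hi))
  -- `N` is not essential
  have hne : ¬ F.IsEssential p N := by
    intro hN
    have hinv : ∀ X : Subgroup S, X ≤ FG38.filt S 3 ⊔ Subgroup.zpowers y →
        (∀ (θ : MulAut (FG38.filt S 3 ⊔ Subgroup.zpowers y : Subgroup S))
          (n : (FG38.filt S 3 ⊔ Subgroup.zpowers y : Subgroup S)),
          (∃ α ∈ F.autGroup N, ∀ m : (FG38.filt S 3 ⊔ Subgroup.zpowers y : Subgroup S),
            ((θ m : S) : Ω) = autFun α ((m : S) : Ω)) →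
          (n : S) ∈ X → (θ n : S) ∈ X) →
        ∀ α ∈ F.autGroup N, autFun α '' ((X.map S.subtype : Subgroup Ω) : Set Ω) =
          ((X.map S.subtype : Subgroup Ω) : Set Ω) := by
      intro X hX hθ α hα
      refine image_eq_of_inv (hmapN X hX) (fun β hβ u hu => ?_) hα
      obtain ⟨x, hx, rfl⟩ := hu
      obtain ⟨θ, hθe⟩ : ∃ θ : MulAut (FG38.filt S 3 ⊔ Subgroup.zpowers y : Subgroup S),
          ∀ n : (FG38.filt S 3 ⊔ Subgroup.zpowers y : Subgroup S), ((θ n : S) : Ω) = autFun β ((n : S) : Ω) :=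
        hN1 ▸ exists_theta hNS β
      exact ⟨_, hθ θ ⟨x, hX hx⟩ ⟨β, hβ, hθe⟩ hx, hθe ⟨x, hX hx⟩⟩
    have h34 : FG38.filt S 4 ≤ FG38.filt S 3 := FG38.filt_antitone (by norm_num)
    refine Fusion91.no_invariant_series H.pS hN
      (fun i => if i = 0 then ⊥ else if i = 1 then (FG38.filt S 4).map S.subtype
        else if i = 2 then (FG38.filt S 3).map S.subtype else N) 3 (fun i => ?_) rfl rfl (fun i hi α hα => ?_)
      fun i hi => ?_
    · split_ifs
      · exact bot_le
      · exact hmapN _ (h34.trans le_sup_left)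
      · exact hmapN _ le_sup_left
      · exact le_rfl
    · split_ifs
      · refine image_eq_of_inv bot_le (fun β hβ u hu => ?_) hα
        rw [Subgroup.mem_bot] at hu ⊢
        rw [hu]
        exact ((mem_autGroup hNS).mp hβ).1.map_one
      · exact hinv _ (h34.trans le_sup_left) (fun θ n _ hn => D.four_inv θ hn) α hα
      · refine hinv _ le_sup_left (fun θ n hθ hn => ?_) α hα
        rcases D.three_inv_or_conj θ with h1 | ⟨g, hg⟩
        · exact h1 n hn
        · exfalso
          obtain ⟨β, hβ, hθe⟩ := hθ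
          haveI : (FG38.filt S 3).Normal := by unfold FG38.filt; infer_instance
          refine false_of_conj_normal (X := FG38.filt S 3) hE.2.1 ?_ hNS (hmapN _ le_sup_left)
            (by rw [hpearl.card_three, hcard]) hβ (g := g) fun u hu => ?_
          · rw [← hNdef, hNc, H.card]; exact Nat.pow_lt_pow_right hp.out.one_lt (by norm_num)
          · have h2 := hg ⟨u, Subgroup.mem_sup_left hu⟩ hu
            rw [← hEc, Subgroup.mem_subgroupOf, Subgroup.coe_mul, Subgroup.coe_mul, Subgroup.coe_inv, hθe] at h2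
            exact h2
      · exact image_eq_of_inv le_rfl (fun β _ u hu => by rw [autFun_of_mem β hu]; exact (β _).2) hα
    · haveI := finite_of_le hNS
      haveI hfin : ∀ X : Subgroup S, Finite (X.map S.subtype : Subgroup Ω) := fun X =>
        finite_of_le (Subgroup.map_subtype_le X)
      have hc : ∀ X : Subgroup S, Nat.card (X.map S.subtype : Subgroup Ω) = Nat.card X := fun X =>
        Subgroup.card_map_of_injective S.subtype_injective
      interval_cases i <;>
        simp only [Nat.reduceAdd, if_pos, if_neg, OfNat.ofNat_ne_zero, one_ne_zero, not_false_eq_true,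
          Nat.succ_ne_self, Nat.reduceEqDiff]
      · exact relIndex_le_of_card bot_le (by rw [Subgroup.card_bot, one_mul, hc, hpearl.card_four])
      · exact relIndex_le_of_card (Subgroup.map_mono h34) (by
          rw [hc, hc, hpearl.card_four, hpearl.card_three, sq])
      · exact relIndex_le_of_card (hmapN _ le_sup_left) (by rw [hc, hpearl.card_three, hNc, ← pow_succ])
  -- `N_S(N)` is not essential
  set M := normalizerIn S N with hMdef
  have hMS : M ≤ S := normalizerIn_le S N
  have hM2 : M.subgroupOf S = FG38.filt S 2 ⊔ Subgroup.zpowers y := by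
    rw [← normalizer_subgroupOf hNS, hN1, hpearl.normalizer_N1]
  have hne2 : ¬ F.IsEssential p M := by
    intro hM
    obtain ⟨L, hchar, hL0, hL4, hLi⟩ := hpearl.exists_series D
    let e : (FG38.filt S 2 ⊔ Subgroup.zpowers y : Subgroup S) ≃* M :=
      (MulEquiv.subgroupCongr hM2.symm).trans (Subgroup.subgroupOfEquivOfLe hMS)
    refine Fusion91.no_char_series H.pS hM (fun i => (L i).map e.toMonoidHom) 4
      (fun i => characteristic_map_equiv e (hchar i)) (by rw [hL0, Subgroup.map_bot])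
      (by rw [hL4, ← MonoidHom.range_eq_map, MonoidHom.range_eq_top.mpr e.surjective]) fun i hi => ?_
    rw [Subgroup.relIndex_map_map_of_injective _ _ e.injective]
    exact hLi i hi
  -- the torus on `S`
  obtain ⟨c, hc0, hc6⟩ := exists_weight_six (p := p) hp5 hp7
  obtain ⟨β, hβ, hβa, hβy⟩ := htor c hc0
  obtain ⟨β₁, hβ₁, hβ₁e⟩ := extend_of_not_essential H.pS H.sat hNfn
    (lt_of_le_of_ne hNS fun e => by
      rw [e, H.card] at hNc
      exact absurd hNc (Nat.pow_lt_pow_right hp.out.one_lt (by norm_num)).ne')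
    (by rw [hN2c, hNc, ← pow_succ']) hne hβ
  obtain ⟨ψ, -, hψe⟩ := extend_to_S H hMS hN2c hne2 hβ₁
  have haN : (a : Ω) ∈ N := Subgroup.mem_subgroupOf.mp
    (hN1.ge (Subgroup.mem_sup_left (FG38.filt_antitone (by norm_num) ha4)))
  have hyN : (y : Ω) ∈ N := Subgroup.mem_subgroupOf.mp (hN1.ge (Subgroup.mem_sup_right (Subgroup.mem_zpowers y)))
  have hNM : N ≤ M := le_normalizerIn hNS
  have hψa : ψ a = a ^ c.val := Subtype.ext (by
    rw [← autFun_coe, hψe (hNM haN), hβ₁e haN, hβa, SubgroupClass.coe_pow])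
  have hψy : ψ y = y ^ c⁻¹.val := Subtype.ext (by
    rw [← autFun_coe, hψe (hNM hyN), hβ₁e hyN, hβy, SubgroupClass.coe_pow])
  have h6 := D.torus_rel ψ ha4 ha1 hψa hψy
    (by rw [ZMod.natCast_zmod_val, ZMod.natCast_zmod_val, mul_inv_cancel₀ hc0])
  rw [ZMod.natCast_zmod_val] at h6
  exact hc6 h6

/-- No reduced system exists. -/
theorem false_of_nab (hp7 : p ≠ 7) (hcore : F.core = ⊥) (hhyp : F.hyperfocalSubgroup p = S) : False := by
  obtain ⟨E, hE, α, hα, c, hc, hmove⟩ := exists_moving H hcore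
  rcases moving_cases H hE hα hc hmove with h2 | ⟨h3, hcomm, hexp⟩
  · exact false_of_sq H hp7 hhyp hE h2
  · exact false_of_cube H hhyp hE h3 hcomm hexp

end Cfsg.Agent.OrderFive52
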