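import Cfsg.Agent.OrderFive52.ThreeFixed
import Cfsg.Agent.SectRank81.MaxClass

/-!
# Groups of maximal class of order `p ^ 5` without abelian subgroup of index `p`
-/

set_option autoImplicit false
set_option linter.unusedSectionVars false
set_option linter.style.haveILetI false

namespace Cfsg.Agent.OrderFive52

open Subgroup FG38 SectRank81
open scoped commutatorElement

variable {G : Type*} [Group G] {p : ℕ} [hp : Fact p.Prime] [Finite G]

theorem filt_map_le (ψ : MulAut G) (i : ℕ) : ∀ u ∈ filt G i, ψ u ∈ filt G i := by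
  have h : ∀ j, ∀ u ∈ (⊤ : Subgroup G).lowerCentralSeries j, ψ u ∈ (⊤ : Subgroup G).lowerCentralSeries j := by
    intro j
    induction j with
    | zero => exact fun u _ => Subgroup.mem_top _
    | succ j ih =>
      intro u hu
      rw [Subgroup.lowerCentralSeries_succ] at hu ⊢
      have hle : ⁅(⊤ : Subgroup G).lowerCentralSeries j, (⊤ : Subgroup G)⁆ ≤
          ⁅(⊤ : Subgroup G).lowerCentralSeries j, (⊤ : Subgroup G)⁆.comap ψ.toMonoidHom :=
        Subgroup.commutator_le.mpr fun a ha b _ => by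
          rw [Subgroup.mem_comap, MulEquiv.coe_toMonoidHom, map_commutatorElement]
          exact Subgroup.commutator_mem_commutator (ih a ha) (Subgroup.mem_top _)
      exact hle hu
  exact h (i - 1)

/-- The centraliser of `γ₂ / γ₄`. -/
def gam1 (G : Type*) [Group G] : Subgroup G :=
  (Subgroup.centralizer (((filt G 2).map (QuotientGroup.mk' (filt G 4)) : Subgroup (G ⧸ filt G 4)) :
    Set (G ⧸ filt G 4))).comap (QuotientGroup.mk' (filt G 4))

theorem mem_gam1 {g : G} : g ∈ gam1 G ↔ ∀ u ∈ filt G 2, ⁅g, u⁆ ∈ filt G 4 := by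
  rw [gam1, Subgroup.mem_comap, Subgroup.mem_centralizer_iff]
  constructor
  · intro h u hu
    rw [← mem_quot_one_iff, map_commutatorElement, commutatorElement_eq_one_iff_mul_comm]
    exact (h _ ⟨u, hu, rfl⟩).symm
  · rintro h _ ⟨u, hu, rfl⟩
    rw [eq_comm, ← commutatorElement_eq_one_iff_mul_comm, ← map_commutatorElement, mem_quot_one_iff]
    exact h u hu

theorem gam1_map_le (ψ : MulAut G) {g : G} (hg : g ∈ gam1 G) : ψ g ∈ gam1 G := mem_gam1.mpr fun u hu => by
  obtain ⟨u', rfl⟩ := ψ.surjective u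
  rw [← map_commutatorElement]
  have hu' : u' ∈ filt G 2 := by simpa using filt_map_le ψ.symm 2 _ hu
  exact filt_map_le ψ 4 _ (mem_gam1.mp hg u' hu')

/-- Maximal class of order `p ^ 5`, `C(y)` of order `p ^ 2`. -/
structure Pearl (p : ℕ) (y : G) : Prop where
  cfg : Cfg p 5 y
  nab : NAB p G

namespace Pearl

variable {y : G} (h : Pearl p y)
include h

theorem isPGroup : IsPGroup p G := h.cfg.isPGroup

theorem card_two : Nat.card (filt G 2) = p ^ 3 := h.cfg.card_filt 2 le_rfl (by norm_num)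

theorem card_three : Nat.card (filt G 3) = p ^ 2 := h.cfg.card_filt 3 (by norm_num) (by norm_num)

theorem card_four : Nat.card (filt G 4) = p := (h.cfg.card_filt 4 (by norm_num) (by norm_num)).trans (pow_one p)

theorem filt_five : filt G 5 = ⊥ := h.cfg.filt_n

theorem four_center {u : G} (hu : u ∈ filt G 4) : u ∈ Subgroup.center G := by
  rw [h.cfg.center_eq]; exact hu

theorem four_pow {u : G} (hu : u ∈ filt G 4) : u ^ p = 1 := by
  have := congrArg Subtype.val (pow_card_eq_one' (x := (⟨u, hu⟩ : filt G 4)))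
  rwa [h.card_four] at this

theorem comm_top {i : ℕ} {u : G} (hu : u ∈ filt G i) (g : G) : ⁅u, g⁆ ∈ filt G (i + 1) :=
  filt_commutator i 1 (Subgroup.commutator_mem_commutator hu (by trivial))

theorem comm_not_mem {i : ℕ} (hi : 2 ≤ i) (hin : i + 2 ≤ 5) {b : G} (hb : b ∈ filt G i) (hb' : b ∉ filt G (i + 1)) :
    ⁅b, y⁆ ∉ filt G (i + 2) := by
  have h1 := h.cfg.dl_not_mem hi hin (inv_mem hb) (fun hm => hb' (by simpa using inv_mem hm))
  rwa [dl_eq, inv_inv] at h1

theorem two_comm {u w : G} (hu : u ∈ filt G 2) (hw : w ∈ filt G 2) : ⁅u, w⁆ = 1 := by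
  have hsub : ∀ t ∈ filt G 3, ∀ s ∈ filt G 2, ⁅t, s⁆ = 1 := fun t ht s hs => by
    have := filt_commutator 3 2 (Subgroup.commutator_mem_commutator ht hs)
    rwa [h.filt_five, Subgroup.mem_bot] at this
  obtain ⟨b, hb, hb'⟩ : ∃ b ∈ filt G 2, b ∉ filt G 3 := by
    by_contra hc
    push Not at hc
    have := Subgroup.card_le_of_le (hc : filt G 2 ≤ filt G 3)
    rw [h.card_two, h.card_three] at this
    exact absurd this (not_le.mpr (Nat.pow_lt_pow_right hp.out.one_lt (by norm_num)))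
  have hi : ((filt G 3).subgroupOf (filt G 2)).index = p := index_of_card h.card_two (by
    rw [Nat.card_congr (Subgroup.subgroupOfEquivOfLe (filt_antitone (by norm_num))).toEquiv, h.card_three])
  obtain ⟨t, ht, k, -, rfl⟩ : ∃ t ∈ filt G 3, ∃ k < p, u = t * b ^ k := by
    obtain ⟨t, ht, k, hk, e⟩ :=
      exists_mul_pow (h.isPGroup.to_subgroup _) hi (u := ⟨b, hb⟩) hb' ⟨u, hu⟩
    exact ⟨t, ht, k, hk, congrArg Subtype.val e⟩
  obtain ⟨t', ht', k', -, rfl⟩ : ∃ t ∈ filt G 3, ∃ k < p, w = t * b ^ k := by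
    obtain ⟨t, ht, k, hk, e⟩ :=
      exists_mul_pow (h.isPGroup.to_subgroup _) hi (u := ⟨b, hb⟩) hb' ⟨w, hw⟩
    exact ⟨t, ht, k, hk, congrArg Subtype.val e⟩
  rw [commutatorElement_eq_one_iff_mul_comm]
  have c : ∀ t ∈ filt G 3, ∀ s ∈ filt G 2, Commute t s := fun t ht s hs =>
    commutatorElement_eq_one_iff_mul_comm.mp (hsub t ht s hs)
  have h32 : filt G 3 ≤ filt G 2 := filt_antitone (by norm_num)
  exact ((c t ht _ (mul_mem (h32 ht') (pow_mem hb k'))).mul_left
    ((c t' ht' _ (pow_mem hb k)).symm.mul_right ((Commute.refl b).pow_pow k k'))).eq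

theorem gam1_three {g u : G} (hg : g ∈ gam1 G) (hu : u ∈ filt G 3) : ⁅g, u⁆ = 1 := by
  -- three subgroups
  have h1 : ⁅⁅(⊤ : Subgroup G), gam1 G⁆, filt G 2⁆ = ⊥ := by
    rw [eq_bot_iff, Subgroup.commutator_le]
    intro a ha b hb
    rw [Subgroup.mem_bot]
    refine h.two_comm ?_ hb
    have : ⁅(⊤ : Subgroup G), gam1 G⁆ ≤ filt G 2 :=
      (Subgroup.commutator_mono le_rfl le_top).trans (le_of_eq (filt_two (G := G)).symm)
    exact this ha
  have h2 : ⁅⁅gam1 G, filt G 2⁆, (⊤ : Subgroup G)⁆ = ⊥ := by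
    rw [eq_bot_iff]
    have : ⁅gam1 G, filt G 2⁆ ≤ filt G 4 := Subgroup.commutator_le.mpr fun a ha b hb => mem_gam1.mp ha b hb
    exact (Subgroup.commutator_mono this le_rfl).trans (Subgroup.commutator_le.mpr fun a ha b _ => by
      rw [← h.filt_five]; exact h.comm_top ha b)
  have h3 : ⁅⁅filt G 2, (⊤ : Subgroup G)⁆, gam1 G⁆ = ⊥ :=
    Subgroup.commutator_commutator_eq_bot_of_rotate h1 h2
  have h4 : filt G 3 = ⁅filt G 2, (⊤ : Subgroup G)⁆ := filt_succ_eq 2 (by norm_num)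
  have h5 : ⁅u, g⁆ ∈ ⁅⁅filt G 2, (⊤ : Subgroup G)⁆, gam1 G⁆ :=
    Subgroup.commutator_mem_commutator (h4 ▸ hu) hg
  rw [h3, Subgroup.mem_bot] at h5
  rw [← commutatorElement_inv, h5, inv_one]

theorem exists_two : ∃ b ∈ filt G 2, b ∉ filt G 3 := by
  by_contra hc
  push Not at hc
  have := Subgroup.card_le_of_le (hc : filt G 2 ≤ filt G 3)
  rw [h.card_two, h.card_three] at this
  exact absurd this (not_le.mpr (Nat.pow_lt_pow_right hp.out.one_lt (by norm_num)))

theorem y_not_mem : y ∉ gam1 G := by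
  intro hy
  obtain ⟨b, hb, hb'⟩ := h.exists_two
  refine h.comm_not_mem le_rfl (by norm_num) hb hb' ?_
  rw [← commutatorElement_inv]
  exact inv_mem (mem_gam1.mp hy b hb)

theorem two_le_gam1 : filt G 2 ≤ gam1 G := fun u hu => mem_gam1.mpr fun w hw => by
  rw [h.two_comm hu hw]; exact one_mem _

/-- `γ₁` has index `p` and contains some `v ∉ γ₂`. -/
theorem exists_v : (gam1 G).index = p ∧ ∃ v ∈ gam1 G, v ∉ filt G 2 := by
  obtain ⟨b, hb, hb'⟩ := h.exists_two
  set F4 := filt G 4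
  let φ : G →* G ⧸ F4 := MonoidHom.mk' (fun g => QuotientGroup.mk' F4 ⁅g, b⁆) fun g g' => by
    show QuotientGroup.mk' F4 ⁅g * g', b⁆ = _
    have hc : ⁅g', b⁆ ∈ filt G 3 := by
      rw [← commutatorElement_inv]; exact inv_mem (h.comm_top hb g')
    have hcc : QuotientGroup.mk' F4 ⁅g', b⁆ ∈ Subgroup.center (G ⧸ F4) := mem_center_quot fun t => by
      rw [← commutatorElement_inv]; exact inv_mem (h.comm_top hc t)
    rw [map_commutatorElement, map_mul, cmul_left (by rw [← map_commutatorElement]; exact hcc),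
      map_commutatorElement, map_commutatorElement]
  have hker : φ.ker ≤ gam1 G := fun g hg => mem_gam1.mpr fun u hu => by
    have hi : ((filt G 3).subgroupOf (filt G 2)).index = p := index_of_card h.card_two (by
      rw [Nat.card_congr (Subgroup.subgroupOfEquivOfLe (filt_antitone (by norm_num))).toEquiv, h.card_three])
    obtain ⟨t, ht, k, -, e⟩ := exists_mul_pow (h.isPGroup.to_subgroup _) hi (u := ⟨b, hb⟩) hb' ⟨u, hu⟩
    have e' : u = t * b ^ k := congrArg Subtype.val e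
    rw [e', ← mem_quot_one_iff, map_commutatorElement, map_mul, map_pow, commutatorElement_eq_one_iff_mul_comm]
    have hgb : Commute (QuotientGroup.mk' F4 g) (QuotientGroup.mk' F4 b) := by
      rw [commute_iff_eq, ← commutatorElement_eq_one_iff_mul_comm, ← map_commutatorElement]
      exact hg
    have hgt : Commute (QuotientGroup.mk' F4 g) (QuotientGroup.mk' F4 (t : G)) := by
      rw [commute_iff_eq, ← commutatorElement_eq_one_iff_mul_comm, ← map_commutatorElement, mem_quot_one_iff,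
        ← commutatorElement_inv]
      exact inv_mem (h.comm_top ht g)
    exact (hgt.mul_right (hgb.pow_right k)).eq
  have hrange : φ.range ≤ (filt G 3).map (QuotientGroup.mk' F4) := by
    rintro _ ⟨g, rfl⟩
    exact ⟨_, by rw [← commutatorElement_inv]; exact inv_mem (h.comm_top hb g), rfl⟩
  have h34 : Nat.card ((filt G 3).map (QuotientGroup.mk' F4)) ≤ p := by
    have e : Nat.card ((filt G 3).map (QuotientGroup.mk' F4)) * Nat.card F4 ≤ p ^ 2 := by
      rw [← FG78.card_comap_mk' F4 ((filt G 3).map (QuotientGroup.mk' F4)) |>.trans (mul_comm _ _),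
        Subgroup.comap_map_eq, QuotientGroup.ker_mk', sup_eq_left.mpr (filt_antitone (by norm_num)), h.card_three]
    rw [h.card_four, sq] at e
    exact Nat.le_of_mul_le_mul_right e hp.out.pos
  have hidx : φ.ker.index ≤ p := by
    rw [Subgroup.index_ker]
    exact (Subgroup.card_le_of_le hrange).trans h34
  have hge : p ≤ (gam1 G).index := by
    obtain ⟨k, hk⟩ := h.isPGroup.index (gam1 G)
    rw [hk]
    refine Nat.le_self_pow (fun h0 => h.y_not_mem ?_) p
    rw [h0, pow_zero] at hk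
    rw [Subgroup.index_eq_one.mp hk]
    exact Subgroup.mem_top y
  have hle : (gam1 G).index ≤ p := (Nat.le_of_dvd (Nat.pos_of_ne_zero Subgroup.index_ne_zero_of_finite)
    (Subgroup.index_dvd_of_le hker)).trans hidx
  have heq := le_antisymm hle hge
  refine ⟨heq, ?_⟩
  by_contra hc
  push Not at hc
  have h1 := Subgroup.card_le_of_le (hc : gam1 G ≤ filt G 2)
  have h2 := (gam1 G).card_mul_index
  rw [heq, h.cfg.card] at h2
  rw [h.card_two] at h1
  have h3 : Nat.card (gam1 G) * p ≤ p ^ 3 * p := Nat.mul_le_mul_right p h1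
  rw [h2, ← pow_succ] at h3
  exact absurd h3 (not_le.mpr (Nat.pow_lt_pow_right hp.out.one_lt (by norm_num)))

end Pearl

/-- The data `v, s₂, s₃, q, r`. -/
structure PearlData (p : ℕ) (y v : G) : Prop where
  pearl : Pearl p y
  idx : (gam1 G).index = p
  hv : v ∈ gam1 G
  hv2 : v ∉ filt G 2
  s2 : ⁅v, y⁆ ∈ filt G 2
  s2' : ⁅v, y⁆ ∉ filt G 3
  s3' : ⁅⁅v, y⁆, y⁆ ∉ filt G 4
  q1 : ⁅⁅⁅v, y⁆, y⁆, y⁆ ≠ 1
  r1 : ⁅v, ⁅v, y⁆⁆ ≠ 1

theorem Pearl.exists_data {y : G} (h : Pearl p y) : ∃ v, PearlData p y v := by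
  obtain ⟨hidx, v, hv, hv2⟩ := h.exists_v
  have hs2 : ⁅v, y⁆ ∈ filt G 2 := by
    rw [filt_two]; exact PGroup.commutatorElement_mem_commutator v y
  have hi : ((filt G 2).subgroupOf (gam1 G)).index = p := by
    have hc : Nat.card (gam1 G) = p ^ 4 := by
      have := (gam1 G).card_mul_index
      rw [hidx, h.cfg.card, pow_succ] at this
      exact Nat.eq_of_mul_eq_mul_right hp.out.pos this
    exact index_of_card hc (by
      rw [Nat.card_congr (Subgroup.subgroupOfEquivOfLe h.two_le_gam1).toEquiv, h.card_two])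
  have hdec1 : ∀ g ∈ gam1 G, ∃ u ∈ filt G 2, ∃ k < p, g = u * v ^ k := fun g hg => by
    obtain ⟨u, hu, k, hk, e⟩ := exists_mul_pow (h.isPGroup.to_subgroup _) hi (u := ⟨v, hv⟩) hv2 ⟨g, hg⟩
    exact ⟨u, hu, k, hk, congrArg Subtype.val e⟩
  have hdec : ∀ g : G, ∃ t ∈ gam1 G, ∃ k < p, g = t * y ^ k := exists_mul_pow h.isPGroup hidx h.y_not_mem
  have hs2' : ⁅v, y⁆ ∉ filt G 3 := by
    intro hc
    -- `G / γ₃` would be abelian
    have hgen : ∀ g : G, g ∈ Subgroup.closure ((filt G 2 : Set G) ∪ {v, y}) := fun g => by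
      obtain ⟨t, ht, k, -, rfl⟩ := hdec g
      obtain ⟨u, hu, l, -, rfl⟩ := hdec1 t ht
      exact mul_mem (mul_mem (Subgroup.subset_closure (Or.inl hu))
        (pow_mem (by exact Subgroup.subset_closure (Or.inr (Or.inl rfl))) l))
        (pow_mem (by exact Subgroup.subset_closure (Or.inr (Or.inr rfl))) k)
    have habel : ∀ a b : G, ⁅a, b⁆ ∈ filt G 3 := by
      intro a b
      refine comm_mem_of_closure ?_ (hgen a) (hgen b)
      have e2 : ∀ s ∈ filt G 2, ∀ t : G, ⁅s, t⁆ ∈ filt G 3 ∧ ⁅t, s⁆ ∈ filt G 3 := fun s hs t =>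
        ⟨h.comm_top hs t, by rw [← commutatorElement_inv]; exact inv_mem (h.comm_top hs t)⟩
      rintro s (hs | rfl | rfl) t (ht | rfl | rfl) <;>
        first
          | exact (e2 _ hs _).1
          | exact (e2 _ ht _).2
          | (rw [commutatorElement_eq_one_iff_mul_comm.mpr rfl]; exact one_mem _)
          | exact hc
          | (rw [← commutatorElement_inv]; exact inv_mem hc)
    obtain ⟨b, hb, hb'⟩ := h.exists_two
    refine hb' ?_
    have : filt G 2 ≤ filt G 3 := by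
      rw [filt_two, commutator_def]
      exact Subgroup.commutator_le.mpr fun a _ b _ => habel a b
    exact this hb
  have hs3' : ⁅⁅v, y⁆, y⁆ ∉ filt G 4 := h.comm_not_mem le_rfl (by norm_num) hs2 hs2'
  have hs3 : ⁅⁅v, y⁆, y⁆ ∈ filt G 3 := h.comm_top hs2 y
  have hq : ⁅⁅⁅v, y⁆, y⁆, y⁆ ≠ 1 := fun e => by
    refine h.comm_not_mem (by norm_num : 2 ≤ 3) le_rfl hs3 hs3' ?_
    rw [e]; exact one_mem _
  refine ⟨v, h, hidx, hv, hv2, hs2, hs2', hs3', hq, fun hr => ?_⟩
  -- otherwise `γ₁` is abelian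
  have hall : ∀ u ∈ filt G 2, Commute v u := by
    intro u hu
    have hi2 : ((filt G 3).subgroupOf (filt G 2)).index = p := index_of_card h.card_two (by
      rw [Nat.card_congr (Subgroup.subgroupOfEquivOfLe (filt_antitone (by norm_num))).toEquiv, h.card_three])
    obtain ⟨t, ht, k, -, e⟩ :=
      exists_mul_pow (h.isPGroup.to_subgroup _) hi2 (u := ⟨_, hs2⟩) hs2' ⟨u, hu⟩
    have e' : u = t * ⁅v, y⁆ ^ k := congrArg Subtype.val e
    rw [e']
    exact (show Commute v t from commutatorElement_eq_one_iff_mul_comm.mp (h.gam1_three hv ht)).mul_right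
      ((show Commute v ⁅v, y⁆ from commutatorElement_eq_one_iff_mul_comm.mp hr).pow_right k)
  have hab : ∀ a ∈ gam1 G, ∀ b ∈ gam1 G, a * b = b * a := by
    intro a ha b hb
    obtain ⟨u, hu, k, -, rfl⟩ := hdec1 a ha
    obtain ⟨u', hu', k', -, rfl⟩ := hdec1 b hb
    exact (((show Commute u u' from commutatorElement_eq_one_iff_mul_comm.mp (h.two_comm hu hu')).mul_right
      ((hall u hu).symm.pow_right k')).mul_left
      (((hall u' hu').pow_left k).mul_right ((Commute.refl v).pow_pow k k'))).eq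
  have hc := h.nab _ hab
  have h2 := (gam1 G).card_mul_index
  rw [hidx, h.cfg.card, pow_succ] at h2
  rw [Nat.eq_of_mul_eq_mul_right hp.out.pos h2] at hc
  exact lt_irrefl _ hc

namespace PearlData

variable {y v : G} (D : PearlData p y v)
include D

theorem dec_gam1 {g : G} (hg : g ∈ gam1 G) : ∃ u ∈ filt G 2, ∃ k < p, g = u * v ^ k := by
  have h := D.pearl
  have hc : Nat.card (gam1 G) = p ^ 4 := by
    have := (gam1 G).card_mul_index
    rw [D.idx, h.cfg.card, pow_succ] at this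
    exact Nat.eq_of_mul_eq_mul_right hp.out.pos this
  obtain ⟨u, hu, k, hk, e⟩ := exists_mul_pow (h.isPGroup.to_subgroup _)
    (index_of_card hc (by
      rw [Nat.card_congr (Subgroup.subgroupOfEquivOfLe h.two_le_gam1).toEquiv, h.card_two]))
    (u := ⟨v, D.hv⟩) D.hv2 ⟨g, hg⟩
  exact ⟨u, hu, k, hk, congrArg Subtype.val e⟩

/-- The weights of an automorphism. -/
theorem weights (ψ : MulAut G) {μ : ℕ} {h0 : G} (hh0 : h0 ∈ gam1 G) (hy : ψ y = h0 * y ^ μ) :
    ∃ u ∈ filt G 2, ∃ n : ℕ, ψ v = u * v ^ n ∧ (n : ZMod p) = μ * μ ∧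
      ψ ⁅⁅⁅v, y⁆, y⁆, y⁆ = ⁅⁅⁅v, y⁆, y⁆, y⁆ ^ (n * μ * μ * μ) := by
  have h := D.pearl
  obtain ⟨u, hu, n, -, hv'⟩ := D.dec_gam1 (gam1_map_le ψ D.hv)
  set s2 := ⁅v, y⁆ with hs2d
  set s3 := ⁅s2, y⁆ with hs3d
  set q := ⁅s3, y⁆ with hqd
  set r := ⁅v, s2⁆ with hrd
  have hs2 := D.s2
  have hs3 : s3 ∈ filt G 3 := h.comm_top hs2 y
  have hq : q ∈ filt G 4 := h.comm_top hs3 y
  have hr : r ∈ filt G 4 := mem_gam1.mp D.hv s2 hs2
  -- `s₂` modulo `γ₃`
  have e2 : QuotientGroup.mk' (filt G 3) (ψ s2) = QuotientGroup.mk' (filt G 3) (s2 ^ (n * μ)) := by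
    set π := QuotientGroup.mk' (filt G 3)
    have hcen : ∀ s ∈ filt G 2, π s ∈ Subgroup.center (G ⧸ filt G 3) := fun s hs => mem_center_quot fun t => by
      rw [← commutatorElement_inv]; exact inv_mem (h.comm_top hs t)
    have hsc : ⁅π v, π y⁆ ∈ Subgroup.center (G ⧸ filt G 3) := by
      rw [← map_commutatorElement]; exact hcen _ hs2
    have hu1 : ∀ t : G ⧸ filt G 3, ⁅π u, t⁆ = 1 := fun t =>
      commutatorElement_eq_one_iff_mul_comm.mpr (Subgroup.mem_center_iff.mp (hcen u hu) t).symm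
    have hh : ⁅(π v) ^ n, π h0⁆ = 1 := by
      rw [commutatorElement_eq_one_iff_mul_comm]
      obtain ⟨u', hu', k, -, rfl⟩ := D.dec_gam1 hh0
      rw [map_mul, map_pow]
      exact ((show Commute ((π v) ^ n) (π u') from Subgroup.mem_center_iff.mp (hcen u' hu') _).mul_right
        ((Commute.refl (π v)).pow_pow n k)).eq
    have hX : ⁅(π v) ^ n, π h0 * (π y) ^ μ⁆ = π s2 ^ (n * μ) := by
      rw [cmul_right (by rw [cpow hsc]; exact Subgroup.pow_mem _ hsc _), hh, one_mul, cpow hsc,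
        ← map_commutatorElement]
    rw [map_commutatorElement ψ, hv', hy, map_commutatorElement, map_mul, map_mul, map_pow, map_pow,
      cmul_left (by rw [hX]; exact Subgroup.pow_mem _ (hcen _ hs2) _), hu1, one_mul, hX, map_pow]
  obtain ⟨w3, hw3, hw3e⟩ : ∃ w ∈ filt G 3, ψ s2 = s2 ^ (n * μ) * w :=
    ⟨_, QuotientGroup.eq.mp e2.symm, (mul_inv_cancel_left _ _).symm⟩
  -- `s₃` modulo `γ₄`
  have e3 : QuotientGroup.mk' (filt G 4) (ψ s3) = QuotientGroup.mk' (filt G 4) (s3 ^ (n * μ * μ)) := by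
    set π := QuotientGroup.mk' (filt G 4)
    have hcen : ∀ s ∈ filt G 3, π s ∈ Subgroup.center (G ⧸ filt G 4) := fun s hs => mem_center_quot fun t => by
      rw [← commutatorElement_inv]; exact inv_mem (h.comm_top hs t)
    have hsc : ⁅π s2, π y⁆ ∈ Subgroup.center (G ⧸ filt G 4) := by
      rw [← map_commutatorElement]; exact hcen _ hs3
    have hw : ∀ t : G ⧸ filt G 4, ⁅π w3, t⁆ = 1 := fun t =>
      commutatorElement_eq_one_iff_mul_comm.mpr (Subgroup.mem_center_iff.mp (hcen w3 hw3) t).symm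
    have hh : ⁅(π s2) ^ (n * μ), π h0⁆ = 1 := by
      rw [commutatorElement_eq_one_iff_mul_comm]
      refine (show Commute ((π s2) ^ (n * μ)) (π h0) from (Commute.pow_left ?_ _)).eq
      rw [commute_iff_eq, eq_comm, ← commutatorElement_eq_one_iff_mul_comm, ← map_commutatorElement,
        mem_quot_one_iff]
      exact mem_gam1.mp hh0 s2 hs2
    rw [hs3d, map_commutatorElement ψ, hw3e, hy, map_commutatorElement, map_mul, map_mul, map_pow, map_pow,
      cmul_left (by rw [hw]; exact one_mem _), hw, mul_one,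
      cmul_right (by rw [cpow hsc]; exact Subgroup.pow_mem _ hsc _), hh, one_mul, cpow hsc,
      map_pow π, ← map_commutatorElement]
  obtain ⟨w4, hw4, hw4e⟩ : ∃ w ∈ filt G 4, ψ s3 = s3 ^ (n * μ * μ) * w :=
    ⟨_, QuotientGroup.eq.mp e3.symm, (mul_inv_cancel_left _ _).symm⟩
  -- `q` and `r`
  have eq4 : ψ q = q ^ (n * μ * μ * μ) := by
    have hqc := h.four_center hq
    have hw : ∀ t : G, ⁅w4, t⁆ = 1 := fun t =>
      commutatorElement_eq_one_iff_mul_comm.mpr (Subgroup.mem_center_iff.mp (h.four_center hw4) t).symm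
    have hh : ⁅s3 ^ (n * μ * μ), h0⁆ = 1 := by
      rw [← commutatorElement_inv, h.gam1_three hh0 (pow_mem hs3 _), inv_one]
    rw [hqd, map_commutatorElement, hw4e, hy, cmul_left (by rw [hw]; exact one_mem _), hw, mul_one,
      cmul_right (by rw [cpow hqc]; exact Subgroup.pow_mem _ hqc _), hh, one_mul, cpow hqc]
  have er : ψ r = r ^ (n * (n * μ)) := by
    have hrc := h.four_center hr
    have hX : ⁅v ^ n, s2 ^ (n * μ) * w3⁆ = r ^ (n * (n * μ)) := by
      have hw : ⁅v ^ n, w3⁆ = 1 := h.gam1_three (pow_mem D.hv n) hw3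
      rw [cmul_right (by rw [hw]; exact one_mem _), hw, mul_one, cpow hrc]
    have hu1 : ⁅u, s2 ^ (n * μ) * w3⁆ = 1 :=
      h.two_comm hu (mul_mem (pow_mem hs2 _) (filt_antitone (by norm_num) hw3))
    rw [hrd, map_commutatorElement, hv', hw3e, cmul_left (by rw [hX]; exact Subgroup.pow_mem _ hrc _), hu1,
      one_mul, hX]
  have hqp := h.four_pow hq
  obtain ⟨l, hl⟩ : ∃ l, r = q ^ l := by
    refine exists_pow_of_mem_zpowers hqp ?_
    rw [Subgroup.eq_of_le_of_card_ge (Subgroup.zpowers_le.mpr hq) (by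
      rw [h.card_four, Nat.card_zpowers, orderOf_eq_prime hqp D.q1])]
    exact hr
  have hl0 : (l : ZMod p) ≠ 0 := fun e => D.r1 (by
    show r = 1
    rw [hl, pow_cast_eq hqp (j := 0) (by rw [e, Nat.cast_zero]), pow_zero])
  have key : q ^ (l * (n * (n * μ))) = q ^ (n * μ * μ * μ * l) := by
    rw [pow_mul, ← hl, ← er, hl, map_pow, eq4, ← pow_mul]
  have hrel := cast_eq_of_pow_eq hqp D.q1 key
  push_cast at hrel
  have hne : ((n * μ * μ * μ : ℕ) : ZMod p) ≠ 0 := fun e => D.q1 (ψ.injective (by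
    rw [map_one, eq4, pow_cast_eq hqp (j := 0) (by rw [e, Nat.cast_zero]), pow_zero]))
  push_cast at hne
  refine ⟨u, hu, n, hv', ?_, eq4⟩
  refine mul_left_cancel₀ (mul_ne_zero hl0 (left_ne_zero_of_mul (left_ne_zero_of_mul hne))) ?_
  linear_combination hrel

/-- A torus element forces `c ^ 6 = 1`. -/
theorem torus_rel (ψ : MulAut G) {a : G} (ha : a ∈ filt G 4) (ha1 : a ≠ 1) {c d : ℕ} (hψa : ψ a = a ^ c)
    (hψy : ψ y = y ^ d) (hcd : (c : ZMod p) * d = 1) : (c : ZMod p) ^ 6 = 1 := by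
  have h := D.pearl
  obtain ⟨u, hu, n, -, hn, hq⟩ := D.weights ψ (μ := d) (one_mem _) (by rw [hψy, one_mul])
  have hs3 : ⁅⁅v, y⁆, y⁆ ∈ filt G 3 := h.comm_top D.s2 y
  have hq4 : ⁅⁅⁅v, y⁆, y⁆, y⁆ ∈ filt G 4 := h.comm_top hs3 y
  set q := ⁅⁅⁅v, y⁆, y⁆, y⁆
  have hap := h.four_pow ha
  obtain ⟨l, hl⟩ : ∃ l, q = a ^ l := by
    refine exists_pow_of_mem_zpowers hap ?_
    rw [Subgroup.eq_of_le_of_card_ge (Subgroup.zpowers_le.mpr ha) (by
      rw [h.card_four, Nat.card_zpowers, orderOf_eq_prime hap ha1])]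
    exact hq4
  have hqc : ψ q = q ^ c := by rw [hl, map_pow, hψa, ← pow_mul, ← pow_mul, mul_comm]
  have := cast_eq_of_pow_eq (h.four_pow hq4) D.q1 (hq.symm.trans hqc)
  push_cast at this
  rw [hn] at this
  calc (c : ZMod p) ^ 6 = (c : ZMod p) ^ 5 * c := pow_succ _ 5
    _ = (c : ZMod p) ^ 5 * ((d : ZMod p) * d * d * d * d) := by rw [this]
    _ = ((c : ZMod p) * d) ^ 5 := by ring
    _ = 1 := by rw [hcd, one_pow]

/-- For `p = 3`: every automorphism fixes `v` modulo a maximal subgroup. -/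
theorem hasFixedLine (hp3 : p = 3) : HasFixedLine p G := by
  have h := D.pearl
  have hcomm : ∀ a b : G, ⁅a, b⁆ ∈ filt G 2 := fun a b => by
    rw [filt_two]; exact PGroup.commutatorElement_mem_commutator a b
  haveI hK : (filt G 2 ⊔ Subgroup.zpowers y).Normal := ⟨fun x hx g => by
    rw [show g * x * g⁻¹ = ⁅g, x⁆ * x by rw [commutatorElement_def, inv_mul_cancel_right]]
    exact mul_mem (Subgroup.mem_sup_left (hcomm g x)) hx⟩
  haveI := PGroup.normal_of_index_eq_prime h.isPGroup D.idx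
  set K := filt G 2 ⊔ Subgroup.zpowers y
  have hyp : y ^ p ∈ filt G 2 :=
    filt_antitone (by norm_num : 2 ≤ 4) (h.cfg.center_eq.le h.cfg.x_pow_mem_center)
  have hKc : Nat.card K ≤ p ^ 4 := (card_sup_zpowers_le hyp).trans (by rw [h.card_two, ← pow_succ])
  have hyK : y ∈ K := Subgroup.mem_sup_right (Subgroup.mem_zpowers y)
  have hvK : v ∉ K := by
    intro hv
    have htop : K = ⊤ := (Subgroup.eq_top_iff' K).mpr fun g => by
      obtain ⟨t, ht, k, -, rfl⟩ := exists_mul_pow h.isPGroup D.idx h.y_not_mem g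
      obtain ⟨u, hu, l, -, rfl⟩ := D.dec_gam1 ht
      exact mul_mem (mul_mem (Subgroup.mem_sup_left hu) (pow_mem hv l)) (pow_mem hyK k)
    rw [htop, Subgroup.card_top, h.cfg.card] at hKc
    exact absurd hKc (not_le.mpr (Nat.pow_lt_pow_right hp.out.one_lt (by norm_num)))
  have hKi : K.index = p := by
    have h1 : p * Nat.card (filt G 2) ≤ Nat.card K :=
      mul_card_le_sup h.isPGroup fun hy => h.y_not_mem (h.two_le_gam1 hy)
    rw [h.card_two, ← pow_succ'] at h1
    exact index_of_card h.cfg.card (le_antisymm hKc h1)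
  refine ⟨K, hK, fun a b => Subgroup.mem_sup_left (hcomm a b), fun a => hKi ▸ Subgroup.pow_index_mem K a,
    v, hvK, fun α => ?_⟩
  obtain ⟨h0, hh0, μ, -, hy⟩ := exists_mul_pow h.isPGroup D.idx h.y_not_mem (α y)
  obtain ⟨u, hu, n, hv', hn, hq⟩ := D.weights α hh0 hy
  have hμ : (μ : ZMod p) ≠ 0 := by
    intro e
    have hq4 : ⁅⁅⁅v, y⁆, y⁆, y⁆ ^ p = 1 := h.four_pow (h.comm_top (h.comm_top D.s2 y) y)
    refine D.q1 (α.injective ?_)
    rw [map_one, hq, pow_cast_eq hq4 (j := 0) (by push_cast; rw [e, mul_zero]), pow_zero]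
  rw [sq_one_of_three hp3 hμ] at hn
  have hvp : v ^ p ∈ K := hKi ▸ Subgroup.pow_index_mem K v
  obtain ⟨m, hm⟩ : ∃ m, n = 1 + p * m := by
    have h2 : (n : ZMod p) = ((1 : ℕ) : ZMod p) := by rw [hn, Nat.cast_one]
    rw [ZMod.natCast_eq_natCast_iff', Nat.one_mod_eq_one.mpr hp.out.ne_one] at h2
    have hd := Nat.mod_add_div n p
    rw [h2] at hd
    exact ⟨_, hd.symm⟩
  rw [← mem_quot_one_iff, hv', hm, pow_add, pow_one, pow_mul, map_mul, map_inv, map_mul, map_mul,
    mem_quot_one_iff.mpr (Subgroup.mem_sup_left hu : u ∈ K), one_mul,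
    mem_quot_one_iff.mpr (pow_mem hvp m), mul_one, inv_mul_cancel]

end PearlData

end Cfsg.Agent.OrderFive52
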