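import Cfsg.Agent.LocalEvenD.RankThreeEss.GL3

/-!
# Elements of rank one in a group with a strongly `p`-embedded subgroup
-/

set_option autoImplicit false
set_option linter.unusedSectionVars false
set_option linter.style.haveILetI false

namespace Cfsg.Agent.OrderFive52

open Cfsg.Agent.LocalEvenD.RTE
open Cfsg.Agent.LocalEven61 (NormalizersLE ConjInterCoprime)

variable {V : Type*} [CommGroup V] [Finite V] {L : Type*} [Group L] [Finite L] {p : ℕ} [hp : Fact p.Prime]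

/-- `z ∈ M` moves everything along the line of `d`, which it fixes. -/
structure Rank1 (p : ℕ) (ρ : L →* MulAut V) (M : Subgroup L) (z : L) (d : V) : Prop where
  inj : Function.Injective ρ
  exp : ∀ v : V, v ^ p = 1
  nle : NormalizersLE p M
  mem : z ∈ M
  ne : z ≠ 1
  move : ∀ v, dsp ρ z v ∈ Subgroup.zpowers d
  fix : ρ z d = d

namespace Rank1

variable {ρ : L →* MulAut V} {M : Subgroup L} {z : L} {d : V} (h : Rank1 p ρ M z d)
include h

theorem fix_line {x : V} (hx : x ∈ Subgroup.zpowers d) : ρ z x = x := by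
  obtain ⟨i, rfl⟩ := hx
  show ρ z (d ^ i) = d ^ i
  rw [map_zpow, h.fix]

theorem zp : z ^ p = 1 := by
  refine h.inj (MulEquiv.ext fun v => ?_)
  rw [iter_apply (h.fix_line (h.move v)), h.exp, mul_one, map_one, MulAut.one_apply]

theorem d_ne : d ≠ 1 := fun hd => h.ne (h.inj (MulEquiv.ext fun v => by
  have h1 := h.move v
  rw [hd, Subgroup.zpowers_one_eq_bot, Subgroup.mem_bot] at h1
  rw [map_one, MulAut.one_apply, apply_eq (ρ := ρ) z v, h1, mul_one]))

theorem mem_of_commute {n : L} (hc : n * z = z * n) : n ∈ M := by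
  refine h.nle _ (Subgroup.zpowers_le.mpr h.mem) (isPGroup_zp h.zp) (Subgroup.zpowers_ne_bot.mpr h.ne) ?_
  exact Subgroup.centralizer_le_normalizer _ (Subgroup.mem_centralizer_iff.mpr fun x hx => by
    obtain ⟨i, rfl⟩ := hx
    exact (Commute.zpow_left (hc.symm : Commute z n) i).eq)

theorem conj_not_mem {g : L} (hg : g ∉ M) : g * z * g⁻¹ ∉ M := fun hm => by
  refine LocalEven61.conjInterCoprime_of_normalizersLE h.nle g hg ?_
  have hle : Subgroup.zpowers (g * z * g⁻¹) ≤ M ⊓ M.map (MulAut.conj g).toMonoidHom :=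
    Subgroup.zpowers_le.mpr ⟨hm, z, h.mem, by simp⟩
  have := Subgroup.card_dvd_of_le hle
  rwa [Nat.card_zpowers, show g * z * g⁻¹ = MulAut.conj g z by simp, MulEquiv.orderOf_eq,
    orderOf_eq_prime h.zp h.ne] at this

theorem conj_move (g : L) (v : V) : dsp ρ (g * z * g⁻¹) v ∈ Subgroup.zpowers (ρ g d) := by
  obtain ⟨i, hi⟩ := h.move (ρ g⁻¹ v)
  refine ⟨i, ?_⟩
  show ρ g d ^ i = _
  rw [← map_zpow, show d ^ i = dsp ρ z (ρ g⁻¹ v) from hi]
  simp only [dsp, map_mul, MulAut.mul_apply, map_inv]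
  rw [MulAut.apply_inv_self]

theorem conj_fix (g : L) : ρ (g * z * g⁻¹) (ρ g d) = ρ g d := by
  rw [← MulAut.mul_apply, ← map_mul, inv_mul_cancel_right, map_mul, MulAut.mul_apply, h.fix]

/-- A conjugate of the line outside `M` is moved by `z`. -/
theorem opp {g : L} (hg : g ∉ M) : ρ z (ρ g d) ≠ ρ g d := by
  intro hb
  set b := ρ g d
  set w := g * z * g⁻¹ with hw
  have hwb : ρ w b = b := h.conj_fix g
  have hfb : ∀ x ∈ Subgroup.zpowers b, ρ z x = x ∧ ρ w x = x := by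
    rintro x ⟨i, rfl⟩
    exact ⟨by show ρ z (b ^ i) = b ^ i; rw [map_zpow, hb], by show ρ w (b ^ i) = b ^ i; rw [map_zpow, hwb]⟩
  -- `w` conjugates `z` into its centralizer
  have hwinv : ∀ x, ρ w (ρ w⁻¹ x) = x := fun x => by
    rw [← MulAut.mul_apply, ← map_mul, mul_inv_cancel, map_one, MulAut.one_apply]
  obtain ⟨q, hq, hqe⟩ : ∃ q ∈ Subgroup.zpowers b, ρ w d = d * q := ⟨_, h.conj_move g d, apply_eq w d⟩
  have hinvd : ρ w⁻¹ d = d * q⁻¹ := by
    have h1 : ρ w (d * q⁻¹) = d := by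
      rw [map_mul, map_inv, hqe, (hfb q hq).2, mul_inv_cancel_right]
    conv_lhs => rw [← h1]
    rw [← MulAut.mul_apply, ← map_mul, inv_mul_cancel, map_one, MulAut.one_apply]
  have hzwd : ρ (w * z * w⁻¹) d = d := by
    rw [map_mul, map_mul, MulAut.mul_apply, MulAut.mul_apply, hinvd, map_mul (ρ z), map_inv, h.fix,
      (hfb q hq).1, ← hinvd, hwinv]
  have hzd : ρ z (ρ w d) = ρ w d := by rw [hqe, map_mul, h.fix, (hfb q hq).1]
  have hcomm : w * z * w⁻¹ * z = z * (w * z * w⁻¹) := by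
    refine h.inj (MulEquiv.ext fun v => ?_)
    have e1 : ρ (w * z * w⁻¹) (dsp ρ z v) = dsp ρ z v := by
      obtain ⟨i, hi⟩ := h.move v
      rw [← hi]
      show ρ _ (d ^ i) = d ^ i
      rw [map_zpow, hzwd]
    have e2 : ρ z (dsp ρ (w * z * w⁻¹) v) = dsp ρ (w * z * w⁻¹) v := by
      obtain ⟨i, hi⟩ := h.conj_move w v
      rw [← hi]
      show ρ z (ρ w d ^ i) = ρ w d ^ i
      rw [map_zpow, hzd]
    rw [map_mul, map_mul ρ z, MulAut.mul_apply, MulAut.mul_apply, apply_eq (ρ := ρ) z v, map_mul, e1,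
      apply_eq (ρ := ρ) (w * z * w⁻¹) v, map_mul, e2, apply_eq (ρ := ρ) z v, mul_right_comm]
  exact h.conj_not_mem (h.conj_not_mem hg) (h.mem_of_commute hcomm)

/-- The torus of `z` and a conjugate outside `M`. -/
theorem torus {g : L} (hg : g ∉ M) :
    ∃ s : ℕ, (s : ZMod p) ≠ 0 ∧ ρ z (ρ g d) = ρ g d * d ^ s ∧
      (∀ v : V, ∃ (i j : ℕ) (f : V), v = d ^ i * ρ g d ^ j * f ∧ ρ z f = f ∧ ρ (g * z * g⁻¹) f = f) ∧
      ∀ c : ZMod p, c ≠ 0 → ∃ k : L, ρ k d = d ^ c.val ∧ ρ k (ρ g d) = ρ g d ^ c⁻¹.val ∧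
        (∀ f : V, ρ z f = f → ρ (g * z * g⁻¹) f = f → ρ k f = f) ∧
        k * z * k⁻¹ = z ^ (c * c).val := by
  have hd1 := h.d_ne
  set b := ρ g d with hb
  set w := g * z * g⁻¹ with hw
  have hb1 : b ≠ 1 := fun e => hd1 ((ρ g).injective (by rw [← hb, e, map_one]))
  have hwb : ρ w b = b := h.conj_fix g
  obtain ⟨s, hs⟩ := exists_pow_eq h.exp (h.move b)
  obtain ⟨t, ht⟩ := exists_pow_eq h.exp (h.conj_move g d)
  have hzb : ρ z b = b * d ^ s := by rw [apply_eq (ρ := ρ) z b, hs]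
  have hwd : ρ w d = d * b ^ t := by rw [apply_eq (ρ := ρ) w d, ht]
  have hs0 : (s : ZMod p) ≠ 0 := fun h0 => h.opp hg (by
    rw [← hb, hzb, pow_cast h.exp d (h0.trans Nat.cast_zero.symm), pow_zero, mul_one])
  have ht0 : (t : ZMod p) ≠ 0 := fun h0 => by
    have hwd' : ρ w d = d := by
      rw [hwd, pow_cast h.exp b (h0.trans Nat.cast_zero.symm), pow_zero, mul_one]
    refine h.opp (g := g⁻¹) (fun hm => hg (by simpa using inv_mem hm)) ?_
    have h1 := congrArg (ρ g⁻¹) hwd'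
    rw [← MulAut.mul_apply, ← map_mul,
      show g⁻¹ * w = z * g⁻¹ by rw [hw]; simp [mul_assoc], map_mul, MulAut.mul_apply] at h1
    exact h1
  have hdec : ∀ v : V, ∃ (i j : ℕ) (f : V), v = d ^ i * b ^ j * f ∧ ρ z f = f ∧ ρ w f = f := by
    intro v
    obtain ⟨m, hm⟩ := exists_pow_eq h.exp (h.move v)
    obtain ⟨n, hn⟩ := exists_pow_eq h.exp (h.conj_move g v)
    set j := ((m : ZMod p) / s).val
    set i := ((n : ZMod p) / t).val
    have hj : s * j = s * j := rfl
    refine ⟨i, j, (d ^ i * b ^ j)⁻¹ * v, by rw [mul_inv_cancel_left], ?_, ?_⟩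
    · have e : ρ z v = v * d ^ m := by rw [apply_eq (ρ := ρ) z v, hm]
      rw [map_mul, map_inv, map_mul, map_pow, map_pow, h.fix, hzb, e, mul_pow, ← pow_mul,
        pow_cast h.exp d (m := s * j) (n := m) (by
          push_cast; rw [ZMod.natCast_zmod_val]; field_simp)]
      simp [mul_assoc, mul_left_comm, mul_comm]
    · have e : ρ w v = v * b ^ n := by rw [apply_eq (ρ := ρ) w v, hn]
      rw [map_mul, map_inv, map_mul, map_pow, map_pow, hwb, hwd, e, mul_pow, ← pow_mul,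
        pow_cast h.exp b (m := t * i) (n := n) (by
          push_cast; rw [ZMod.natCast_zmod_val]; field_simp)]
      simp [mul_assoc, mul_left_comm, mul_comm]
  refine ⟨s, hs0, hzb, hdec, fun c hc => ?_⟩
  obtain ⟨k, hk, hkd, hkb⟩ := exists_torus h.exp hs0 ht0 h.fix hzb hwb hwd hc
  have hkf : ∀ f : V, ρ z f = f → ρ w f = f → ρ k f = f := fun f h1 h2 => fix_of_mem_closure hk h1 h2
  refine ⟨k, hkd, hkb, hkf, ?_⟩
  have key : k * z = z ^ (c * c).val * k := by
    refine h.inj (MulEquiv.ext fun v => ?_)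
    obtain ⟨i, j, f, rfl, hzf, hwf⟩ := hdec v
    have hn := fun n => iter_apply (ρ := ρ) (h.fix_line (h.move b)) n
    have e1 : ρ (k * z) d = ρ (z ^ (c * c).val * k) d := by
      rw [map_mul, map_mul, MulAut.mul_apply, MulAut.mul_apply, h.fix, hkd, map_pow (ρ (z ^ _)),
        fix_pow h.fix]
    have e2 : ρ (k * z) f = ρ (z ^ (c * c).val * k) f := by
      rw [map_mul, map_mul, MulAut.mul_apply, MulAut.mul_apply, hzf, hkf f hzf hwf, fix_pow hzf]
    have e3 : ρ (k * z) b = ρ (z ^ (c * c).val * k) b := by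
      rw [map_mul, map_mul, MulAut.mul_apply, MulAut.mul_apply, hzb, map_mul, map_pow, hkd, hkb,
        map_pow (ρ (z ^ _)), hn, hs, mul_pow, ← pow_mul, ← pow_mul, ← pow_mul]
      congr 1
      refine pow_cast h.exp d ?_
      push_cast
      simp only [ZMod.natCast_zmod_val]
      field_simp
    generalize k * z = q at e1 e2 e3 ⊢
    generalize z ^ (c * c).val * k = q' at e1 e2 e3 ⊢
    simp only [map_mul, map_pow, e1, e2, e3]
  rw [key, mul_inv_cancel_right]

/-- An invariant character of `M` killing the line is invariant under the whole group. -/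
theorem fix_all (hp2 : 2 < p) {Q : Type*} [CommGroup Q] (hQ : ∀ q : Q, q ^ p = 1) (lam : V →* Q)
    (hd : lam d = 1) (P : Sylow p L) (hzP : z ∈ P.toSubgroup) (hPM : P.toSubgroup ≤ M)
    (hM : ∀ g ∈ M, ∀ v, lam (ρ g v) = lam v) : ∀ g : L, ∀ v, lam (ρ g v) = lam v := by
  classical
  let Fx : Subgroup L :=
    { carrier := {g | ∀ v, lam (ρ g v) = lam v}
      one_mem' := fun v => by simp
      mul_mem' := fun {a b} ha hb v => by rw [map_mul, MulAut.mul_apply, ha, hb]
      inv_mem' := fun {a} ha v => by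
        have h1 := ha (ρ a⁻¹ v)
        rw [← MulAut.mul_apply, ← map_mul, mul_inv_cancel, map_one, MulAut.one_apply] at h1
        exact h1.symm }
  intro g
  by_cases hg : g ∈ M
  · exact hM g hg
  obtain ⟨s, hs, hzb, hdec, htor⟩ := h.torus hg
  obtain ⟨k, hkd, hkb, -, hkz⟩ := htor (-1) (neg_ne_zero.mpr one_ne_zero)
  have hkM : k ∈ M := h.mem_of_commute (by
    rw [neg_mul_neg, one_mul, ZMod.val_one, pow_one] at hkz
    exact mul_inv_eq_iff_eq_mul.mp hkz)
  have hb1 : lam (ρ g d) = 1 := by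
    have h1 := hM k hkM (ρ g d)
    rw [hkb, map_pow] at h1
    generalize lam (ρ g d) = q at h1
    have h2 : ((((-1 : ZMod p)⁻¹).val + 1 : ℕ) : ZMod p) = 0 := by
      push_cast; rw [ZMod.natCast_zmod_val, inv_neg, inv_one, neg_add_cancel]
    have h3 : q ^ 2 = 1 := by
      obtain ⟨m, hm⟩ := (ZMod.natCast_eq_zero_iff _ p).mp h2
      calc q ^ 2 = q * q := sq q
        _ = q ^ (-1 : ZMod p)⁻¹.val * q := by rw [h1]
        _ = q ^ ((-1 : ZMod p)⁻¹.val + 1) := (pow_succ _ _).symm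
        _ = 1 := by rw [hm, pow_mul, hQ, one_pow]
    have h4 : orderOf q ∣ Nat.gcd 2 p := Nat.dvd_gcd (orderOf_dvd_of_pow_eq_one h3)
      (orderOf_dvd_of_pow_eq_one (hQ q))
    rw [show Nat.gcd 2 p = 1 from (Nat.coprime_primes Nat.prime_two hp.out).mpr (by omega)] at h4
    exact orderOf_eq_one_iff.mp (Nat.dvd_one.mp h4)
  set w := g * z * g⁻¹ with hw
  have hwF : w ∈ Fx := fun v => by
    obtain ⟨i, hi⟩ := h.conj_move g v
    rw [apply_eq (ρ := ρ) w v, map_mul, show dsp ρ w v = ρ g d ^ i from hi.symm, map_zpow, hb1, one_zpow,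
      mul_one]
  have hPF : P.toSubgroup ≤ Fx := fun x hx => hM x (hPM hx)
  have hwp : w ^ p = 1 := by rw [hw, conj_pow, h.zp, mul_one, mul_inv_cancel]
  let w' : Fx := ⟨w, hwF⟩
  have hW : IsPGroup p (Subgroup.zpowers w') := isPGroup_zp (Subtype.ext hwp)
  obtain ⟨Q', hQ'⟩ := hW.exists_le_sylow
  obtain ⟨y, hy⟩ := MulAction.exists_smul_eq Fx (P.subtype hPF) Q'
  have h5 : w' ∈ (Q' : Subgroup Fx) := hQ' (Subgroup.mem_zpowers w')
  rw [← hy, Sylow.coe_subgroup_smul, Subgroup.mem_pointwise_smul_iff_inv_smul_mem, Sylow.coe_subtype,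
    Subgroup.mem_subgroupOf] at h5
  have h6 : ((y : L)⁻¹ * g) * z * ((y : L)⁻¹ * g)⁻¹ ∈ M := by
    refine hPM ?_
    convert h5 using 1
    simp [w', hw, mul_assoc]
  have h7 : (y : L)⁻¹ * g ∈ M := by
    by_contra h8
    exact h.conj_not_mem h8 h6
  have h9 : g ∈ Fx := by
    have := mul_mem y.2 (show (y : L)⁻¹ * g ∈ Fx from hM _ h7)
    rwa [mul_inv_cancel_left] at this
  exact h9

end Rank1

end Cfsg.Agent.OrderFive52
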