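import Cfsg.Agent.OrderFive52.Three

/-!
# Weights of automorphisms in the configuration `Three`
-/

set_option autoImplicit false
set_option linter.unusedSectionVars false
set_option linter.style.haveILetI false

namespace Cfsg.Agent.OrderFive52

open scoped commutatorElement

variable {G : Type*} [Group G] {p : ℕ} [hp : Fact p.Prime] [Finite G] {R N : Subgroup G} {a f y v z : G}

namespace Three

variable (h : Three p R N a f y v z)
include h

theorem isPGroup : IsPGroup p G := IsPGroup.of_card h.card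

theorem N_normal : N.Normal := PGroup.normal_of_index_eq_prime h.isPGroup h.idx

theorem ap : a ^ p = 1 := h.exp a h.ha

theorem zyA : ⁅z, y⁆ ∈ Subgroup.zpowers a := h.commN z h.zN y (h.le h.hy)

theorem A_normal : (Subgroup.zpowers a).Normal := ⟨fun u hu g => by
  obtain ⟨i, rfl⟩ := hu
  have hc := Subgroup.mem_center_iff.mp (Subgroup.zpow_mem _ h.aZ i) g
  show g * a ^ i * g⁻¹ ∈ _
  rw [hc, mul_inv_cancel_right]
  exact Subgroup.zpow_mem _ (Subgroup.mem_zpowers a) i⟩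

theorem mem_center_of_mem_A {u : G} (hu : u ∈ Subgroup.zpowers a) : u ∈ Subgroup.center G :=
  Subgroup.zpowers_le.mpr h.aZ hu

theorem dec (g : G) : ∃ n ∈ N, ∃ k < p, g = n * v ^ k := exists_mul_pow h.isPGroup h.idx h.vN g

theorem decN {n : G} (hn : n ∈ N) : ∃ r ∈ R, ∃ k < p, n = r * z ^ k := by
  have hi : (R.subgroupOf N).index = p := index_of_card h.cN (by
    rw [Nat.card_congr (Subgroup.subgroupOfEquivOfLe h.le).toEquiv, h.cR])
  obtain ⟨r, hr, k, hk, e⟩ :=
    exists_mul_pow (h.isPGroup.to_subgroup N) hi (u := ⟨z, h.zN⟩) h.zR ⟨n, hn⟩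
  exact ⟨r, hr, k, hk, congrArg Subtype.val e⟩

theorem aN {n : G} : n * a = a * n := Subgroup.mem_center_iff.mp h.aZ n

theorem comm_f (g : G) : ⁅g, f⁆ ∈ Subgroup.zpowers a := by
  obtain ⟨n, hn, k, -, rfl⟩ := h.dec g
  haveI := h.A_normal
  have h1 : (⁅n, f⁆ : G) = 1 := commutatorElement_eq_one_iff_mul_comm.mpr (h.fN n hn)
  have hv : Commute (v : G ⧸ Subgroup.zpowers a) (f : G ⧸ Subgroup.zpowers a) := by
    rw [commute_iff_eq, ← commutatorElement_eq_one_iff_mul_comm, ← QuotientGroup.mk'_apply,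
      ← QuotientGroup.mk'_apply, ← map_commutatorElement, mem_quot_one_iff]
    exact h.vf
  have hn' : Commute (n : G ⧸ Subgroup.zpowers a) (f : G ⧸ Subgroup.zpowers a) := by
    rw [commute_iff_eq, ← QuotientGroup.mk_mul, h.fN n hn, QuotientGroup.mk_mul]
  rw [← mem_quot_one_iff, map_commutatorElement, commutatorElement_eq_one_iff_mul_comm, map_mul, map_pow]
  exact (hn'.mul_left (hv.pow_left k)).eq

theorem W_normal : (Subgroup.zpowers a ⊔ Subgroup.zpowers f).Normal := ⟨fun w hw g => by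
  have hle : Subgroup.zpowers a ⊔ Subgroup.zpowers f ≤
      (Subgroup.zpowers a ⊔ Subgroup.zpowers f).comap (MulAut.conj g).toMonoidHom := by
    refine sup_le (Subgroup.zpowers_le.mpr ?_) (Subgroup.zpowers_le.mpr ?_)
    · rw [Subgroup.mem_comap, MulEquiv.coe_toMonoidHom, MulAut.conj_apply, h.aN, mul_inv_cancel_right]
      exact Subgroup.mem_sup_left (Subgroup.mem_zpowers a)
    · rw [Subgroup.mem_comap, MulEquiv.coe_toMonoidHom, MulAut.conj_apply,
        show g * f * g⁻¹ = ⁅g, f⁆ * f by rw [commutatorElement_def, inv_mul_cancel_right]]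
      exact mul_mem (Subgroup.mem_sup_left (h.comm_f g)) (Subgroup.mem_sup_right (Subgroup.mem_zpowers f))
  exact hle hw⟩

theorem commute_W {w n : G} (hw : w ∈ Subgroup.zpowers a ⊔ Subgroup.zpowers f) (hn : n ∈ N) :
    n * w = w * n := by
  have hle : Subgroup.zpowers a ⊔ Subgroup.zpowers f ≤ Subgroup.centralizer {n} := sup_le
    (Subgroup.zpowers_le.mpr (Subgroup.mem_centralizer_singleton_iff.mpr h.aN.symm))
    (Subgroup.zpowers_le.mpr (Subgroup.mem_centralizer_singleton_iff.mpr (h.fN n hn).symm))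
  exact (Subgroup.mem_centralizer_singleton_iff.mp (hle hw)).symm

theorem W_le : Subgroup.zpowers a ⊔ Subgroup.zpowers f ≤ R :=
  sup_le (Subgroup.zpowers_le.mpr h.ha) (Subgroup.zpowers_le.mpr h.hf)

theorem card_W : Nat.card (Subgroup.zpowers a ⊔ Subgroup.zpowers f : Subgroup G) = p ^ 2 := by
  have ha1 : a ≠ 1 := fun e => h.zy1 (by simpa [e] using h.zyA)
  haveI := h.A_normal
  refine le_antisymm ((card_sup_zpowers_le (by rw [h.exp f h.hf]; exact one_mem _)).trans
    (by rw [sq]; exact Nat.mul_le_mul_right _ (card_zpowers_le h.ap))) ?_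
  have := mul_card_le_sup h.isPGroup h.fA
  rwa [Nat.card_zpowers, orderOf_eq_prime h.ap ha1, ← sq] at this

theorem comm_cube_center (u w : G) (W : Subgroup G) [W.Normal]
    (hW : W = Subgroup.zpowers a ⊔ Subgroup.zpowers f) :
    ⁅(u : G ⧸ W), (w : G ⧸ W)⁆ ∈ Subgroup.center (G ⧸ W) := by
  refine comm_mem_center_cube (p := p) ?_ _ _
  have := Subgroup.card_eq_card_quotient_mul_card_subgroup W
  rw [hW, h.card_W, h.card, show p ^ 5 = p ^ 3 * p ^ 2 by ring] at this
  rw [hW]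
  exact (Nat.eq_of_mul_eq_mul_right (pow_pos hp.out.pos 2) this).symm

theorem zy_pow : ⁅z, y⁆ ^ p = 1 := by
  obtain ⟨i, hi⟩ := exists_pow_of_mem_zpowers h.ap h.zyA
  rw [hi, ← pow_mul, mul_comm, pow_mul, h.ap, one_pow]

/-- The weights of an automorphism acting diagonally on `a, y, f`. -/
theorem weights (ψ : MulAut G) {c d : ℕ} (ha : ψ a = a ^ c) (hy : ψ y = y ^ d) :
    ∃ n ∈ N, ∃ m : ℕ, ψ v = n * v ^ m ∧ (m : ZMod p) * d * d = c ∧
      ∃ w ∈ Subgroup.zpowers a ⊔ Subgroup.zpowers f, ψ z = z ^ (m * d) * w := by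
  obtain ⟨n, hn, m, -, hv⟩ := h.dec (ψ v)
  haveI := h.W_normal
  set W := Subgroup.zpowers a ⊔ Subgroup.zpowers f with hW
  have hψz : ψ z = ⁅n * v ^ m, y ^ d⁆ := by rw [← h.zdef, map_commutatorElement, hv, hy]
  have hq : (ψ z : G ⧸ W) = ((z ^ (m * d) : G) : G ⧸ W) := by
    rw [hψz, ← QuotientGroup.mk'_apply, map_commutatorElement, map_mul, map_pow, map_pow,
      QuotientGroup.mk'_apply, QuotientGroup.mk'_apply, QuotientGroup.mk'_apply]
    have hz : (z : G ⧸ W) = ⁅(v : G ⧸ W), (y : G ⧸ W)⁆ := by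
      rw [← h.zdef, ← QuotientGroup.mk'_apply, map_commutatorElement]; rfl
    have hc := h.comm_cube_center v y W hW
    have hn0 : ⁅(n : G ⧸ W), (y : G ⧸ W) ^ d⁆ = 1 := by
      rw [← QuotientGroup.mk'_apply, ← QuotientGroup.mk'_apply, ← map_pow, ← map_commutatorElement,
        mem_quot_one_iff]
      exact Subgroup.mem_sup_left (h.commN n hn _ (pow_mem (h.le h.hy) d))
    have hc' : ⁅(v : G ⧸ W) ^ m, (y : G ⧸ W) ^ d⁆ ∈ Subgroup.center (G ⧸ W) := by
      rw [cpow hc]; exact Subgroup.pow_mem _ hc _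
    rw [cmul_left hc', hn0, one_mul, cpow hc, ← hz, QuotientGroup.mk_pow]
  obtain ⟨w, hw, hwe⟩ : ∃ w ∈ W, ψ z = z ^ (m * d) * w :=
    ⟨_, QuotientGroup.eq.mp hq.symm, (mul_inv_cancel_left _ _).symm⟩
  refine ⟨n, hn, m, hv, ?_, w, hw, hwe⟩
  have hcz : ⁅z, y⁆ ∈ Subgroup.center G := h.mem_center_of_mem_A h.zyA
  have hwy : ⁅w, y ^ d⁆ = 1 :=
    commutatorElement_eq_one_iff_mul_comm.mpr (h.commute_W hw (pow_mem (h.le h.hy) d)).symm
  have e1 : ψ ⁅z, y⁆ = ⁅z, y⁆ ^ (m * d * d) := by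
    rw [map_commutatorElement, hwe, hy, cmul_left (by rw [hwy]; exact one_mem _), hwy, mul_one, cpow hcz]
  obtain ⟨i, hi⟩ := exists_pow_of_mem_zpowers h.ap h.zyA
  have e2 : ψ ⁅z, y⁆ = ⁅z, y⁆ ^ c := by rw [hi, map_pow, ha, ← pow_mul, ← pow_mul, mul_comm]
  have := cast_eq_of_pow_eq h.zy_pow h.zy1 (e1.symm.trans e2)
  push_cast at this
  exact this

/-- If `⁅v, f⁆ ≠ 1` then the torus has exponent two. -/
theorem f_rel (ψ : MulAut G) {c d : ℕ} (ha : ψ a = a ^ c) (hy : ψ y = y ^ d) (hf : ψ f = f)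
    (hcd : (c : ZMod p) * d = 1) (hne : ⁅v, f⁆ ≠ 1) : (c : ZMod p) * c = 1 := by
  obtain ⟨n, hn, m, hv, hm, -⟩ := h.weights ψ ha hy
  have hcf : ⁅v, f⁆ ∈ Subgroup.center G := h.mem_center_of_mem_A h.vf
  have hnf : ⁅n, f⁆ = 1 := commutatorElement_eq_one_iff_mul_comm.mpr (h.fN n hn)
  have e1 : ψ ⁅v, f⁆ = ⁅v, f⁆ ^ m := by
    rw [map_commutatorElement, hv, hf, cmul_left (by rw [cpow_left hcf]; exact Subgroup.pow_mem _ hcf _),
      hnf, one_mul, cpow_left hcf]
  obtain ⟨i, hi⟩ := exists_pow_of_mem_zpowers h.ap h.vf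
  have e2 : ψ ⁅v, f⁆ = ⁅v, f⁆ ^ c := by rw [hi, map_pow, ha, ← pow_mul, ← pow_mul, mul_comm]
  have hmc := cast_eq_of_pow_eq (by rw [hi, ← pow_mul, mul_comm, pow_mul, h.ap, one_pow]) hne (e1.symm.trans e2)
  rw [hmc, mul_assoc] at hm
  have hc0 : (c : ZMod p) ≠ 0 := left_ne_zero_of_mul_eq_one hcd
  have hdd : (d : ZMod p) * d = 1 := mul_left_cancel₀ hc0 (by rw [hm, mul_one])
  calc (c : ZMod p) * c = c * c * (d * d) := by rw [hdd, mul_one]
    _ = (c * d) * (c * d) := by ring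
    _ = 1 := by rw [hcd, mul_one]

theorem neg_one_weights {c d m : ℕ} (hc : (c : ZMod p) = -1) (hd : (d : ZMod p) = -1)
    (hm : (m : ZMod p) * d * d = c) : (m : ZMod p) = -1 := by
  rw [hd, hc] at hm
  simpa using hm

/-- The torus element with `c = -1` puts `⁅v, z⁆` into `⟨a⟩`. -/
theorem vz_mem (hp2 : p ≠ 2) (ψ : MulAut G) {c d : ℕ} (ha : ψ a = a ^ c) (hy : ψ y = y ^ d) (hf : ψ f = f)
    (hc : (c : ZMod p) = -1) (hd : (d : ZMod p) = -1) : ⁅v, z⁆ ∈ Subgroup.zpowers a := by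
  obtain ⟨n, hn, m, hv, hm, w, hw, hz⟩ := h.weights ψ ha hy
  have hm1 := h.neg_one_weights hc hd hm
  haveI := h.A_normal
  set A := Subgroup.zpowers a
  have hfc : (f : G ⧸ A) ∈ Subgroup.center (G ⧸ A) := mem_center_quot h.comm_f
  have hWc : ∀ u ∈ Subgroup.zpowers a ⊔ Subgroup.zpowers f, (u : G ⧸ A) ∈ Subgroup.center (G ⧸ A) := by
    intro u hu
    have hle : Subgroup.zpowers a ⊔ Subgroup.zpowers f ≤
        (Subgroup.center (G ⧸ A)).comap (QuotientGroup.mk' A) := by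
      refine sup_le (fun x hx => ?_) (Subgroup.zpowers_le.mpr hfc)
      rw [Subgroup.mem_comap, mem_quot_one_iff.mpr hx]
      exact one_mem _
    exact hle hu
  have hvzc := hWc _ h.vz
  rw [← QuotientGroup.mk'_apply, map_commutatorElement, QuotientGroup.mk'_apply, QuotientGroup.mk'_apply]
    at hvzc
  have hnz : ⁅(n : G ⧸ A), (z : G ⧸ A)⁆ = 1 := by
    rw [← QuotientGroup.mk'_apply, ← QuotientGroup.mk'_apply, ← map_commutatorElement, mem_quot_one_iff]
    exact h.commN n hn z h.zN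
  have e1 : ((ψ ⁅v, z⁆ : G) : G ⧸ A) = ((⁅v, z⁆ ^ (m * (m * d)) : G) : G ⧸ A) := by
    rw [map_commutatorElement, hv, hz, ← QuotientGroup.mk'_apply, ← QuotientGroup.mk'_apply,
      map_commutatorElement, map_mul, map_mul, map_pow, map_pow, map_pow, map_commutatorElement]
    simp only [QuotientGroup.mk'_apply]
    have h1 : ∀ t : G ⧸ A, ⁅t, (w : G ⧸ A)⁆ = 1 := fun t =>
      commutatorElement_eq_one_iff_mul_comm.mpr (Subgroup.mem_center_iff.mp (hWc w hw) t)
    rw [cmul_right (by rw [h1]; exact one_mem _), h1, mul_one,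
      cmul_left (by rw [cpow hvzc]; exact Subgroup.pow_mem _ hvzc _), cpow hvzc,
      commutatorElement_eq_one_iff_mul_comm.mpr ((show Commute (n : G ⧸ A) (z : G ⧸ A) from
        commutatorElement_eq_one_iff_mul_comm.mp hnz).pow_right _).eq, one_mul]
  obtain ⟨u, hu, t, ht, he⟩ := Subgroup.mem_sup_of_normal_left.mp h.vz
  obtain ⟨j, rfl⟩ := exists_pow_of_mem_zpowers (h.exp f h.hf) ht
  rw [← he] at e1 ⊢
  rw [map_mul, map_pow, hf] at e1
  obtain ⟨i, rfl⟩ := exists_pow_of_mem_zpowers h.ap hu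
  rw [map_pow, ha] at e1
  simp only [QuotientGroup.mk_mul, QuotientGroup.mk_pow, show (a : G ⧸ A) = 1 from
    (QuotientGroup.eq_one_iff a).mpr (Subgroup.mem_zpowers a), one_pow, one_mul, ← pow_mul] at e1
  have hfp : ((f : G) : G ⧸ A) ^ p = 1 := by rw [← QuotientGroup.mk_pow, h.exp f h.hf, QuotientGroup.mk_one]
  have hf1 : (f : G ⧸ A) ≠ 1 := fun e => h.fA ((QuotientGroup.eq_one_iff f).mp e)
  have hj := cast_eq_of_pow_eq hfp hf1 e1
  push_cast at hj
  rw [hm1, hd] at hj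
  have hj0 : (j : ZMod p) = 0 := by
    have h2 : (2 : ZMod p) * j = 0 := by linear_combination hj
    refine (mul_eq_zero.mp h2).resolve_left fun h2' => hp2 ?_
    exact ((Nat.prime_dvd_prime_iff_eq hp.out Nat.prime_two).mp
      ((ZMod.natCast_eq_zero_iff 2 p).mp (by exact_mod_cast h2')))
  rw [pow_cast_eq (h.exp f h.hf) (j := 0) (by rw [hj0, Nat.cast_zero]), pow_zero, mul_one]
  exact Subgroup.pow_mem _ (Subgroup.mem_zpowers a) i

/-- Correct `v` by a power of `y` so that it centralises `z`. -/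
theorem exists_centralizing (hvz : ⁅v, z⁆ ∈ Subgroup.zpowers a) :
    ∃ v', Three p R N a f y v' z ∧ ⁅v', z⁆ = 1 := by
  have hq := h.zy_pow
  obtain ⟨k, hk⟩ : ∃ k, ⁅v, z⁆ = ⁅z, y⁆ ^ k := by
    refine exists_pow_of_mem_zpowers hq (?_ : ⁅v, z⁆ ∈ Subgroup.zpowers ⁅z, y⁆)
    have ha1 : a ≠ 1 := fun e => h.zy1 (by simpa [e] using h.zyA)
    rw [Subgroup.eq_of_le_of_card_ge (Subgroup.zpowers_le.mpr h.zyA) (by
      rw [Nat.card_zpowers, Nat.card_zpowers, orderOf_eq_prime hq h.zy1, orderOf_eq_prime h.ap ha1])]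
    exact hvz
  refine ⟨v * y ^ k, ?_, ?_⟩
  · have hyN : y ^ k ∈ N := pow_mem (h.le h.hy) k
    refine { h with
      vN := fun hm => h.vN (by simpa using mul_mem hm (inv_mem hyN))
      zdef := ?_
      vf := ?_
      vz := Subgroup.mem_sup_left ?_ }
    · rw [← h.zdef]
      simp only [commutatorElement_def]
      have : Commute (y ^ k) y := (Commute.refl y).pow_left k
      rw [mul_assoc v, mul_assoc v, this.eq]
      group
    · exact h.comm_f _
    · rw [show ⁅v * y ^ k, z⁆ = v * ⁅y ^ k, z⁆ * (z * v⁻¹ * z⁻¹) by simp only [commutatorElement_def]; group]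
      have hc : ⁅y ^ k, z⁆ ∈ Subgroup.center G := h.mem_center_of_mem_A (h.commN _ hyN z h.zN)
      rw [Subgroup.mem_center_iff.mp hc v, mul_assoc]
      refine mul_mem (h.commN _ hyN z h.zN) ?_
      convert hvz using 1
      simp only [commutatorElement_def]; group
  · have hc : ⁅y, z⁆ ∈ Subgroup.center G := h.mem_center_of_mem_A (h.commN y (h.le h.hy) z h.zN)
    rw [cmul_left (by rw [cpow_left hc]; exact Subgroup.pow_mem _ hc _), cpow_left hc, hk,
      ← commutatorElement_inv z y, inv_pow, mul_inv_cancel]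

/-- Centrality of `f` gives an abelian subgroup of order `p ^ 4`. -/
theorem false_of_comm (hvz : ⁅v, z⁆ = 1) (hvf : ⁅v, f⁆ = 1) : False := by
  haveI := h.W_normal
  set W := Subgroup.zpowers a ⊔ Subgroup.zpowers f with hW
  set H := Subgroup.closure ({a, f, z, v} : Set G)
  have hcomm : ∀ x ∈ H, ∀ y' ∈ H, x * y' = y' * x := by
    intro x hx y' hy'
    have hs : ∀ u ∈ ({a, f, z, v} : Set G), ∀ w ∈ ({a, f, z, v} : Set G), ⁅u, w⁆ ∈ (⊥ : Subgroup G) := by
      have e1 : ∀ g : G, g * a = a * g := fun g => h.aN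
      have e2 : z * f = f * z := h.fN z h.zN
      have e3 := commutatorElement_eq_one_iff_mul_comm.mp hvz
      have e4 := commutatorElement_eq_one_iff_mul_comm.mp hvf
      rintro u (rfl | rfl | rfl | rfl) w (rfl | rfl | rfl | rfl) <;>
        rw [Subgroup.mem_bot, commutatorElement_eq_one_iff_mul_comm] <;>
        first | rfl | exact e1 _ | exact (e1 _).symm | exact e2 | exact e2.symm | exact e3 | exact e3.symm |
          exact e4 | exact e4.symm
    exact commutatorElement_eq_one_iff_mul_comm.mp (Subgroup.mem_bot.mp (comm_mem_of_closure hs hx hy'))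
  have hWz : p * Nat.card W ≤ Nat.card (W ⊔ Subgroup.zpowers z : Subgroup G) :=
    mul_card_le_sup h.isPGroup fun hz => h.zR (h.W_le hz)
  have hle : W ⊔ Subgroup.zpowers z ≤ N :=
    sup_le (h.W_le.trans h.le) (Subgroup.zpowers_le.mpr h.zN)
  have hv : p * Nat.card (W ⊔ Subgroup.zpowers z : Subgroup G) ≤
      Nat.card (W ⊔ Subgroup.zpowers z ⊔ Subgroup.zpowers v : Subgroup G) :=
    mul_card_le_sup h.isPGroup fun hm => h.vN (hle hm)
  have hH : W ⊔ Subgroup.zpowers z ⊔ Subgroup.zpowers v ≤ H := by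
    refine sup_le (sup_le (sup_le ?_ ?_) ?_) ?_ <;>
      exact Subgroup.zpowers_le.mpr (Subgroup.subset_closure (by simp))
  have h4 := h.nab H hcomm
  have h5 := Subgroup.card_le_of_le hH
  rw [hW, h.card_W] at hWz
  have : p ^ 4 ≤ Nat.card H := by
    calc p ^ 4 = p * (p * p ^ 2) := by ring
      _ ≤ p * Nat.card (W ⊔ Subgroup.zpowers z : Subgroup G) := Nat.mul_le_mul_left _ hWz
      _ ≤ _ := hv.trans h5
  omega

end Three

end Cfsg.Agent.OrderFive52
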